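/- S3330: the last step of case II. -/
import Cfsg.Agent.H91.S8II
import Cfsg.Agent.H14.FStar

set_option autoImplicit false
set_option linter.unusedSectionVars false

namespace H67.S8

open Cfsg Subgroup H98 Equiv H19.S8 H91.S8 H56.L3 H42.L3

universe u

abbrev A5 := alternatingGroup (Fin 5)

theorem sgA (a : A5) : Perm.sign (a : S5) = 1 := Perm.mem_alternatingGroup.1 a.2

/-- the embedding of `A₅ × A₅` -/
def mu : A5 × A5 →* B where
  toFun x := pr x.1 x.2 ((sgA x.1).trans (sgA x.2).symm)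
  map_one' := rfl
  map_mul' _ _ := rfl

theorem mu_inj : Function.Injective mu := fun _ _ e =>
  Prod.ext (Subtype.ext (congrArg (fun z : B => z.1.1) e))
    (Subtype.ext (congrArg (fun z : B => z.1.2) e))

variable {G : Type u} [Group G] [Finite G] {ψ : B →* G} {s : G}

/-- the normal subgroup -/
abbrev NN (ψ : B →* G) : Subgroup G := (ψ.comp mu).range

theorem mem_of_sg {x : B} (e : Perm.sign x.1.1 = 1) : ψ x ∈ NN ψ :=
  ⟨(⟨x.1.1, Perm.mem_alternatingGroup.2 e⟩,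
    ⟨x.1.2, Perm.mem_alternatingGroup.2 ((sg x).symm.trans e)⟩), congrArg ψ (ext' rfl rfl)⟩

section

variable (h : Q ψ s) (ht : HH ψ s = ⊤)
include h

theorem sg_of_mem {x : B} (e : ψ x ∈ NN ψ) : Perm.sign x.1.1 = 1 := by
  obtain ⟨y, hy⟩ := e
  rw [← h.inj hy]
  exact sgA y.1

theorem not_mem (x : B) : ψ x * s ∉ NN ψ := fun ⟨_, hy⟩ => h.ne_s _ x hy

include ht

theorem all (g : G) : ∃ x, g = ψ x ∨ g = ψ x * s := h.cases (ht ▸ mem_top g)

theorem normal : (NN ψ).Normal := ⟨by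
  rintro _ ⟨y, rfl⟩ g
  obtain ⟨x, rfl | rfl⟩ := all h ht g
  · exact (H91.S8.map_cj (ψ := ψ) x (mu y)).symm ▸ mem_of_sg ((sg_cj _ _).trans (sgA y.1))
  · exact (h.cj_s x (mu y)).symm ▸ mem_of_sg ((sg_cj _ _).trans (sgA y.2))⟩

theorem sq_mem (g : G) : g ^ 2 ∈ NN ψ := by
  obtain ⟨x, rfl | rfl⟩ := all h ht g
  · rw [sq, ← map_mul]
    refine mem_of_sg ?_
    change Perm.sign (x.1.1 * x.1.1) = 1
    rw [map_mul, Int.units_mul_self]
  · rw [sq, mul_assoc, ← mul_assoc s, h.s_mul, mul_assoc, h.ss, mul_one, ← map_mul]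
    refine mem_of_sg ?_
    change Perm.sign (x.1.1 * x.1.2) = 1
    rw [map_mul, ← sg, Int.units_mul_self]

theorem index_eq : (NN ψ).index = 4 := by
  have h1 : NN ψ ≤ ψ.range := by rintro _ ⟨y, rfl⟩; exact ⟨_, rfl⟩
  have h2 : ψ.range.index = 2 := index_eq_two_iff.2 ⟨s, fun g => by
    obtain ⟨x, rfl | rfl⟩ := all h ht g
    · exact .inr ⟨⟨x, rfl⟩, fun ⟨y, hy⟩ => h.ne_s y x hy⟩
    · exact .inl ⟨⟨x, by rw [mul_assoc, h.ss, mul_one]⟩, fun ⟨y, hy⟩ => h.ne_s y x hy⟩⟩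
  have h3 : (NN ψ).relIndex ψ.range = 2 := index_eq_two_iff.2 ⟨⟨ψ τB, τB, rfl⟩, by
    rintro ⟨_, x, rfl⟩
    have e1 : Perm.sign (x * τB).1.1 = -Perm.sign x.1.1 := by
      change Perm.sign (x.1.1 * r) = _
      rw [map_mul, show Perm.sign r = -1 by decide +kernel, mul_neg_one]
    change Xor' (ψ x * ψ τB ∈ NN ψ) (ψ x ∈ NN ψ)
    rw [← map_mul]
    rcases Int.units_eq_one_or (Perm.sign x.1.1) with e | e
    · exact .inr ⟨mem_of_sg e, fun k => absurd (sg_of_mem h k) (by rw [e1, e]; decide)⟩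
    · exact .inl ⟨mem_of_sg (by rw [e1, e, neg_neg]),
        fun k => absurd (sg_of_mem h k) (by rw [e]; decide)⟩⟩
  rw [← relIndex_mul_index h1, h2, h3]

theorem cen_bot : centralizer (NN ψ : Set G) = ⊥ := by
  refine eq_bot_iff.2 fun g hg => ?_
  obtain ⟨x, rfl | rfl⟩ := all h ht g
  · have k : ∀ y : B, Perm.sign y.1.1 = 1 → x * y = y * x := fun y e =>
      h.inj (by rw [map_mul, map_mul]; exact (hg _ (mem_of_sg e)).symm)
    have k1 := (f5 x.1.1).2 (congrArg (fun z : B => z.1.1) (k (pr c 1) (by decide +kernel)))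
      (congrArg (fun z : B => z.1.1) (k (pr v 1) (by decide +kernel)))
    have k2 := (f5 x.1.2).2 (congrArg (fun z : B => z.1.2) (k (pr 1 c) (by decide +kernel)))
      (congrArg (fun z : B => z.1.2) (k (pr 1 v) (by decide +kernel)))
    rw [show x = 1 from ext' k1 k2, map_one]
    exact one_mem _
  · have k := h.cj_s x zB
    rw [← hg _ (mem_of_sg (x := zB) (by decide +kernel)), mul_inv_cancel_right] at k
    have k1 : 1 = x.1.1 * d * x.1.1⁻¹ := congrArg (fun z : B => z.1.1) (h.inj k)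
    exact absurd (conj_eq_one_iff.1 k1.symm) (by decide +kernel)

theorem minimal (K : Subgroup G) (hK : K.Normal) (hle : K ≤ NN ψ) : K = ⊥ ∨ K = NN ψ := by
  refine or_iff_not_imp_left.2 fun hb => le_antisymm hle ?_
  obtain ⟨x, hx, h1, h2⟩ : ∃ x : B, ψ x ∈ K ∧ Perm.sign x.1.1 = 1 ∧ x.1.1 ≠ 1 := by
    obtain ⟨⟨k, hk⟩, h1⟩ := ne_bot_iff_exists_ne_one.1 hb
    obtain ⟨y, rfl⟩ := hle hk
    by_cases e : (mu y).1.1 = 1
    · refine ⟨sw (mu y), h.cj _ ▸ hK.conj_mem _ hk s, sgA y.2, fun e' => h1 (Subtype.ext ?_)⟩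
      change ψ (mu y) = 1
      rw [show mu y = 1 from ext' e e', map_one]
    · exact ⟨mu y, hk, sgA y.1, e⟩
  obtain ⟨a, ha, h3⟩ : ∃ a : S5, Perm.sign a = 1 ∧ x.1.1 * a ≠ a * x.1.1 := by
    by_contra k
    push Not at k
    exact h2 ((f5 _).2 (k c (by decide +kernel)) (k v (by decide +kernel)))
  let f : A5 →* G := (ψ.comp mu).comp (MonoidHom.inl _ _)
  have h4 : K.comap f = ⊤ := by
    refine ((hK.comap f).eq_bot_or_eq_top).resolve_left fun k => h3 ?_
    have e : Perm.sign (x.1.1 * a * x.1.1⁻¹ * a⁻¹) = 1 := by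
      rw [map_mul, sg_cj, map_inv, mul_inv_cancel]
    have m : (⟨_, Perm.mem_alternatingGroup.2 e⟩ : A5) ∈ K.comap f := by
      have m1 := mul_mem hx (hK.conj_mem _ (inv_mem hx) (ψ (pr a 1 (one_sg ha).symm)))
      rw [← map_inv, H91.S8.map_cj, ← map_mul] at m1
      refine (congrArg (fun z => ψ z ∈ K) (ext' ?_ ?_)).mpr m1
      · change x.1.1 * a * x.1.1⁻¹ * a⁻¹ = x.1.1 * (a * x.1.1⁻¹ * a⁻¹)
        group
      · change (1 : S5) = x.1.2 * (1 * x.1.2⁻¹ * 1⁻¹)
        group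
    rw [k, mem_bot] at m
    have m2 : x.1.1 * a * x.1.1⁻¹ * a⁻¹ = 1 := congrArg Subtype.val m
    rwa [mul_inv_eq_one, mul_inv_eq_iff_eq_mul] at m2
  have h5 : ∀ a : A5, ψ (mu (a, 1)) ∈ K := fun a => (h4.ge (mem_top a) : f a ∈ K)
  rintro _ ⟨⟨a, b⟩, rfl⟩
  have h6 := mul_mem (h5 a) (hK.conj_mem _ (h5 b) s)
  rw [h.cj, ← map_mul] at h6
  exact (congrArg ψ (ext' (mul_one _).symm (one_mul _).symm)).symm ▸ h6

theorem fstar_eq : generalizedFittingSubgroup G = NN ψ := by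
  have hN := normal h ht
  have k : ∀ K : Subgroup G, K.Normal → K ⊓ NN ψ = ⊥ → ⁅K, NN ψ⁆ = ⊥ := fun K _ e =>
    eq_bot_iff.2 ((commutator_le_inf K _).trans e.le)
  refine le_antisymm (sup_le (H14.layer_le_of_centralizer_le hN.isSubnormal
    ((cen_bot h ht).le.trans bot_le)) ?_) ?_
  · rcases minimal h ht (fittingSubgroup G ⊓ NN ψ) inferInstance inf_le_right with e | e
    · exact (commutator_eq_bot_iff_le_centralizer.1 (k _ inferInstance e)).trans
        ((cen_bot h ht).le.trans bot_le)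
    · exfalso
      have := H2.fitting_isNilpotent G
      let f : A5 →* fittingSubgroup G := ((ψ.comp mu).comp (MonoidHom.inl _ _)).codRestrict _
        fun a => (inf_eq_right.1 e) ⟨_, rfl⟩
      have hf : Function.Injective f := fun a b e' =>
        congrArg Prod.fst (mu_inj (h.inj (congrArg Subtype.val e')))
      have : Group.IsSolvable A5 := solvable_of_solvable_injective hf
      have k1 := IsSimpleGroup.comm_iff_isSolvable.2 this
        ⟨c, Perm.mem_alternatingGroup.2 (by decide +kernel)⟩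
        ⟨v, Perm.mem_alternatingGroup.2 (by decide +kernel)⟩
      exact absurd (congrArg Subtype.val k1) (by decide +kernel : c * v ≠ v * c)
  · rcases minimal h ht (generalizedFittingSubgroup G ⊓ NN ψ) inferInstance inf_le_right with e | e
    · exact (commutator_eq_bot_iff_le_centralizer.1 ((commutator_comm _ _).trans
        (k _ inferInstance e))).trans H14.centralizer_fstar_le
    · exact inf_eq_right.1 e

end

theorem jobFin : JobFin.{u} := by
  intro G _ _ l s T ht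
  have h1 : HH (psi T) s = ⊤ := top_le_iff.1 (ht.ge.trans (sup_le_sup_right (by
    rintro _ ⟨a, rfl⟩; exact ⟨_, psi_l T a⟩) _))
  have h : Q (psi T) s := ⟨psi_inj T, T.ss, psi_cj T, fun _ _ _ _ _ _ => h1 ▸ mem_top _,
    h1 ▸ le_top⟩
  exact ⟨NN (psi T), normal h h1, fstar_eq h h1,
    ⟨(MonoidHom.ofInjective (f := (psi T).comp mu) (h.inj.comp mu_inj)).symm⟩, minimal h h1, index_eq h h1, sq_mem h h1⟩

theorem jobII : JobII.{u} := H91.S8.jobII jobFin

end H67.S8
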