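/- Certificates for the involutions of the tori of the exceptional root systems and of D4. -/
import Cfsg.Agent.H67.InvW
import Cfsg.Agent.H65.All

set_option autoImplicit false
set_option linter.unusedSectionVars false

namespace H67.Sub

open Cfsg.Lie H63

/-- A table of integers indexed by a level and a root. -/
def tabT (T : List (List (ℕ × ℤ))) (j a : ℕ) : ℤ := ((T.getD j []).lookup a).getD 0

/-- The certificate for one node. -/
def CertOK {D : ChevalleyDatum} [RS D] (k : Fin D.rank) (L₁ L₂ : List (Rt D))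
    (T : List (List (ℕ × ℤ))) (W : List (Rt D × Rt D)) : Prop :=
  SimOK k (L₁ ++ L₂) ∧ InvOK (L₁ ++ L₂) (tabT T) ∧ DiagOK k L₁ L₂ (tabT T) W

theorem CertOK.split2 {D : ChevalleyDatum} [RS D] {k : Fin D.rank} {L₁ L₂ : List (Rt D)}
    {T : List (List (ℕ × ℤ))} {W : List (Rt D × Rt D)} (h : CertOK k L₁ L₂ T W)
    {ρ : Equiv.Perm (Rt D)} (hl : IsLin ρ) (hs : ∀ r ∈ Pk D k, ρ r ∈ Pk D k)
    (hp : ∀ r ∈ Pk D k, Pos r → Pos (ρ r)) : Split2 (Pk D k) ρ :=
  split2_of_cert h.1 h.2.1 h.2.2 hl hs hp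

theorem parG2 : parOK chevG2 [1] [(0, 0, 0), (0, 3, 2), (0, 0, 0), (1, 2, 1)] = true := by
  decide +kernel

theorem certG2_1 : CertOK (D := chevG2) ⟨1, by decide⟩ [⟨11, by decide⟩] [⟨7, by decide⟩]
    [[(11, 3), (7, 1)], [(11, 6), (7, 2)], [(11, 12), (7, 4)], [(11, 24), (7, 8)]] [] := by
  refine ⟨?_, ?_, ?_⟩ <;> decide +kernel

theorem parF4 : parOK chevF4 [0, 3] [(0, 0, 0), (0, 0, 0), (1, 3, 2), (0, 1, 1), (2, 14, 7), (0,
      7, 4), (2, 12, 2), (1, 6, 3), (0, 0, 0), (3, 13, 5), (3, 14, 7), (3, 15, 6), (3, 8, 1), (2,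
      7, 4), (1, 15, 6), (2, 5, 5)] = true := by
  decide +kernel

theorem certF4_0 : CertOK (D := chevF4) ⟨0, by decide⟩ [⟨41, by decide⟩, ⟨27, by decide⟩, ⟨25, by
      decide⟩, ⟨24, by decide⟩] []
    [[(41, 2), (27, 1), (25, 2), (24, 2)], [(41, 2), (27, -2), (25, 1), (24, 0)], [(41, 4), (27,
      -6), (25, 4), (24, -3)], [(41, 11), (27, -20), (25, 17), (24, -14)]] [] := by
  refine ⟨?_, ?_, ?_⟩ <;> decide +kernel

theorem certF4_3 : CertOK (D := chevF4) ⟨3, by decide⟩ [⟨33, by decide⟩, ⟨27, by decide⟩, ⟨25, by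
      decide⟩] [⟨47, by decide⟩]
    [[(33, 1), (27, 1), (25, 2), (47, 2)], [(33, 1), (27, -3), (25, 3), (47, 4)], [(33, 5), (27,
      -13), (25, 9), (47, 8)], [(33, 23), (27, -49), (25, 31), (47, 16)]] [(⟨13, by decide⟩, ⟨35,
      by decide⟩)] := by
  refine ⟨?_, ?_, ?_⟩ <;> decide +kernel

theorem parD4 : parOK chevD4 [0, 1, 2, 3] [(0, 0, 0), (0, 0, 0), (0, 0, 0), (0, 1, 1), (0, 0, 0),
      (0, 7, 3), (2, 4, 1), (1, 10, 2), (0, 0, 0), (0, 11, 3), (3, 8, 1), (1, 6, 2), (2, 14, 3),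
      (0, 15, 2), (1, 3, 2), (1, 2, 1)] = true := by
  decide +kernel

theorem certD4_0 : CertOK (D := chevD4) ⟨0, by decide⟩ [⟨13, by decide⟩, ⟨14, by decide⟩, ⟨12, by
      decide⟩] []
    [[(13, 1), (14, 1), (12, 1)], [(13, 1), (14, 0), (12, 1)], [(13, 2), (14, -2), (12, 2)], [(13,
      6), (14, -8), (12, 6)]] [] := by
  refine ⟨?_, ?_, ?_⟩ <;> decide +kernel

theorem simD4_1 : SimOK (D := chevD4) ⟨1, by decide⟩ [⟨12, by decide⟩, ⟨13, by decide⟩, ⟨18, by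
      decide⟩, ⟨23, by decide⟩] := by
  decide +kernel

theorem certD4_2 : CertOK (D := chevD4) ⟨2, by decide⟩ [⟨18, by decide⟩, ⟨14, by decide⟩, ⟨12, by
      decide⟩] []
    [[(18, 1), (14, 1), (12, 1)], [(18, 1), (14, 0), (12, 1)], [(18, 2), (14, -2), (12, 2)], [(18,
      6), (14, -8), (12, 6)]] [] := by
  refine ⟨?_, ?_, ?_⟩ <;> decide +kernel

theorem certD4_3 : CertOK (D := chevD4) ⟨3, by decide⟩ [⟨18, by decide⟩, ⟨14, by decide⟩, ⟨13, by
      decide⟩] []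
    [[(18, 1), (14, 1), (13, 1)], [(18, 1), (14, 0), (13, 1)], [(18, 2), (14, -2), (13, 2)], [(18,
      6), (14, -8), (13, 6)]] [] := by
  refine ⟨?_, ?_, ?_⟩ <;> decide +kernel

theorem parE6 : parOK chevE6 [0, 1] [(0, 0, 0), (0, 0, 0), (0, 0, 0), (1, 11, 11), (2, 13, 10),
      (0, 1, 1), (2, 15, 12), (1, 15, 12), (3, 30, 10), (3, 31, 10), (1, 2, 1), (3, 29, 10), (2,
      5, 2), (3, 27, 9), (2, 7, 13), (3, 25, 11), (4, 56, 10), (0, 21, 4), (1, 26, 4), (4, 59, 7),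
      (4, 60, 8), (2, 28, 3), (4, 62, 10), (4, 63, 8), (3, 14, 14), (4, 49, 10), (3, 12, 3), (4,
      51, 8), (3, 10, 2), (4, 53, 9), (4, 54, 9), (4, 55, 9), (5, 48, 16), (0, 37, 8), (5, 50, 5),
      (1, 43, 6), (5, 52, 4), (2, 44, 7), (2, 47, 7), (1, 47, 7), (5, 56, 10), (5, 57, 6), (5, 58,
      6), (3, 61, 5), (3, 58, 6), (5, 61, 5), (2, 39, 8), (3, 57, 6), (4, 24, 15), (5, 33, 9), (4,
      26, 4), (5, 35, 7), (4, 28, 3), (5, 37, 8), (5, 38, 8), (5, 39, 8), (3, 46, 9), (4, 17, 5),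
      (4, 18, 5), (5, 43, 6), (5, 44, 7), (4, 21, 4), (5, 46, 9), (5, 47, 7)] = true := by
  decide +kernel

theorem certE6_0 : CertOK (D := chevE6) ⟨0, by decide⟩ [⟨46, by decide⟩, ⟨42, by decide⟩, ⟨39, by
      decide⟩, ⟨37, by decide⟩, ⟨36, by decide⟩] []
    [[(46, 1), (42, 1), (39, 1), (37, 1), (36, 1)], [(46, 1), (42, 1), (39, -1), (37, 0), (36,
      1)], [(46, 3), (42, 3), (39, -4), (37, 0), (36, 2)], [(46, 10), (42, 10), (39, -14), (37,
      2), (36, 4)]] [] := by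
  refine ⟨?_, ?_, ?_⟩ <;> decide +kernel

theorem certE6_1 : CertOK (D := chevE6) ⟨1, by decide⟩ [⟨56, by decide⟩, ⟨42, by decide⟩, ⟨39, by
      decide⟩, ⟨37, by decide⟩, ⟨36, by decide⟩] [⟨71, by decide⟩]
    [[(56, 1), (42, 1), (39, 1), (37, 1), (36, 1), (71, 1)], [(56, 1), (42, 0), (39, 0), (37, 0),
      (36, 1), (71, 2)], [(56, 2), (42, -1), (39, 0), (37, -1), (36, 2), (71, 4)], [(56, 5), (42,
      -4), (39, 2), (37, -4), (36, 5), (71, 8)]] [] := by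
  refine ⟨?_, ?_, ?_⟩ <;> decide +kernel

theorem parE7 : parOK chevE7 [0, 1, 6] [(0, 0, 0), (0, 0, 0), (0, 0, 0), (0, 7, 6), (2, 13, 16),
      (0, 1, 1), (1, 14, 5), (2, 14, 5), (3, 30, 16), (3, 31, 16), (1, 2, 1), (0, 15, 7), (2, 5,
      2), (3, 27, 15), (3, 24, 4), (2, 6, 6), (4, 56, 10), (0, 21, 4), (1, 26, 4), (4, 59, 13),
      (2, 29, 9), (2, 28, 3), (4, 62, 16), (4, 63, 14), (4, 48, 3), (3, 15, 7), (3, 12, 3), (4,
      51, 14), (3, 10, 2), (3, 11, 8), (4, 54, 15), (4, 55, 15), (5, 112, 16), (0, 37, 8), (1, 42,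
      12), (1, 43, 6), (5, 116, 10), (2, 44, 7), (2, 47, 7), (1, 47, 7), (5, 120, 16), (5, 121,
      12), (3, 60, 11), (3, 61, 5), (3, 58, 6), (5, 125, 11), (2, 39, 8), (3, 57, 6), (5, 96, 2),
      (4, 25, 8), (4, 26, 4), (5, 99, 13), (4, 28, 3), (4, 29, 9), (5, 102, 14), (5, 103, 14), (3,
      46, 9), (4, 17, 5), (4, 18, 5), (5, 107, 12), (4, 20, 10), (4, 21, 4), (5, 110, 15), (5,
      111, 13), (0, 0, 0), (6, 97, 10), (6, 98, 6), (1, 75, 11), (6, 100, 5), (6, 101, 11), (2,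
      79, 12), (1, 79, 12), (3, 94, 10), (6, 105, 7), (6, 106, 7), (3, 93, 10), (6, 108, 12), (6,
      109, 6), (2, 71, 13), (3, 89, 11), (6, 112, 16), (6, 113, 10), (4, 122, 13), (4, 123, 7),
      (4, 124, 8), (6, 117, 9), (6, 118, 9), (4, 127, 8), (3, 78, 14), (4, 113, 10), (6, 122, 13),
      (6, 123, 7), (6, 124, 8), (4, 117, 9), (4, 118, 9), (6, 127, 8), (6, 64, 1), (5, 49, 9), (5,
      50, 5), (6, 67, 12), (5, 52, 4), (5, 53, 10), (6, 70, 13), (6, 71, 13), (5, 56, 10), (5, 57,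
      6), (5, 58, 6), (6, 75, 11), (5, 60, 11), (5, 61, 5), (6, 78, 14), (6, 79, 12), (4, 88, 15),
      (5, 33, 9), (5, 34, 13), (5, 35, 7), (6, 84, 9), (5, 37, 8), (5, 38, 8), (5, 39, 8), (6, 88,
      15), (6, 89, 11), (5, 42, 12), (5, 43, 6), (5, 44, 7), (6, 93, 10), (5, 46, 9), (5, 47, 7)]
      = true := by
  decide +kernel

theorem certE7_0 : CertOK (D := chevE7) ⟨0, by decide⟩ [⟨78, by decide⟩, ⟨73, by decide⟩, ⟨69, by
      decide⟩, ⟨66, by decide⟩, ⟨64, by decide⟩, ⟨63, by decide⟩] [⟨125, by decide⟩]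
    [[(78, 1), (73, 1), (69, 1), (66, 1), (64, 1), (63, 1), (125, 1)], [(78, 1), (73, 1), (69,
      -1), (66, 0), (64, 0), (63, 1), (125, 2)], [(78, 3), (73, 3), (69, -4), (66, 1), (64, -1),
      (63, 2), (125, 4)], [(78, 10), (73, 10), (69, -15), (66, 7), (64, -5), (63, 5), (125, 8)]]
      [] := by
  refine ⟨?_, ?_, ?_⟩ <;> decide +kernel

theorem certE7_1 : CertOK (D := chevE7) ⟨1, by decide⟩ [⟨119, by decide⟩, ⟨93, by decide⟩, ⟨73, by
      decide⟩, ⟨69, by decide⟩, ⟨66, by decide⟩, ⟨64, by decide⟩, ⟨63, by decide⟩] []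
    [[(119, 1), (93, 1), (73, 1), (69, 1), (66, 1), (64, 1), (63, 1)], [(119, 1), (93, 1), (73,
      0), (69, 0), (66, 0), (64, 0), (63, 0)], [(119, 2), (93, 2), (73, -1), (69, 0), (66, 0),
      (64, 0), (63, -1)], [(119, 5), (93, 5), (73, -4), (69, 1), (66, 0), (64, 1), (63, -4)]] []
      := by
  refine ⟨?_, ?_, ?_⟩ <;> decide +kernel

theorem certE7_6 : CertOK (D := chevE7) ⟨6, by decide⟩ [⟨93, by decide⟩, ⟨78, by decide⟩, ⟨73, by
      decide⟩, ⟨69, by decide⟩, ⟨66, by decide⟩, ⟨64, by decide⟩] []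
    [[(93, 1), (78, 1), (73, 1), (69, 1), (66, 1), (64, 1)], [(93, 1), (78, 1), (73, 0), (69, -1),
      (66, 0), (64, 1)], [(93, 2), (78, 3), (73, 0), (69, -3), (66, 0), (64, 2)], [(93, 4), (78,
      9), (73, 1), (69, -9), (66, 1), (64, 4)]] [] := by
  refine ⟨?_, ?_, ?_⟩ <;> decide +kernel

theorem parE8 : parOK chevE8 [0, 7] [(0, 0, 0), (0, 0, 0), (1, 10, 22), (0, 7, 7), (2, 13, 28),
      (0, 1, 1), (1, 14, 6), (2, 14, 6), (3, 30, 28), (3, 31, 28), (3, 28, 21), (0, 15, 8), (2, 5,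
      2), (3, 27, 27), (3, 24, 5), (2, 6, 7), (4, 56, 20), (4, 57, 20), (1, 26, 4), (4, 59, 25),
      (2, 29, 10), (4, 61, 19), (4, 62, 28), (4, 63, 26), (4, 48, 4), (3, 15, 8), (3, 12, 3), (4,
      51, 26), (4, 52, 20), (3, 11, 9), (4, 54, 27), (4, 55, 27), (5, 112, 16), (0, 37, 8), (1,
      42, 13), (5, 115, 16), (5, 116, 22), (2, 44, 7), (5, 118, 19), (5, 119, 17), (5, 120, 28),
      (5, 121, 24), (3, 60, 12), (5, 123, 17), (3, 58, 6), (5, 125, 23), (5, 126, 18), (5, 127,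
      18), (5, 96, 3), (4, 25, 9), (4, 26, 4), (5, 99, 25), (5, 100, 19), (4, 29, 10), (5, 102,
      26), (5, 103, 26), (5, 104, 19), (5, 105, 19), (4, 18, 5), (5, 107, 24), (4, 20, 11), (5,
      109, 18), (5, 110, 27), (5, 111, 25), (6, 224, 28), (0, 69, 18), (6, 226, 18), (1, 75, 11),
      (6, 228, 12), (2, 76, 17), (2, 79, 12), (1, 79, 12), (6, 232, 18), (6, 233, 14), (6, 234,
      19), (3, 93, 10), (3, 90, 16), (6, 237, 13), (2, 71, 13), (3, 89, 11), (6, 240, 28), (6,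
      241, 22), (4, 122, 14), (6, 243, 15), (4, 124, 8), (6, 245, 21), (6, 246, 16), (6, 247, 16),
      (3, 78, 14), (4, 113, 10), (4, 114, 15), (6, 251, 14), (6, 252, 20), (4, 117, 9), (6, 254,
      17), (6, 255, 15), (6, 192, 2), (5, 49, 10), (5, 50, 5), (6, 195, 24), (6, 196, 18), (5, 53,
      11), (6, 198, 25), (6, 199, 25), (6, 200, 18), (6, 201, 18), (5, 58, 6), (6, 203, 23), (5,
      60, 12), (6, 205, 17), (6, 206, 26), (6, 207, 24), (4, 88, 15), (5, 33, 9), (5, 34, 14), (6,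
      211, 15), (6, 212, 21), (5, 37, 8), (6, 214, 18), (6, 215, 16), (6, 216, 27), (6, 217, 23),
      (5, 42, 13), (6, 219, 16), (5, 44, 7), (6, 221, 22), (6, 222, 17), (6, 223, 17), (0, 0, 0),
      (7, 193, 12), (7, 194, 7), (1, 139, 22), (2, 141, 16), (7, 197, 13), (2, 143, 23), (1, 143,
      23), (3, 158, 16), (3, 159, 16), (7, 202, 8), (3, 157, 21), (7, 204, 14), (3, 155, 15), (2,
      135, 24), (3, 153, 22), (7, 208, 17), (7, 209, 11), (7, 210, 16), (4, 187, 13), (4, 188,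
      19), (7, 213, 10), (4, 190, 16), (4, 191, 14), (3, 142, 25), (4, 177, 21), (7, 218, 15), (4,
      179, 14), (7, 220, 9), (4, 181, 20), (4, 182, 15), (4, 183, 15), (7, 224, 28), (7, 225, 20),
      (5, 242, 16), (7, 227, 13), (5, 244, 10), (7, 229, 19), (7, 230, 14), (7, 231, 14), (5, 248,
      16), (5, 249, 12), (5, 250, 17), (7, 235, 12), (7, 236, 18), (5, 253, 11), (7, 238, 15), (7,
      239, 13), (4, 152, 26), (5, 225, 20), (7, 242, 16), (5, 227, 13), (7, 244, 10), (5, 229,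
      19), (5, 230, 14), (5, 231, 14), (7, 248, 16), (7, 249, 12), (7, 250, 17), (5, 235, 12), (5,
      236, 18), (7, 253, 11), (5, 238, 15), (5, 239, 13), (7, 128, 1), (6, 97, 11), (6, 98, 6),
      (7, 131, 23), (7, 132, 17), (6, 101, 12), (7, 134, 24), (7, 135, 24), (7, 136, 17), (7, 137,
      17), (6, 106, 7), (7, 139, 22), (6, 108, 13), (7, 141, 16), (7, 142, 25), (7, 143, 23), (6,
      112, 16), (6, 113, 10), (6, 114, 15), (7, 147, 14), (7, 148, 20), (6, 117, 9), (7, 150, 17),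
      (7, 151, 15), (7, 152, 26), (7, 153, 22), (6, 122, 14), (7, 155, 15), (6, 124, 8), (7, 157,
      21), (7, 158, 16), (7, 159, 16), (5, 176, 27), (6, 65, 19), (7, 162, 17), (6, 67, 12), (7,
      164, 11), (6, 69, 18), (6, 70, 13), (6, 71, 13), (7, 168, 17), (7, 169, 13), (7, 170, 18),
      (6, 75, 11), (6, 76, 17), (7, 173, 12), (6, 78, 14), (6, 79, 12), (7, 176, 27), (7, 177,
      21), (6, 82, 15), (7, 179, 14), (6, 84, 9), (7, 181, 20), (7, 182, 15), (7, 183, 15), (6,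
      88, 15), (6, 89, 11), (6, 90, 16), (7, 187, 13), (7, 188, 19), (6, 93, 10), (7, 190, 16),
      (7, 191, 14)] = true := by
  decide +kernel

theorem certE8_0 : CertOK (D := chevE8) ⟨0, by decide⟩ [⟨226, by decide⟩, ⟨141, by decide⟩, ⟨135,
      by decide⟩, ⟨130, by decide⟩, ⟨126, by decide⟩, ⟨123, by decide⟩, ⟨121, by decide⟩, ⟨120, by
      decide⟩] []
    [[(226, 1), (141, 1), (135, 1), (130, 1), (126, 1), (123, 1), (121, 1), (120, 1)], [(226, 1),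
      (141, 1), (135, 1), (130, -1), (126, 0), (123, 0), (121, 0), (120, 0)], [(226, 2), (141, 3),
      (135, 3), (130, -4), (126, 1), (123, 0), (121, 0), (120, -1)], [(226, 5), (141, 10), (135,
      10), (130, -15), (126, 6), (123, -1), (121, 1), (120, -4)]] [] := by
  refine ⟨?_, ?_, ?_⟩ <;> decide +kernel

theorem certE8_7 : CertOK (D := chevE8) ⟨7, by decide⟩ [⟨162, by decide⟩, ⟨141, by decide⟩, ⟨135,
      by decide⟩, ⟨130, by decide⟩, ⟨126, by decide⟩, ⟨123, by decide⟩, ⟨121, by decide⟩] [⟨239,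
      by decide⟩]
    [[(162, 1), (141, 1), (135, 1), (130, 1), (126, 1), (123, 1), (121, 1), (239, 1)], [(162, 1),
      (141, 1), (135, 0), (130, -1), (126, 0), (123, 0), (121, 1), (239, 2)], [(162, 2), (141, 3),
      (135, 0), (130, -3), (126, 1), (123, -1), (121, 2), (239, 4)], [(162, 4), (141, 9), (135,
      1), (130, -10), (126, 6), (123, -5), (121, 5), (239, 8)]] [] := by
  refine ⟨?_, ?_, ?_⟩ <;> decide +kernel


end H67.Sub
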