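/- Certificates for the involutions of the Chevalley groups of type G2, F4, E8. -/
import Cfsg.Agent.H67.CentCard
import Cfsg.Agent.H63.PoinG2
import Cfsg.Agent.H63.PoinF4
import Cfsg.Agent.H63.PoinE8
import Cfsg.Agent.H65.All

set_option autoImplicit false
set_option linter.unusedSectionVars false

namespace H67

open Cfsg.Lie H63 H64 H65 H46

section Gen
variable {D : ChevalleyDatum} [RS D] [Tab D] [Comm D] {F : Type*} [Field F] [Fintype F]

theorem orderOf_neg_one_units (hF : Odd (Fintype.card F)) : orderOf (-1 : Fˣ) = 2 := by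
  refine orderOf_eq_prime (by simp) fun h => ?_
  have h2 : (2 : F) = 0 := by
    have : (-1 : F) = 1 := by simpa using congrArg Units.val h
    linear_combination -this
  have : ringChar F = 2 := CharP.ringChar_of_prime_eq_zero Nat.prime_two (by exact_mod_cast h2)
  exact Nat.not_even_iff_odd.2 hF (Nat.even_iff.2 (FiniteField.even_card_of_char_two this))

theorem isConj_invol (hk : cker D (AlgebraicClosure F)ˣ = ⊥) (hF : Odd (Fintype.card F))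
    {reps : List ℕ} {nx : List (ℕ × ℕ × ℕ)} (hc : orbOK D 2 reps nx = true) {s : ↥(D.group F)}
    (hs : orderOf s = 2) :
    ∃ n ∈ reps, n ≠ 0 ∧ IsConj s (torG D F (zp (-1) fun i => dig 2 n i)) := by
  obtain ⟨c, h1, h2⟩ := exists_isConj_torG hk (e := 2) (by obtain ⟨m, hm⟩ := hF; omega) (s := s)
    (by rw [← hs, pow_orderOf_eq_one])
  have h3 : ∀ i, ∃ a : ℤ, c i = (-1) ^ a := fun i => by
    have := congrFun h1 i
    rcases mul_self_eq_one_iff.1 (show (c i : F) * c i = 1 by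
      rw [← Units.val_mul, ← sq]; exact congrArg Units.val this) with h | h
    exacts [⟨0, Units.ext (by simpa using h)⟩, ⟨1, Units.ext (by simpa using h)⟩]
  choose a ha using h3
  obtain rfl : c = zp (-1) a := funext ha
  obtain ⟨n, hn, h4⟩ := isConj_of_orbOK torOK_xG stBG.toStN two_pos hc (ζ := (-1 : Fˣ)) (by simp) a
  refine ⟨n, hn, ?_, h2.trans h4⟩
  rintro rfl
  have : (zp (-1) fun i => dig 2 0 i : Fin D.rank → Fˣ) = 1 := funext fun i => by simp [zp, dig]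
  rw [this, map_one] at h4
  rw [isConj_one_left.1 (h2.trans h4)] at hs
  simp at hs

theorem orderOf_torG_cw (hk : cker D Fˣ = ⊥) {Q : List (List ℤ)} (hQ : CoW D Q) (k : Fin D.rank)
    (ζ : Fˣ) : orderOf (torG D F (zp ζ (cw D Q k))) = orderOf ζ := by
  refine orderOf_eq_orderOf_iff.2 fun n => ?_
  rw [← map_pow, torG_eq_one_iff, hk, Subgroup.mem_bot, zp_pow]
  refine ⟨fun h => ?_, fun h => by rw [h]; funext i; simp [zp]⟩
  have := chi_zp (ζ ^ n) (cw D Q k) (simpleR k)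
  rwa [h, hQ.pr_cw, chi_eq, one_ev, rt_simpleR, Pi.single_eq_same, zpow_one, eq_comm] at this

end Gen

def qG2 : List (List ℤ) := [[2, 1], [3, 2]]
theorem coWG2 : CoW chevG2 qG2 := by decide +kernel

def orbG2 : List (ℕ × ℕ × ℕ) := [(0, 0, 0), (0, 0, 0), (0, 3, 2), (1, 1, 1)]
theorem orbOKG2 : orbOK chevG2 2 [0, 1] orbG2 = true := by decide +kernel

theorem zpG2_1 {F : Type*} [Field F] : (zp (-1) fun i => dig 2 1 i : Fin chevG2.rank → Fˣ) =
    zp (-1) (cw chevG2 qG2 1) := zp_congr (e := 2) (by simp) (by decide +kernel)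

def qF4 : List (List ℤ) := [[2, 3, 2, 1], [3, 6, 4, 2], [4, 8, 6, 3], [2, 4, 3, 2]]
theorem coWF4 : CoW chevF4 qF4 := by decide +kernel

def orbF4 : List (ℕ × ℕ × ℕ) := [(0, 0, 0), (1, 3, 2), (0, 0, 0), (0, 2, 1), (3, 12, 7), (0, 0, 0), (3, 14, 6), (3, 15, 5), (2, 12, 7), (2, 13, 2), (0, 11, 4), (1, 9, 3), (1, 14, 6), (3, 5, 1), (2, 10, 5), (2, 11, 4)]
theorem orbOKF4 : orbOK chevF4 2 [0, 2, 5] orbF4 = true := by decide +kernel

theorem zpF4_0 {F : Type*} [Field F] : (zp (-1) fun i => dig 2 2 i : Fin chevF4.rank → Fˣ) =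
    zp (-1) (cw chevF4 qF4 0) := zp_congr (e := 2) (by simp) (by decide +kernel)

theorem zpF4_3 {F : Type*} [Field F] : (zp (-1) fun i => dig 2 5 i : Fin chevF4.rank → Fˣ) =
    zp (-1) (cw chevF4 qF4 3) := zp_congr (e := 2) (by simp) (by decide +kernel)

def qE8 : List (List ℤ) := [[4, 5, 7, 10, 8, 6, 4, 2], [5, 8, 10, 15, 12, 9, 6, 3], [7, 10, 14, 20, 16, 12, 8, 4], [10, 15, 20, 30, 24, 18, 12, 6], [8, 12, 16, 24, 20, 15, 10, 5], [6, 9, 12, 18, 15, 12, 8, 4], [4, 6, 8, 12, 10, 8, 6, 3], [2, 3, 4, 6, 5, 4, 3, 2]]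
theorem coWE8 : CoW chevE8 qE8 := by decide +kernel

def orbE8 : List (ℕ × ℕ × ℕ) := [(0, 0, 0), (2, 5, 28), (3, 10, 28), (2, 7, 2), (3, 12, 28), (3, 13, 27), (0, 0, 0), (0, 6, 1), (4, 24, 28), (1, 11, 4), (4, 26, 27), (3, 3, 3), (4, 28, 27), (4, 29, 26), (4, 30, 26), (4, 31, 25), (5, 48, 28), (3, 25, 6), (5, 50, 16), (5, 51, 22), (0, 21, 8), (2, 17, 7), (5, 54, 24), (5, 55, 23), (5, 56, 27), (4, 9, 5), (5, 58, 26), (4, 11, 4), (5, 60, 26), (5, 61, 25), (5, 62, 25), (5, 63, 24), (6, 96, 28), (4, 49, 8), (3, 42, 14), (6, 99, 20), (4, 52, 10), (4, 53, 9), (6, 102, 22), (6, 103, 21), (2, 44, 12), (6, 105, 18), (2, 46, 13), (6, 107, 19), (3, 36, 11), (3, 37, 10), (1, 44, 12), (1, 45, 11), (6, 112, 27), (5, 17, 7), (4, 34, 15), (6, 115, 21), (5, 20, 9), (5, 21, 8), (6, 118, 23), (6, 119, 22), (6, 120, 26), (5, 25, 6), (6, 122, 25), (5, 27, 5), (6, 124, 25), (6, 125, 24), (6, 126, 24),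 (6, 127, 23), (7, 192, 28), (5, 97, 10), (5, 98, 16), (7, 195, 18), (5, 100, 12), (5, 101, 11), (7, 198, 20), (7, 199, 19), (5, 104, 14), (7, 201, 16), (5, 106, 15), (7, 203, 17), (5, 108, 13), (5, 109, 12), (5, 110, 14), (5, 111, 13), (3, 88, 16), (7, 209, 14), (0, 0, 0), (2, 87, 16), (7, 212, 12), (7, 213, 13), (3, 94, 16), (3, 95, 15), (4, 72, 15), (7, 217, 15), (4, 74, 16), (7, 219, 16), (4, 76, 14), (4, 77, 13), (4, 78, 15), (4, 79, 14), (7, 224, 27), (6, 33, 9), (6, 34, 15), (7, 227, 19), (6, 36, 11), (6, 37, 10), (7, 230, 21), (7, 231, 20), (6, 40, 13), (7, 233, 17), (6, 42, 14), (7, 235, 18), (6, 44, 12), (6, 45, 11), (6, 46, 13), (6, 47, 12), (7, 240, 26), (6, 49, 8), (6, 50, 16), (7, 243, 20), (6, 52, 10), (6, 53, 9), (7, 246, 22), (7, 247, 21), (7, 248, 25), (6, 57, 7), (7, 250, 24), (6, 59, 6), (7, 252, 24), (7, 253, 23), (7, 254, 23), (7, 255, 22), (6, 192, 28), (6, 193,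 12), (6, 194, 18), (3, 139, 16), (6, 196, 14), (6, 197, 13), (0, 135, 18), (2, 131, 17), (6, 200, 16), (4, 153, 14), (6, 202, 17), (4, 155, 15), (6, 204, 15), (6, 205, 14), (6, 206, 16), (6, 207, 15), (6, 208, 18), (5, 177, 12), (6, 210, 2), (6, 211, 18), (5, 180, 10), (5, 181, 11), (6, 214, 18), (6, 215, 17), (6, 216, 17), (5, 185, 13), (6, 218, 18), (5, 187, 14), (6, 220, 16), (6, 221, 15), (6, 222, 17), (6, 223, 16), (4, 176, 20), (2, 165, 10), (4, 178, 4), (4, 179, 20), (3, 172, 8), (3, 173, 9), (4, 182, 20), (4, 183, 19), (1, 170, 6), (1, 171, 22), (3, 162, 5), (3, 163, 21), (2, 168, 7), (0, 172, 8), (2, 170, 6), (0, 174, 7), (5, 144, 19), (4, 161, 11), (5, 146, 3), (5, 147, 19), (4, 164, 9), (4, 165, 10), (5, 150, 19), (5, 151, 18), (5, 152, 18), (3, 177, 12), (5, 154, 19), (1, 185, 13), (5, 156, 17), (5, 157, 16), (5, 158, 18), (5, 159, 17), (5, 224, 27), (7, 65, 11), (7, 66,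 17), (6, 131, 17), (7, 68, 13), (7, 69, 12), (6, 134, 19), (6, 135, 18), (7, 72, 15), (6, 137, 15), (7, 74, 16), (6, 139, 16), (7, 76, 14), (7, 77, 13), (7, 78, 15), (7, 79, 14), (7, 80, 17), (6, 145, 13), (7, 82, 1), (7, 83, 17), (6, 148, 11), (6, 149, 12), (7, 86, 17), (7, 87, 16), (7, 88, 16), (6, 153, 14), (7, 90, 17), (6, 155, 15), (7, 92, 15), (7, 93, 14), (7, 94, 16), (7, 95, 15), (4, 240, 26), (7, 97, 10), (7, 98, 16), (5, 195, 18), (7, 100, 12), (7, 101, 11), (5, 198, 20), (5, 199, 19), (7, 104, 14), (5, 201, 16), (7, 106, 15), (5, 203, 17), (7, 108, 13), (7, 109, 12), (7, 110, 14), (7, 111, 13), (3, 248, 25), (7, 113, 9), (7, 114, 17), (4, 227, 19), (7, 116, 11), (7, 117, 10), (4, 230, 21), (4, 231, 20), (2, 252, 24), (7, 121, 8), (2, 254, 23), (7, 123, 7), (1, 254, 23), (1, 255, 22), (3, 246, 22), (3, 247, 21)]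
theorem orbOKE8 : orbOK chevE8 2 [0, 6, 82] orbE8 = true := by decide +kernel

theorem zpE8_0 {F : Type*} [Field F] : (zp (-1) fun i => dig 2 6 i : Fin chevE8.rank → Fˣ) =
    zp (-1) (cw chevE8 qE8 0) := zp_congr (e := 2) (by simp) (by decide +kernel)

theorem zpE8_7 {F : Type*} [Field F] : (zp (-1) fun i => dig 2 82 i : Fin chevE8.rank → Fˣ) =
    zp (-1) (cw chevE8 qE8 7) := zp_congr (e := 2) (by simp) (by decide +kernel)

def psiG2a : List (List ℤ) := [[0, -1], [0, 1]]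
theorem psiOKG2a : psiOK chevG2 certG2.rtc 1 (2 : ℕ) [0] 11 psiG2a = true := by
  decide +kernel
theorem nnG2a : psiG2a.map (nnL chevG2 certG2.rtc (2 : ℕ)) = [1, 0] := by decide +kernel
theorem npG2a : npL chevG2 certG2.rtc 1 (2 : ℕ) = 2 := by decide +kernel

theorem card_centG2a {F : Type*} [Field F] [Fintype F] [Tab chevG2] [Comm chevG2]
    (hF : Odd (Fintype.card F)) :
    Nat.card (Subgroup.centralizer {torG chevG2 F (zp (-1) (cw chevG2 qG2 1))}) =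
      Fintype.card F ^ 2 * (Fintype.card F - 1) ^ 2 *
      (([1, 0].map fun n => Fintype.card F ^ n).sum * (horner (Fintype.card F) [1, 1] * 1)) := by
  classical
  haveI := Fintype.ofFinite (H63.wdata chevG2).W
  rw [card_centralizer_cw (k := ⟨1, by decide⟩) (kerG2.cker_eq_bot _) rt_G2 coWG2 psiOKG2a
    (orderOf_neg_one_units hF), poinJ_cons _ stepG2_0, lenG2_0, poinJ_nil, ← nnG2a, List.map_map, ← npG2a]
  rfl

def levB3_0 : List (List (List ℤ)) :=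
  [[[1, -1, 2, 0]]]
theorem stepB3_0 : stepOK chevF4 1 [] levB3_0 = true := by decide +kernel
theorem lenB3_0 : levB3_0.map List.length = [1] := by decide +kernel

def levB3_1 : List (List (List ℤ)) :=
  [[[0, 1, -1, 1]], [[1, -1, 1, 1]], [[1, 0, -1, 2]]]
theorem stepB3_1 : stepOK chevF4 2 [1] levB3_1 = true := by decide +kernel
theorem lenB3_1 : levB3_1.map List.length = [1, 1, 1] := by decide +kernel

def levB3_2 : List (List (List ℤ)) :=
  [[[0, 0, 1, -1]], [[0, 1, -1, 0]], [[1, -1, 1, 0]], [[1, 0, -1, 1]], [[1, 0, 0, -1]]]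
theorem stepB3_2 : stepOK chevF4 3 [2, 1] levB3_2 = true := by decide +kernel
theorem lenB3_2 : levB3_2.map List.length = [1, 1, 1, 1, 1] := by decide +kernel

def psiF4a : List (List ℤ) := [[-1, 0, 0, 0], [1, 0, 0, -2], [1, 0, -2, 2], [1, -2, 2, 0], [-1, 2, -2, 0], [-1, 0, 2, -2], [-1, 0, 0, 2], [1, 0, 0, 0]]
theorem psiOKF4a : psiOK chevF4 certF4.rtc 0 (2 : ℕ) [3, 2, 1] 41 psiF4a = true := by
  decide +kernel
theorem nnF4a : psiF4a.map (nnL chevF4 certF4.rtc (2 : ℕ)) = [7, 6, 5, 4, 3, 2, 1, 0] := by decide +kernel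
theorem npF4a : npL chevF4 certF4.rtc 0 (2 : ℕ) = 16 := by decide +kernel

theorem card_centF4a {F : Type*} [Field F] [Fintype F] [Tab chevF4] [Comm chevF4]
    (hF : Odd (Fintype.card F)) :
    Nat.card (Subgroup.centralizer {torG chevF4 F (zp (-1) (cw chevF4 qF4 0))}) =
      Fintype.card F ^ 16 * (Fintype.card F - 1) ^ 4 *
      (([7, 6, 5, 4, 3, 2, 1, 0].map fun n => Fintype.card F ^ n).sum * (horner (Fintype.card F) [1, 1, 1, 1, 1, 1] * (horner (Fintype.card F) [1, 1, 1, 1] * (horner (Fintype.card F) [1, 1] * 1)))) := by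
  classical
  haveI := Fintype.ofFinite (H63.wdata chevF4).W
  rw [card_centralizer_cw (k := ⟨0, by decide⟩) (kerF4.cker_eq_bot _) rt_F4 coWF4 psiOKF4a
    (orderOf_neg_one_units hF), poinJ_cons _ stepB3_2, lenB3_2, poinJ_cons _ stepB3_1, lenB3_1, poinJ_cons _ stepB3_0, lenB3_0, poinJ_nil, ← nnF4a, List.map_map, ← npF4a]
  rfl

def psiF4b : List (List ℤ) := [[0, 0, 0, -1], [0, 0, 0, 1]]
theorem psiOKF4b : psiOK chevF4 certF4.rtc 3 (2 : ℕ) [2, 1, 0] 47 psiF4b = true := by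
  decide +kernel
theorem nnF4b : psiF4b.map (nnL chevF4 certF4.rtc (2 : ℕ)) = [1, 0] := by decide +kernel
theorem npF4b : npL chevF4 certF4.rtc 3 (2 : ℕ) = 10 := by decide +kernel

theorem card_centF4b {F : Type*} [Field F] [Fintype F] [Tab chevF4] [Comm chevF4]
    (hF : Odd (Fintype.card F)) :
    Nat.card (Subgroup.centralizer {torG chevF4 F (zp (-1) (cw chevF4 qF4 3))}) =
      Fintype.card F ^ 10 * (Fintype.card F - 1) ^ 4 *
      (([1, 0].map fun n => Fintype.card F ^ n).sum * (horner (Fintype.card F) [1, 1, 1, 2, 1, 1, 1] * (horner (Fintype.card F) [1, 1, 1] * (horner (Fintype.card F) [1, 1] * 1)))) := by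
  classical
  haveI := Fintype.ofFinite (H63.wdata chevF4).W
  rw [card_centralizer_cw (k := ⟨3, by decide⟩) (kerF4.cker_eq_bot _) rt_F4 coWF4 psiOKF4b
    (orderOf_neg_one_units hF), poinJ_cons _ stepF4_2, lenF4_2, poinJ_cons _ stepF4_1, lenF4_1, poinJ_cons _ stepF4_0, lenF4_0, poinJ_nil, ← nnF4b, List.map_map, ← npF4b]
  rfl

def levD7_0 : List (List (List ℤ)) :=
  [[[0, -1, 0, 1, 0, 0, 0, 0]]]
theorem stepD7_0 : stepOK chevE8 1 [] levD7_0 = true := by decide +kernel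
theorem lenD7_0 : levD7_0.map List.length = [1] := by decide +kernel

def levD7_1 : List (List (List ℤ)) :=
  [[[0, 1, 1, -1, 1, 0, 0, 0]], [[0, -1, 1, 0, 1, 0, 0, 0]]]
theorem stepD7_1 : stepOK chevE8 3 [1] levD7_1 = true := by decide +kernel
theorem lenD7_1 : levD7_1.map List.length = [1, 1] := by decide +kernel

def levD7_2 : List (List (List ℤ)) :=
  [[[1, 0, -1, 1, 0, 0, 0, 0]], [[1, 1, 0, -1, 1, 0, 0, 0]], [[1, -1, 0, 0, 1, 0, 0, 0]]]
theorem stepD7_2 : stepOK chevE8 2 [3, 1] levD7_2 = true := by decide +kernel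
theorem lenD7_2 : levD7_2.map List.length = [1, 1, 1] := by decide +kernel

def levD7_3 : List (List (List ℤ)) :=
  [[[0, 0, 0, 1, -1, 1, 0, 0]], [[0, 1, 1, -1, 0, 1, 0, 0]], [[1, 1, -1, 0, 0, 1, 0, 0], [0, -1, 1, 0, 0, 1, 0, 0]], [[1, -1, -1, 1, 0, 1, 0, 0]], [[1, 0, 0, -1, 1, 1, 0, 0]], [[1, 0, 0, 0, -1, 2, 0, 0]]]
theorem stepD7_3 : stepOK chevE8 4 [2, 3, 1] levD7_3 = true := by decide +kernel
theorem lenD7_3 : levD7_3.map List.length = [1, 1, 2, 1, 1, 1] := by decide +kernel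

def levD7_4 : List (List (List ℤ)) :=
  [[[0, 0, 0, 0, 1, -1, 1, 0]], [[0, 0, 0, 1, -1, 0, 1, 0]], [[0, 1, 1, -1, 0, 0, 1, 0]], [[1, 1, -1, 0, 0, 0, 1, 0], [0, -1, 1, 0, 0, 0, 1, 0]], [[1, -1, -1, 1, 0, 0, 1, 0]], [[1, 0, 0, -1, 1, 0, 1, 0]], [[1, 0, 0, 0, -1, 1, 1, 0]], [[1, 0, 0, 0, 0, -1, 2, 0]]]
theorem stepD7_4 : stepOK chevE8 5 [4, 2, 3, 1] levD7_4 = true := by decide +kernel
theorem lenD7_4 : levD7_4.map List.length = [1, 1, 1, 2, 1, 1, 1, 1] := by decide +kernel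

def levD7_5 : List (List (List ℤ)) :=
  [[[0, 0, 0, 0, 0, 1, -1, 1]], [[0, 0, 0, 0, 1, -1, 0, 1]], [[0, 0, 0, 1, -1, 0, 0, 1]], [[0, 1, 1, -1, 0, 0, 0, 1]], [[1, 1, -1, 0, 0, 0, 0, 1], [0, -1, 1, 0, 0, 0, 0, 1]], [[1, -1, -1, 1, 0, 0, 0, 1]], [[1, 0, 0, -1, 1, 0, 0, 1]], [[1, 0, 0, 0, -1, 1, 0, 1]], [[1, 0, 0, 0, 0, -1, 1, 1]], [[1, 0, 0, 0, 0, 0, -1, 2]]]
theorem stepD7_5 : stepOK chevE8 6 [5, 4, 2, 3, 1] levD7_5 = true := by decide +kernel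
theorem lenD7_5 : levD7_5.map List.length = [1, 1, 1, 1, 2, 1, 1, 1, 1, 1] := by decide +kernel

def levD7_6 : List (List (List ℤ)) :=
  [[[0, 0, 0, 0, 0, 0, 1, -1]], [[0, 0, 0, 0, 0, 1, -1, 0]], [[0, 0, 0, 0, 1, -1, 0, 0]], [[0, 0, 0, 1, -1, 0, 0, 0]], [[0, 1, 1, -1, 0, 0, 0, 0]], [[1, 1, -1, 0, 0, 0, 0, 0], [0, -1, 1, 0, 0, 0, 0, 0]], [[1, -1, -1, 1, 0, 0, 0, 0]], [[1, 0, 0, -1, 1, 0, 0, 0]], [[1, 0, 0, 0, -1, 1, 0, 0]], [[1, 0, 0, 0, 0, -1, 1, 0]], [[1, 0, 0, 0, 0, 0, -1, 1]], [[1, 0, 0, 0, 0, 0, 0, -1]]]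
theorem stepD7_6 : stepOK chevE8 7 [6, 5, 4, 2, 3, 1] levD7_6 = true := by decide +kernel
theorem lenD7_6 : levD7_6.map List.length = [1, 1, 1, 1, 1, 2, 1, 1, 1, 1, 1, 1] := by decide +kernel

def psiE8a : List (List ℤ) := [[-1, 0, 0, 0, 0, 0, 0, 0], [1, 0, 0, 0, 0, 0, 0, -2], [1, 0, 0, 0, 0, 0, -2, 2], [1, 0, 0, 0, 0, -2, 2, 0], [1, 0, 0, 0, -2, 2, 0, 0], [1, 0, 0, -2, 2, 0, 0, 0], [1, -2, -2, 2, 0, 0, 0, 0], [-1, -2, 2, 0, 0, 0, 0, 0], [1, 2, -2, 0, 0, 0, 0, 0], [-1, 2, 2, -2, 0, 0, 0, 0], [-1, 0, 0, 2, -2, 0, 0, 0], [-1, 0, 0, 0, 2, -2, 0, 0], [-1, 0, 0, 0, 0, 2, -2, 0], [-1, 0, 0, 0, 0, 0, 2, -2], [-1, 0, 0, 0, 0, 0, 0, 2], [1, 0, 0, 0, 0, 0, 0, 0]]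
theorem psiOKE8a : psiOK chevE8 certE8.rtc 0 (2 : ℕ) [7, 6, 5, 4, 2, 3, 1] 226 psiE8a = true := by
  decide +kernel
theorem nnE8a : psiE8a.map (nnL chevE8 certE8.rtc (2 : ℕ)) = [14, 13, 12, 11, 10, 9, 8, 7, 7, 6, 5, 4, 3, 2, 1, 0] := by decide +kernel
theorem npE8a : npL chevE8 certE8.rtc 0 (2 : ℕ) = 56 := by decide +kernel

theorem card_centE8a {F : Type*} [Field F] [Fintype F] [Tab chevE8] [Comm chevE8]
    (hF : Odd (Fintype.card F)) :
    Nat.card (Subgroup.centralizer {torG chevE8 F (zp (-1) (cw chevE8 qE8 0))}) =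
      Fintype.card F ^ 56 * (Fintype.card F - 1) ^ 8 *
      (([14, 13, 12, 11, 10, 9, 8, 7, 7, 6, 5, 4, 3, 2, 1, 0].map fun n => Fintype.card F ^ n).sum * (horner (Fintype.card F) [1, 1, 1, 1, 1, 1, 2, 1, 1, 1, 1, 1, 1] * (horner (Fintype.card F) [1, 1, 1, 1, 1, 2, 1, 1, 1, 1, 1] * (horner (Fintype.card F) [1, 1, 1, 1, 2, 1, 1, 1, 1] * (horner (Fintype.card F) [1, 1, 1, 2, 1, 1, 1] * (horner (Fintype.card F) [1, 1, 1, 1] * (horner (Fintype.card F) [1, 1, 1] * (horner (Fintype.card F) [1, 1] * 1)))))))) := by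
  classical
  haveI := Fintype.ofFinite (H63.wdata chevE8).W
  rw [card_centralizer_cw (k := ⟨0, by decide⟩) (kerE8.cker_eq_bot _) rt_E8 coWE8 psiOKE8a
    (orderOf_neg_one_units hF), poinJ_cons _ stepD7_6, lenD7_6, poinJ_cons _ stepD7_5, lenD7_5, poinJ_cons _ stepD7_4, lenD7_4, poinJ_cons _ stepD7_3, lenD7_3, poinJ_cons _ stepD7_2, lenD7_2, poinJ_cons _ stepD7_1, lenD7_1, poinJ_cons _ stepD7_0, lenD7_0, poinJ_nil, ← nnE8a, List.map_map, ← npE8a]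
  rfl

def psiE8b : List (List ℤ) := [[0, 0, 0, 0, 0, 0, 0, -1], [0, 0, 0, 0, 0, 0, 0, 1]]
theorem psiOKE8b : psiOK chevE8 certE8.rtc 7 (2 : ℕ) [6, 5, 1, 4, 3, 2, 0] 239 psiE8b = true := by
  decide +kernel
theorem nnE8b : psiE8b.map (nnL chevE8 certE8.rtc (2 : ℕ)) = [1, 0] := by decide +kernel
theorem npE8b : npL chevE8 certE8.rtc 7 (2 : ℕ) = 64 := by decide +kernel

theorem card_centE8b {F : Type*} [Field F] [Fintype F] [Tab chevE8] [Comm chevE8]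
    (hF : Odd (Fintype.card F)) :
    Nat.card (Subgroup.centralizer {torG chevE8 F (zp (-1) (cw chevE8 qE8 7))}) =
      Fintype.card F ^ 64 * (Fintype.card F - 1) ^ 8 *
      (([1, 0].map fun n => Fintype.card F ^ n).sum * (horner (Fintype.card F) [1, 1, 1, 1, 1, 2, 2, 2, 2, 3, 3, 3, 3, 3, 3, 3, 3, 3, 3, 2, 2, 2, 2, 1, 1, 1, 1, 1] * (horner (Fintype.card F) [1, 1, 1, 1, 2, 2, 2, 2, 3, 2, 2, 2, 2, 1, 1, 1, 1] * (horner (Fintype.card F) [1, 1, 1, 2, 2, 2, 2, 2, 1, 1, 1] * (horner (Fintype.card F) [1, 1, 1, 1, 1] * (horner (Fintype.card F) [1, 1, 1, 1] * (horner (Fintype.card F) [1, 1, 1] * (horner (Fintype.card F) [1, 1] * 1)))))))) := by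
  classical
  haveI := Fintype.ofFinite (H63.wdata chevE8).W
  rw [card_centralizer_cw (k := ⟨7, by decide⟩) (kerE8.cker_eq_bot _) rt_E8 coWE8 psiOKE8b
    (orderOf_neg_one_units hF), poinJ_cons _ stepE8_6, lenE8_6, poinJ_cons _ stepE8_5, lenE8_5, poinJ_cons _ stepE8_4, lenE8_4, poinJ_cons _ stepE8_3, lenE8_3, poinJ_cons _ stepE8_2, lenE8_2, poinJ_cons _ stepE8_1, lenE8_1, poinJ_cons _ stepE8_0, lenE8_0, poinJ_nil, ← nnE8b, List.map_map, ← npE8b]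
  rfl

end H67
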