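import Cfsg.Agent.H14.CBSpec
import Cfsg.Agent.H14.FEKit
import Cfsg.Agent.H42.OddOrder

/-! Tower CB (S1308), slot X2. -/

set_option autoImplicit false

namespace H67.CbX2

open Cfsg Subgroup MulAction H14 _root_.H98 H1.Gold H31.S2 H14.GC H14.FE H14.NF H14.CB
open scoped commutatorElement

universe u

variable {G : Type u} [Group G] [Finite G]

omit [Finite G] in
theorem two_of_el {T : Subgroup G} (h : El T) : IsPGroup 2 T :=
  isPGroup_iff_forall.2 fun x hx => ⟨1, by rw [pow_one, sq]; exact h x hx⟩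

theorem syl_sup {T B : Subgroup G} (hT : El T) (hB : NI B) (hn : T ≤ nor B) :
    IsSyl 2 T (T ⊔ B) := by
  refine ⟨le_sup_left, two_of_el hT, fun Q hQ h1 h2 => le_antisymm (fun x hx => ?_) h1⟩
  obtain ⟨t, ht, b, hb, rfl⟩ := (mem_sup_left_norm hn).1 (h2 hx)
  have : b = 1 := hB.eq_one hQ ((Q.mul_mem_cancel_left (h1 ht)).1 hx) hb
  rw [this, mul_one]; exact ht

theorem moved {Y : Type u} [Group Y] [Finite Y] (φ : G →* Y) {K T : Subgroup G}
    (hq : IsQuasisimple K) (hk : φ.ker ≤ cen K) (h0 : T ≠ ⊥) (hn : T ≤ nor K)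
    (hc : T ⊓ cen K = ⊥) : ∃ t ∈ T, ∃ x : Y, ⁅x, φ t⁆ ∉ opp 2 (⊤ : Subgroup Y) := by
  by_contra hh
  push Not at hh
  haveI : (opp 2 (⊤ : Subgroup Y)).Normal :=
    normal_of_top_le_normalizer (self_le_normalizer_opp ⊤)
  rcases quasi_sub_normalized hq (N := (opp 2 (⊤ : Subgroup Y)).comap φ) le_normalizer_of_normal
    with h | h
  · have hne : K.map φ ≠ ⊥ := fun e => quasi_sub_commutator_ne_bot hq
      (commutator_eq_bot_iff_le_centralizer.2 (((Subgroup.map_eq_bot_iff _).1 e).trans hk))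
    exact quasi_not_le_solvable (quasi_map hq φ hne)
      (H42.odd_order (Nat.coprime_two_right.1 (coprime_card_opp (p := 2) ⊤))) (map_le_iff_le_comap.2 h)
  · have h1 : ⁅K, T⁆ ≤ (opp 2 (⊤ : Subgroup Y)).comap φ ⊓ K := by
      refine le_inf (commutator_le.2 fun k _ t ht => ?_) (commutator_le_left' hn)
      rw [mem_comap, map_commutatorElement]
      exact hh t ht _
    have h2 : ⁅⁅K, T⁆, K⁆ = ⊥ := eq_bot_iff.2 (h ▸ commutator_mono h1 le_rfl)
    have h3 : ⁅⁅K, K⁆, T⁆ = ⊥ :=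
      commutator_commutator_eq_bot_of_rotate h2 (by rwa [commutator_comm T K])
    rw [quasi_sub_perfect hq, commutator_comm, commutator_eq_bot_iff_le_centralizer] at h3
    exact h0 (by rw [← hc]; exact (inf_eq_left.2 h3).symm)

theorem core (zk : JZK.{u}) {Y : Type u} [Group Y] [Finite Y] (φ : G →* Y)
    (hs : Function.Surjective φ) {K E T B : Subgroup G} (hk : φ.ker = E) (top : K ⊔ E ⊔ T = ⊤)
    (hq : IsQuasisimple K) (hT : El T) (h0 : T ≠ ⊥) (hE : E ≤ cen K) (hn : T ≤ nor K)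
    (hc : T ⊓ cen K = ⊥) (hB : NI B) (hTB : T ≤ nor B) (hN : NI ((T ⊔ B) ⊓ (K ⊔ E)))
    (hx : ∀ x : G, ∀ t ∈ T, t ≠ 1 → ⁅t, x⁆ ∈ E → x ∈ nor (E ⊔ T ⊔ B)) :
    ∃ k ∈ K, Cm3 T (cj k T) E ∧ ¬ cj k T ≤ E ⊔ T := by
  haveI : Fact (Nat.Prime 2) := ⟨Nat.prime_two⟩
  have hEb : E.map φ = ⊥ := (Subgroup.map_eq_bot_iff _).2 hk.ge
  have hKn : K.Normal := normal_of_top_le_normalizer
    (top ▸ sup_le (sup_le le_normalizer (le_normalizer_of_le_centralizer hE)) hn)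
  have hsy : IsSyl 2 (T.map φ) ((T ⊔ B).map φ) := (syl_sup hT hB hTB).map φ
  obtain ⟨t, ht, x, hx0⟩ := moved φ hq (hk.le.trans hE) h0 hn hc
  have e1 : El (T.map φ) := by
    rintro _ ⟨a, ha, rfl⟩
    rw [← map_mul, hT a ha, map_one]
  have e2 : K.map φ ⊔ T.map φ = ⊤ := by
    have := congrArg (Subgroup.map φ) top
    rwa [Subgroup.map_sup, Subgroup.map_sup, hEb, sup_bot_eq, map_top_of_surjective φ hs] at this
  have e3 : NI ((T ⊔ B).map φ ⊓ K.map φ) := by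
    have h1 : (T ⊔ B).map φ ⊓ K.map φ ≤ ((T ⊔ B) ⊓ (K ⊔ E)).map φ := by
      rintro _ ⟨⟨y, hy, rfl⟩, k, hkK, e⟩
      refine ⟨y, ⟨hy, ?_⟩, rfl⟩
      have h2 : k⁻¹ * y ∈ E := by
        rw [← hk, MonoidHom.mem_ker, map_mul, map_inv, e, inv_mul_cancel]
      have h3 := mul_mem_sup hkK h2
      rwa [mul_inv_cancel_left] at h3
    exact ni_of_odd ((hN.odd.of_dvd_nat (card_map_dvd _ φ)).of_dvd_nat (card_dvd_of_le h1))
  have e4 : ∀ d ∈ (T ⊔ B).map φ, Inv d → cen1 d ≤ nor ((T ⊔ B).map φ) := by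
    intro d hd h2 y hy
    obtain ⟨g, hg, h3⟩ := hsy.exists_cj_le
      (isPGroup_zpowers (x := d) (k := 1) (by rw [pow_one, sq]; exact h2.2)) (zpowers_le.2 hd)
    obtain ⟨s, hs1, e⟩ := h3 (conj_mem_cj (mem_zpowers d))
    obtain ⟨z, hz⟩ := hs (g * y * g⁻¹)
    have hy' : y * d = d * y := mem_centralizer_singleton_iff.1 hy
    have h4 : s ≠ 1 := by
      rintro rfl
      rw [map_one] at e
      exact h2.1 (by rw [← conj_eq_one_iff (a := g), ← e])
    have h5 : ⁅s, z⁆ ∈ E := by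
      rw [← hk, MonoidHom.mem_ker, map_commutatorElement, e, hz, commutatorElement_eq_one_iff_mul_comm]
      calc g * d * g⁻¹ * (g * y * g⁻¹) = g * (d * y) * g⁻¹ := by group
        _ = g * (y * d) * g⁻¹ := by rw [hy']
        _ = _ := by group
    have h6 := le_normalizer_map φ ⟨z, hx z s hs1 h4 h5, hz⟩
    rw [sup_assoc, Subgroup.map_sup, hEb, bot_sup_eq] at h6
    have h7 : g ∈ nor ((T ⊔ B).map φ) := le_normalizer hg
    have h8 := mul_mem (mul_mem (inv_mem h7) h6) h7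
    rwa [show g⁻¹ * (g * y * g⁻¹) * g = y by group] at h8
  have h1 : φ t ≠ 1 := fun e => hx0 (by rw [e, commutatorElement_one_right]; exact one_mem _)
  obtain ⟨_, ⟨k, hkK, rfl⟩, c1, c2⟩ := zk Y (K.map φ) (T.map φ) ((T ⊔ B).map φ) (hKn.map φ hs) e1 e2
    hsy e3 e4 (φ t) ⟨t, ht, rfl⟩ h1 ⟨x, hx0⟩
  refine ⟨k, hkK, fun a ha b hb => ?_, fun h => c2 (cj_eq_self (mem_normalizer_of_cj_le ?_))⟩
  · rw [← hk, MonoidHom.mem_ker, map_commutatorElement, commutatorElement_eq_one_iff_mul_comm]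
    rw [← map_cj] at c1
    exact c1 ⟨b, hb, rfl⟩ _ ⟨a, ha, rfl⟩
  · have := map_mono (f := φ) h
    rwa [Subgroup.map_sup, hEb, bot_sup_eq, map_cj] at this

theorem jobX : JX2.{u} := by
  intro zk G _ _ K hq E T B hE hT h0 hEK hTE hn hc ⟨hBK, hB, hTB, hN, hx⟩
  obtain ⟨H, hH⟩ : ∃ H, H = K ⊔ E ⊔ T := ⟨_, rfl⟩
  have lK : K ≤ H := hH ▸ le_sup_of_le_left le_sup_left
  have lE : E ≤ H := hH ▸ le_sup_of_le_left le_sup_right
  have lT : T ≤ H := hH ▸ le_sup_right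
  have lB : B ≤ H := hBK.trans lK
  have hEn : H ≤ nor E := hH ▸ sup_le (sup_le (le_normalizer_of_le_centralizer
    (le_centralizer_iff.1 hEK)) le_normalizer) (le_normalizer_of_le_centralizer hTE)
  haveI : (E.subgroupOf H).Normal := normal_subgroupOf_of_le_normalizer hEn
  have ni : ∀ {Z : Subgroup G}, NI Z → NI (Z.subgroupOf H) := fun h d hd h2 =>
    h d hd ⟨fun e => h2.1 (Subtype.ext e), congrArg Subtype.val h2.2⟩
  obtain ⟨k, hk, c1, c2⟩ := core zk (QuotientGroup.mk' (E.subgroupOf H))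
    (QuotientGroup.mk'_surjective _) (K := K.subgroupOf H) (T := T.subgroupOf H)
    (B := B.subgroupOf H) (QuotientGroup.ker_mk' _)
    (by rw [← subgroupOf_sup lK lE, ← subgroupOf_sup (sup_le lK lE) lT, ← hH, subgroupOf_self])
    ((quasi_subgroupOf_iff lK).2 hq) (fun a ha => Subtype.ext (hT a ha))
    (fun e => h0 (by rw [← inf_eq_left.2 lT]; exact (subgroupOf_eq_bot.1 e).eq_bot))
    (fun a ha b hb => Subtype.ext (hEK ha b hb)) (comap_le_normalizer_comap H.subtype hn)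
    (eq_bot_iff.2 fun a ha => mem_bot.2 (Subtype.ext (mem_bot.1 (hc.le ⟨ha.1, fun b hb =>
      congrArg Subtype.val (ha.2 ⟨b, lK hb⟩ hb)⟩))))
    (ni hB) (comap_le_normalizer_comap H.subtype hTB)
    (by rw [← subgroupOf_sup lK lE, ← subgroupOf_sup lT lB]; exact ni hN)
    (fun x t ht h1 h2 => by
      rw [← subgroupOf_sup lE lT, ← subgroupOf_sup (sup_le lE lT) lB]
      exact le_normalizer_comap H.subtype
        (hx x (hH ▸ x.2) t ht (fun e => h1 (Subtype.ext e)) h2))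
  have hm : (cj k (T.subgroupOf H)).map H.subtype = cj (k : G) T := by
    rw [map_cj, map_subgroupOf_eq_of_le lT]; rfl
  refine ⟨k, hk, fun a ha b hb => ?_, fun h => c2 fun b hb => ?_⟩
  · rw [← hm] at hb
    obtain ⟨b, hb, rfl⟩ := hb
    exact c1 ⟨a, lT ha⟩ ha b hb
  · rw [← subgroupOf_sup lE lT]
    exact h (hm ▸ ⟨b, hb, rfl⟩)

end H67.CbX2
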