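import Cfsg.Agent.H67.SPDef
import Cfsg.Agent.H64.SFSpec
import Cfsg.Agent.H4.SFAB
import Cfsg.Agent.H54.SpInvTwo
import Cfsg.Agent.H21.MultCard

/-! STD-SP (row S3129), piece 2: the fact slots on `X = Sp_(n+1)(q)` and the head.
Notes: `blueprints/STDSP.md`.  `H = ⟨e₀, e_n⟩^⊥`. -/

set_option autoImplicit false
set_option linter.unusedSectionVars false

namespace H67.SP

open H64.SG (O2 Syl Cz Cs Ns Is2 Inv2 UF IsO2 fx mem_fx Cov mem_Cz)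
open Matrix H57 Subgroup H67.UA
open H67.SA (SLn Au la St cI cm)
open H59.SO (Ind B1 B0 CE CW NS AutOn)
open H64.SF (Bl0)

universe u

export H64.SG (cjs)

/-- The largest perfect subgroup. -/
def Pc {G : Type*} [Group G] (H : Subgroup G) : Subgroup G := sSup {N | N ≤ H ∧ N ≤ ⁅N, N⁆}

theorem Pc_le {G : Type*} [Group G] (H : Subgroup G) : Pc H ≤ H := sSup_le fun _ h => h.1
theorem le_Pc {G : Type*} [Group G] {N H : Subgroup G} (h : N ≤ H) (h' : N ≤ ⁅N, N⁆) : N ≤ Pc H :=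
  le_sSup ⟨h, h'⟩
theorem Pc_perf {G : Type*} [Group G] (H : Subgroup G) : Pc H ≤ ⁅Pc H, Pc H⁆ :=
  sSup_le fun _ h => h.2.trans (commutator_mono (le_sSup h) (le_sSup h))

/-- The automorphism induced on the quotient by the centre. -/
def qa {Y : Type*} [Group Y] (τ : MulAut Y) : MulAut (Y ⧸ center Y) :=
  QuotientGroup.congr _ _ τ (by
    ext a
    constructor
    · rintro ⟨b, hb, rfl⟩
      exact mem_center_iff.2 fun c => by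
        simpa using congrArg τ (mem_center_iff.1 hb (τ.symm c))
    · exact fun ha => ⟨τ.symm a, mem_center_iff.2 fun c => τ.injective (by
        simpa using mem_center_iff.1 ha (τ c)), τ.apply_symm_apply a⟩)

theorem qa_mk {Y : Type*} [Group Y] (τ : MulAut Y) (y : Y) :
    qa τ (y : Y ⧸ center Y) = (τ y : Y ⧸ center Y) := rfl

section Facts

variable {n : ℕ} {F : Type} [Field F] [StarRing F] [TrivialStar F] [CharP F 2] [Finite F]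

/-- the `2`-central classes -/
def Rt (g : XU n F) : Prop := Lr g ∨ Sr g ∨ Cr g
/-- `y ∈ H` -/
def Hy (y : Vn n F) : Prop := hf y (ev 0) = 0 ∧ hf y (ev (la n)) = 0
/-- the general element of `Z(U)` -/
noncomputable abbrev zu (a b : F) : XU n F := Tc a (ev 0) * qq (b • ev 1) (ev 0)

variable (n F)

/-- the field automorphisms -/
def fs (σ : RingAut F) : MulAut (XU n F) := fa σ fun a => by rw [star_trivial, star_trivial]
/-- the torus element `diag (l, 1, .., 1, l⁻¹)` -/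
noncomputable def hT (l : F) : XU n F :=
  mk (diagonal fun i => if i = 0 then l else if i = la n then l⁻¹ else 1)
/-- the Levi factor `Sp(H)` of `P` -/
abbrev SS : Subgroup (XU n F) := Stab (ev 0) ⊓ Stab (ev (la n))
/-- `O₂(C c₂)` -/
abbrev Qc : Subgroup (XU n F) := QQ n F ⊔ Qk n F 2
/-- its derived group -/
def Qd : Subgroup (XU n F) := closure {g | ∃ y c, Wk (n - 1) y ∧ g = EE (ev 0) y c}

/-- Elements and subgroups in terms of vectors. -/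
class FV : Prop where
  iso : ∀ v : Vn n F, Iso v
  ok : ∀ (u x : Vn n F) (c : F), hf x u = 0 → Ok u x c
  pp : ∀ u v : Vn n F, hf u v = 0 → Pp u v
  q0_add : ∀ x y : Vn n F, q0 (x + y) = q0 x + q0 y + hf x y
  q0_smul : ∀ (a : F) (x : Vn n F), q0 (a • x) = a ^ 2 * q0 x
  q0_W : ∀ x : Vn n F, Wk (kk n) x → q0 x = 0
  q0_ev : ∀ i, q0 (ev i : Vn n F) = 0
  mem_Qv : ∀ (u : Vn n F) g, g ∈ Qv u ↔ ∃ x c, hf x u = 0 ∧ g = EE u x c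
  mem_QQ : ∀ g, g ∈ QQ n F ↔ ∃ x c, Hy x ∧ g = EE (ev 0) x c
  mem_Zl : ∀ (u : Vn n F) g, g ∈ Zl u ↔ ∃ c, g = Tc c u
  mem_Zs : ∀ u v : Vn n F, hf u v = 0 → ∀ g, g ∈ Zs u v ↔ ∃ c : F, g = qq (c • v) u
  mem_ZU : ∀ g, g ∈ ZL n F ⊔ ZS n F ↔ ∃ a b, g = zu a b
  mem_U : ∀ g, g ∈ UU n F ↔ ∀ j v, Wk (j + 1) v → Wk j (ac g v + v)
  mem_M : ∀ j g, g ∈ Mk n F j ↔ ∀ v, Wk j (ac g v + v)
  mem_M2 : ∀ g, g ∈ Mk n F 2 ↔ ∃ a b c, g = zu a b * Tc c (ev 1)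
  mem_Qk : ∀ j, 2 * j ≤ n + 1 → ∀ g, g ∈ Qk n F j ↔
    (∀ v, Wk j v → ac g v = v) ∧ ∀ v, Wk (n + 1 - j) v → Wk j (ac g v + v)
  mem_Qd : ∀ g, g ∈ Qd n F ↔ ∃ y c, Wk (n - 1) y ∧ g = EE (ev 0) y c
  wk_perp : ∀ j, j ≤ n + 1 → ∀ v : Vn n F, Wk (n + 1 - j) v ↔ ∀ w, Wk j w → hf v w = 0
  gen_Q : ∀ j, 2 * j ≤ n + 1 → ∀ A : Subgroup (XU n F),
    (∀ u x c, Wk j u → Wk (n + 1 - j) x → EE u x c ∈ A) → Qk n F j ≤ A
  EE_Q : ∀ j, 2 * j ≤ n + 1 → ∀ u x c, Wk j u → Wk (n + 1 - j) x → EE u x c ∈ Qk n F j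
  Q_one : Qk n F 1 = QQ n F
  diag : ∀ d : Fin (n + 1) → F, (∀ i, d i * d i.rev = 1) →
    ∃ g : XU n F, mt g = diagonal d ∧ Odd (orderOf g) ∧ ∀ v i, ac g v i = d i * v i
  tor : ∀ l : F, l ≠ 0 → Odd (orderOf (hT n F l)) ∧ ac (hT n F l) (ev 0) = l • ev 0 ∧
    ac (hT n F l) (ev (la n)) = l⁻¹ • ev (la n) ∧ ∀ y, Hy y → ac (hT n F l) y = y
  perm : ∀ π : Equiv.Perm (Fin (n + 1)), (∀ i, π i.rev = (π i).rev) →
    ∃ g : XU n F, ∀ i, ac g (ev i) = ev (π i)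
  /-- every isometry has determinant `1` -/
  isom : ∀ M : Matrix (Fin (n + 1)) (Fin (n + 1)) F, (∀ x y, hf (M *ᵥ x) (M *ᵥ y) = hf x y) →
    ∃ g : XU n F, mt g = M
  chain : ∀ (m : ℕ) (W : ℕ → Submodule F (Vn n F)), Monotone W → W 0 = ⊥ → W m = ⊤ →
    ∃ R : Subgroup (XU n F),
    IsPGroup 2 R ∧ ∀ g, g ∈ R ↔ ∀ j, ∀ v ∈ W (j + 1), ac g v + v ∈ W j
  ins : ∃ j, IsIns n F j

/-- Witt's theorem, generation, Mathlib's symplectic group. -/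
class FW : Prop where
  tr : ∃ (φ : XU n F ≃* symplecticGroup (Fin (kk n)) F)
    (A : Vn n F ≃ₗ[F] (Fin (kk n) ⊕ Fin (kk n) → F)), (∀ g v, φ g • A v = A (ac g v)) ∧
      (∀ x y, H54.spB (Fin (kk n)) F (A x) (A y) = hf x y) ∧
      ∀ σ : RingAut F, ∀ v i, A (fun j => σ (v j)) i = σ (A v i)
  witt : ∀ (r : ℕ) (v w : Fin r → Vn n F), LinearIndependent F v → LinearIndependent F w →
    (∀ i j, hf (v i) (v j) = hf (w i) (w j)) → ∃ g : XU n F, ∀ i, ac g (v i) = w i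
  sep : ∀ (r : ℕ) (v : Fin r → Vn n F), LinearIndependent F v → ∀ c : Fin r → F,
    ∃ y, ∀ i, hf y (v i) = c i
  w1 : ∀ v : Vn n F, v ≠ 0 → ∃ g : XU n F, ac g (ev 0) = v
  w2 : ∀ u v : Vn n F, hf u v = 0 → Li u v → ∃ g : XU n F, ac g (ev 0) = u ∧ ac g (ev 1) = v
  w3 : ∀ u v w : Vn n F, hf u v = 0 → hf u w = 0 → hf v w = 0 → Li3 u v w → ∃ g : XU n F,
    ac g (ev 0) = u ∧ ac g (ev 1) = v ∧ ac g (ev 2) = w
  wh : ∀ u v : Vn n F, hf u v = 1 → ∃ g : XU n F, ac g (ev 0) = u ∧ ac g (ev (la n)) = v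
  wh1 : ∀ u v w : Vn n F, hf u v = 0 → hf u w = 0 → u ≠ 0 → hf v w = 1 → ∃ g : XU n F,
    ac g (ev 0) = u ∧ ac g (ev 1) = v ∧ ac g (ev (1 : Fin (n + 1)).rev) = w
  dual : ∀ u x : Vn n F, u ≠ 0 → (∀ y, hf y u = 0 → hf y x = 0) → ∃ a : F, x = a • u
  genT : ∀ A : Subgroup (XU n F), (∀ v, TT v ∈ A) → A = ⊤
  genP : ∀ A : Subgroup (XU n F), (∀ v, hf v (ev 0) = 0 → TT v ∈ A) → PP n F ≤ A
  genS : ∀ A : Subgroup (XU n F), (∀ y, Hy y → TT y ∈ A) → SS n F ≤ A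
  ps : ∀ p ∈ PP n F, ∃ u ∈ QQ n F, ∃ s ∈ SS n F, p = u * s
  sylU : Syl (UU n F) ⊤
  cardU : Nat.card (UU n F) = Nat.card F ^ (kk n ^ 2)
  rkc : ∀ g g' : XU n F, g * g = 1 → g' * g' = 1 → (IsConj g g' ↔ rk g = rk g' ∧ (Alt g ↔ Alt g'))

/-- Automorphisms. -/
class FA : Prop where
  ns : NS (XU n F)
  psp : Nonempty (XU n F ≃* Cfsg.PSp (kk n) F)
  mult : H21.multCard (XU n F) = 1
  semi : ∀ α : MulAut (XU n F), ∃ g σ, α = MulAut.conj g * fs n F σ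
  fs_mul : ∀ σ ρ, fs n F (σ * ρ) = fs n F σ * fs n F ρ
  fs_EE : ∀ σ u x c, hf x u = 0 →
    fs n F σ (EE u x c) = EE (fun i => σ (u i)) (fun i => σ (x i)) (σ c)
  fs_ac : ∀ σ g v, ac (fs n F σ g) (fun i => σ (v i)) = fun i => σ (ac g v i)
  out : ∃ o : MulAut (XU n F) →* RingAut F, ∀ g σ, o (MulAut.conj g * fs n F σ) = σ
  a3 : ∀ α : MulAut (XU n F), Is2 α → α ∈ O2 (⊤ : Subgroup (MulAut (XU n F))) →
    ∃ g, α = MulAut.conj g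
  sol : ∀ D : Subgroup (MulAut (XU n F)), D ≤ ⁅D, D⁆ → D ≤ Cfsg.Inn (XU n F)
  lin : ∀ (α : MulAut (XU n F)) (v : Vn n F), v ≠ 0 → (∀ c, α (Tc c v) = Tc c v) →
    ∃ g, α = MulAut.conj g
  two : Nat.card F = 2 → ∀ α : MulAut (XU n F), ∃ g, α = MulAut.conj g
  cls : ∀ (α : MulAut (XU n F)) g, (Lr g → Lr (α g)) ∧ (Sr g → Sr (α g)) ∧ (Cr g → Cr (α g))

/-- Outer involutions. -/
class FO : Prop where
  std : ∀ α : MulAut (XU n F), α * α = 1 → (∀ g, α ≠ MulAut.conj g) → ∃ g σ, σ * σ = 1 ∧ σ ≠ 1 ∧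
    α = MulAut.conj g * fs n F σ * (MulAut.conj g)⁻¹
  a4 : ∀ α : MulAut (XU n F), α * α = 1 → (∀ g, α ≠ MulAut.conj g) → fx α ≤ ⁅fx α, fx α⁆

/-- The `2`-central classes. -/
class FR : Prop where
  cz : ∀ (v : Vn n F) c, v ≠ 0 → c ≠ 0 → Cz (Tc c v) = Stab v
  o2 : ∀ v : Vn n F, v ≠ 0 → IsO2 (Qv v) (Stab v)
  perf : ∀ v : Vn n F, v ≠ 0 → Stab v ≤ ⁅Stab v, Stab v⁆
  perfS : SS n F ≤ ⁅SS n F, SS n F⁆
  zP : ∀ v : Vn n F, v ≠ 0 → Cs (Stab v) = Zl v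
  cq : ∀ v : Vn n F, v ≠ 0 → Cs (Qv v) = Qv v
  qP : QQ n F ≤ ⁅QQ n F, PP n F⁆
  cE : ∀ p ∈ PP n F, (∀ u ∈ QQ n F, cm p u ∈ ZL n F) → p ∈ QQ n F
  zU : Cs (UU n F) = ZL n F ⊔ ZS n F
  lr : ∀ g : XU n F, Lr g ↔ IsConj (xb n F) g
  sr : ∀ g : XU n F, Sr g ↔ IsConj (xa n F) g
  cr : ∀ g : XU n F, Cr g ↔ IsConj (xc n F) g
  zc : ∀ a b : F, (a ≠ 0 → Lr (zu (n := n) a 0)) ∧ (b ≠ 0 → Sr (zu (n := n) 0 b)) ∧
    (a ≠ 0 → b ≠ 0 → Cr (zu (n := n) a b))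
  rk : ∀ g : XU n F, (Lr g ↔ Inv2 g ∧ rk g = 1) ∧ (Sr g ↔ Inv2 g ∧ rk g = 2 ∧ Alt g) ∧
    (Cr g ↔ Inv2 g ∧ rk g = 2 ∧ ¬ Alt g)
  r3 : ∀ g : XU n F, Inv2 g → ¬ Rt g → 3 ≤ SP.rk g
  stU : ∀ α ∈ St (UU n F), α ∈ St (ZL n F) ∧ α ∈ St (ZS n F)

/-- The classes `a₂`, `c₂`; centralisers in `Aut X`. -/
class FC : Prop where
  zq : ⁅Qk n F 2, Qk n F 2⁆ = ZS n F
  cq : Cs (Qk n F 2) = Mk n F 2
  o2 : ∀ a b : F, b ≠ 0 → IsO2 (Qk n F 2) (Pc (Cz (zu (n := n) a b)))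
  pc : ∀ z : XU n F, Rt z → z ∈ Pc (Cz z)
  oc : IsO2 (Qc n F) (Cz (xc n F))
  zc : Cs (Cz (xc n F)) ≤ ZL n F ⊔ ZS n F
  cU : ∀ α : MulAut (XU n F), (∀ u ∈ UU n F, α u = u) → ∃ ζ ∈ ZL n F ⊔ ZS n F, α = MulAut.conj ζ
  cQ : ∀ α : MulAut (XU n F), (∀ u ∈ QQ n F, α u = u) → ∃ ζ ∈ QQ n F, α = MulAut.conj ζ
  cQ2 : ∀ α : MulAut (XU n F), (∀ u ∈ Qk n F 2, α u = u) → ∃ ζ ∈ Mk n F 2, α = MulAut.conj ζ

/-- `Q₂` lies in a perfect subgroup that fixes `W₂` pointwise. -/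
def PCQ : Prop := Qk n F 2 ≤ Pc (Stab (ev 0) ⊓ Stab (ev 1))

/-- Automorphisms of `Q` and `P`. -/
def QE : Prop := ∀ θ, AutOn (QQ n F) θ →
  (∀ p ∈ PP n F, ∀ u ∈ QQ n F, θ (p * u * p⁻¹) = p * θ u * p⁻¹) →
  ∃ l : F, l ≠ 0 ∧ ∀ u ∈ QQ n F, θ u = hT n F l * u * (hT n F l)⁻¹

def COC : Prop := ∀ θ, AutOn (PP n F) θ → (∀ u ∈ QQ n F, θ u = u) → ∃ ζ ∈ QQ n F, ∃ κ : F,
  ∀ y, Hy y → θ (TT y) = ζ * (TT y * EE (ev 0) ((κ * rt (1 + q0 y)) • y) (κ ^ 2 * q0 y)) * ζ⁻¹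

/-- The function-theoretic half of `COC`. -/
def CF : Prop := ∀ f : Vn n F → F,
  (∀ y y', Hy y → Hy y' → y ≠ 0 → y' ≠ 0 → f (y' + hf y' y • y) = f y' + hf y' y ^ 2 * f y) →
  ∃ (κ : F) (z : Vn n F), Hy z ∧ ∀ y, Hy y → y ≠ 0 → f y = κ ^ 2 * (1 + q0 y) + hf z y ^ 2

/-- `q = 2`: the automorphisms of `P / Q` are inner. -/
def FB : Prop := Nat.card F = 2 → ∀ θ, AutOn (PP n F) θ → ∃ p ∈ PP n F, ∀ y ∈ PP n F,
  θ y * (p * y * p⁻¹)⁻¹ ∈ QQ n F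

/-- `q = 2`: no affine map of `Qd` moves `1` and respects the classes. -/
structure FM : Prop where
  der : Nat.card F = 2 → ⁅Qc n F, Qc n F⁆ = Qd n F
  mem : xc n F ∈ Qd n F
  m : Nat.card F = 2 → ∀ θ, AutOn (Qd n F) θ → ∀ T : XU n F → Prop, T 1 → (∀ w, Cr w → T w) →
    (∀ w, Lr w ∨ Sr w → ¬ T w) → ¬ ∀ w ∈ Qd n F, T w ↔ T (xc n F * θ w)

variable {n F}

/-- `W = [V, x]` -/
def Wx (x : XU n F) (w : Vn n F) : Prop := ∃ y, w = ac x y + y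

/-- The frame of an involution `x`: `N = x + 1`, `r = N y`, `β (N a) (N b) = hf (N a) b`; `p` is the
diagonal vector of `x` if `x` is not alternating; `p` and `r` modulo `p` are fixed by a Sylow
`2`-subgroup `P` of `C(x)`. -/
structure Fm (x : XU n F) (P : Subgroup (XU n F)) (p r y : Vn n F) : Prop where
  syl : Syl P (Cz x)
  wp : Wx x p
  wr : r = ac x y + y
  li : Li p r
  yp : hf y p = 0
  yr : hf y r = 0
  dg : Alt x ∨ ∀ v, hf (ac x v) v = hf v p ^ 2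
  fp : ∀ g ∈ P, ac g p = p
  fr : ∀ g ∈ P, ∃ c : F, ac g r = r + c • p

variable (n F)

/-- Frames exist. -/
def Z1 : Prop := ∀ x : XU n F, Inv2 x → ¬ Rt x → ∃ P p r y, Fm x P p r y
/-- Translation by `ζ = qq r p` keeps the classes in `C(P)`. -/
def Z2 : Prop := ∀ (x : XU n F) P p r y, Inv2 x → ¬ Rt x → Fm x P p r y →
  qq r p ∈ Cs P ∧ ∀ z ∈ Cs P, Inv2 z → ¬ Rt z → IsConj z (z * qq r p)
/-- The normal closure of `ζ`. -/
def Z3 : Prop := ∀ (x : XU n F) P p r y, Inv2 x → ¬ Rt x → Fm x P p r y →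
  ∃ N : Subgroup (XU n F), qq r p ∈ N ∧ (∀ α : MulAut (XU n F), α x = x → α ∈ St N) ∧
    N ≤ O2 (Cz x) ∧ (∀ a ∈ N, a * a = 1) ∧
    ∀ w ∈ N, w ∈ Cs (Cz x) → w = 1 ∨ IsConj x w ∧ (x * w = 1 ∨ IsConj x (x * w))

/-- What `JB` uses. -/
def JZ : Prop := ∀ x : XU n F, Inv2 x → ¬ Rt x → ∃ N : Subgroup (XU n F),
  (∀ α : MulAut (XU n F), α x = x → α ∈ St N) ∧ N ≤ O2 (Cz x) ∧ (∀ a ∈ N, a * a = 1) ∧
  (∀ w ∈ N, w ∈ Cs (Cz x) → w = 1 ∨ IsConj x w ∧ (x * w = 1 ∨ IsConj x (x * w))) ∧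
  ∃ P, Syl P (Cz x) ∧ ∃ ζ ∈ N, ζ ≠ 1 ∧ ζ ∈ Cs P ∧ ∀ z ∈ Cs P, Inv2 z → ¬ Rt z → IsConj z (z * ζ)

/-- The facts that every later slot may use. -/
class Base : Prop extends FV n F, FW n F, FA n F, FR n F

end Facts

/-- A statement that may use `Base`. -/
def AllB (P : ∀ (_ : ℕ) (F : Type) [Field F] [StarRing F] [TrivialStar F] [CharP F 2] [Finite F],
    Prop) : Prop :=
  All fun n F _ _ _ _ _ => Base n F → P n F

/-- An ambient statement that may use `Base` and `FC`. -/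
def AllA (P : ∀ (n : ℕ) (F : Type) [Field F] [StarRing F] [TrivialStar F] [CharP F 2] [Finite F]
    (G : Type u) [Group G], (XU n F →* G) → G → Prop) : Prop :=
  AllG.{u} fun n F _ _ _ _ _ G _ e t => Base n F → FC n F → P n F G e t

def JobFV : Prop := All fun n F _ _ _ _ _ => FV n F
def JobFW : Prop := All fun n F _ _ _ _ _ => FV n F → FW n F
def JobFA : Prop := All fun n F _ _ _ _ _ => FV n F → FW n F → FA n F
def JobFR : Prop := All fun n F _ _ _ _ _ => FV n F → FW n F → FA n F → FR n F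
def JobFO : Prop := AllB fun n F _ _ _ _ _ => FO n F
def JobPC : Prop := AllB fun n F _ _ _ _ _ => PCQ n F
def JobFC : Prop := AllB fun n F _ _ _ _ _ => PCQ n F → FC n F
def JobQE : Prop := AllB fun n F _ _ _ _ _ => QE n F
def JobCF : Prop := AllB fun n F _ _ _ _ _ => CF n F
def JobCOC : Prop := AllB fun n F _ _ _ _ _ => CF n F → COC n F
def JobFB : Prop := AllB fun n F _ _ _ _ _ => FB n F
def JobFM : Prop := AllB fun n F _ _ _ _ _ => FM n F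
def JobZ1 : Prop := AllB fun n F _ _ _ _ _ => Z1 n F
def JobZ2 : Prop := AllB fun n F _ _ _ _ _ => Z2 n F
def JobZ3 : Prop := AllB fun n F _ _ _ _ _ => Z3 n F

section Amb

variable {n : ℕ} {F : Type} [Field F] [StarRing F] [TrivialStar F] [CharP F 2] [Finite F]
  {G : Type u} [Group G]

/-- The structure of `C(t)` (proved below: `ab`). -/
structure AB (e : XU n F →* G) (t : G) : Prop where
  ol : ∀ y ∈ O2 (Cz t), Is2 y → y ∈ e.range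
  pf : ∀ N ≤ Cz t, N ≤ ⁅N, N⁆ → N ≤ e.range
  nr : ∀ z, Rt z → ¬ IsConj t (e z)
  edge : ∀ g u u', g * t * g⁻¹ = t * e u → g * e u' * g⁻¹ = e u →
    cjs g ((Pc (Cz u')).map e) = (Pc (Cz u)).map e

/-- The `2`-central fusion pattern. -/
def Fz (e : XU n F →* G) (t : G) (z : XU n F) : Prop := Rt z ∧ Fu e t z

/-- A result of the chapters: the wreath case or a model from the list `P`. -/
def Res (P : ∀ (Y : Type) [Group Y], (XU n F →* Y) → MulAut Y → (XU n F → Prop) → Prop)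
    (e : XU n F →* G) (t : G) : Prop :=
  RW e t ∨ ∃ (Y : Type) (_ : Group Y) (ι : XU n F →* Y) (τ : MulAut Y), P Y ι τ (Fz e t) ∧
    ∃ (G₁ : Subgroup G) (c : Cov Y G₁), Bl0 ι τ e t G₁ c

variable [Finite G] {e : XU n F →* G} {t : G}

theorem le_map_Pc [FA n F] (h : B0 e t) {u : XU n F} {B : Subgroup G} (h1 : B ≤ Cz t)
    (h2 : B ≤ Cz (e u)) (h3 : B ≤ ⁅B, B⁆) : B ≤ (Pc (Cz u)).map e := by
  have h4 := H4.SFAB.pf0 FA.a3 h h1 h3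
  have h5 : (B.comap e).map e = B := map_comap_eq_self h4
  rw [← h5]
  refine map_mono (le_Pc (fun a ha => mem_Cz.2 (h.inj ?_)) ?_)
  · rw [map_mul, map_mul]; exact mem_Cz.1 (h2 ha)
  · rw [← map_le_map_iff_of_injective h.inj, map_commutator, h5]; exact h3

theorem map_Pc_perf (e : XU n F →* G) (A : Subgroup (XU n F)) :
    (Pc A).map e ≤ ⁅(Pc A).map e, (Pc A).map e⁆ := by
  rw [← map_commutator]; exact map_mono (Pc_perf A)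

theorem map_Pc_le (e : XU n F →* G) (u : XU n F) : (Pc (Cz u)).map e ≤ Cz (e u) := by
  rintro _ ⟨a, ha, rfl⟩
  rw [mem_Cz, ← map_mul, ← map_mul, mem_Cz.1 (Pc_le _ ha)]

theorem ab [FA n F] [FC n F] (h : B0 e t) : AB e t := by
  refine ⟨fun _ => H4.SFAB.ol0 FA.a3 h, fun _ => H4.SFAB.pf0 FA.a3 h, fun z hz c => ?_,
    fun g u u' h1 h2 => ?_⟩
  · obtain ⟨g, hg⟩ := isConj_iff.1 c
    have h' := h.cje g
    rw [hg] at h'
    exact h'.toB1.not_mem FA.ns (H4.SFAB.pf0 FA.a3 h' (map_Pc_le e z) (map_Pc_perf e _)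
      ⟨z, FC.pc z hz, rfl⟩)
  · have h' := h.cje g
    have k : ∀ a, a ∈ Cz (e u) → (a ∈ Cz t ↔ a ∈ Cz (g * t * g⁻¹)) := fun a ha => by
      rw [h1, mem_Cz, mem_Cz, mul_assoc, mem_Cz.1 ha, ← mul_assoc, ← mul_assoc, mul_left_inj]
    rw [← H59.SO.map_cje]
    have k1 := map_Pc_le (H59.SO.cje g e) u'
    rw [H59.SO.cje_apply, h2] at k1
    refine le_antisymm (le_map_Pc h (fun a ha => (k a (k1 ha)).2
      (h'.range_le (map_le_range _ _ ha))) k1 (map_Pc_perf _ _))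
      (le_map_Pc h' (fun a ha => (k a (map_Pc_le e u ha)).1 (h.range_le (map_le_range _ _ ha)))
        (by rw [H59.SO.cje_apply, h2]; exact map_Pc_le e u) (map_Pc_perf _ _))

end Amb

def JobJB : Prop := AllA.{u} fun n F _ _ _ _ _ _ _ e t => FO n F → JZ n F → B0 e t →
  (∃ s, IsConj t s ∧ s ≠ t ∧ s * t = t * s) → ∃ z, Rt z ∧ Fu e t z

def JobMV : Prop := AllA.{u} fun _ _ _ _ _ _ _ _ _ e t => B0 e t → ∀ z, Rt z → Fu e t z → Mv e t z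

def JobJC : Prop := AllA.{u} fun n F _ _ _ _ _ _ _ e t => FM n F → B0 e t →
  (Mv e t (xc n F) → Fu e t (xb n F) ∨ Fu e t (xa n F)) ∧
    (Mv e t (xb n F) ∨ Mv e t (xa n F) → CE e t)

def JobP2a : Prop := AllA.{u} fun n F _ _ _ _ _ _ _ e t => QE n F → COC n F → FB n F → CH e t →
  CB e t → ∃ κ, Tr e t κ

/-- Pass to `N(O) / O` and lift back. -/
def JobH : Prop := JobMV.{u} → AllA.{u} fun n F _ _ _ _ _ _ _ e t =>
  ∀ P : ∀ (Y : Type) [Group Y], (XU n F →* Y) → MulAut Y → (XU n F → Prop) → Prop,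
    (∀ (Y : Type) [Group Y] ι τ T, P Y ι τ T → NS Y) →
    (∀ (G' : Type u) [Group G'] [Finite G'] (e' : XU n F →* G') (t' : G'), CH e' t' →
      CB e' t' ∨ CA e' t' → Res P e' t') → CE e t → CB e t ∨ CA e t → Res P e t

/-- From a homomorphism to a cover of the simple quotient. -/
def JobHB : Prop := ∀ (X Y : Type) [Group X] [Group Y] [Finite Y] (G : Type u) [Group G] [Finite G]
  (ι : X →* Y) (τ : MulAut Y) (e : X →* G) (t : G) (Φ : Y →* G), commutator Y = ⊤ →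
  Odd (Nat.card (center Y)) → Hm ι τ e t Φ → ∃ c : Cov (Y ⧸ center Y) Φ.range,
    Bl0 ((QuotientGroup.mk' _).comp ι) (qa τ) e t Φ.range c ∧
      ∀ y, c.pi (Φ y) = (y : Y ⧸ center Y)

theorem jz (z1 : JobZ1) (z2 : JobZ2) (z3 : JobZ3) : AllB fun n F _ _ _ _ _ => JZ n F := by
  intro n F _ _ _ _ _ _ b x h1 h2
  obtain ⟨P, p, r, y, f⟩ := z1 n F b x h1 h2
  obtain ⟨N, k1, k2, k3, k4, k5⟩ := z3 n F b x P p r y h1 h2 f
  obtain ⟨k6, k7⟩ := z2 n F b x P p r y h1 h2 f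
  refine ⟨N, k2, k3, k4, k5, P, f.syl, _, k1, fun h => ?_, k6, k7⟩
  have hp : p ≠ 0 := fun h0 => one_ne_zero (f.li 1 0 (by simp [h0])).1
  have h3 : hf r p = 0 := by
    obtain ⟨a, ha⟩ := f.wp
    have h4 : x⁻¹ = x := inv_eq_of_mul_eq_one_right h1.1
    rw [f.wr, hf_add_left, f.yp, add_zero, hf_ac_left, h4, ha, ac_add, ← ac_mul, h1.1, ac_one,
      add_comm a, ← ha, f.yp]
  obtain ⟨a, h5, -⟩ := EE_inj hp (FV.ok p 0 0 (by simp)) (FV.ok p r 0 h3)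
    ((EE_zero p).trans h.symm)
  exact one_ne_zero (f.li a 1 (by rw [h5]; simp)).2

end H67.SP
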