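import Cfsg.Agent.H67.SPSpec

/-! STD-SP (row S3129), chapter III (`κ = 0`) and the recognition of `SL / SU` from the elements
`1 + η u v* + η̄ v u*`.  Notes: `blueprints/STDSP3.md`. -/

set_option autoImplicit false
set_option linter.unusedSectionVars false

namespace H67.SP

open H64.SG (O2 Syl Cz Cs Ns Is2 Inv2 UF IsO2 fx mem_fx Cov mem_Cz)
open Matrix H57 Subgroup H67.UA
open H67.SA (SLn Au la St cI cm)
open H59.SO (Ind B1 B0 CE CW NS AutOn)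

universe u

section Gen

/-- What is used about a model. -/
structure QY (Y : Type) [Group Y] : Prop where
  fin : Finite Y
  perf : commutator Y = ⊤
  mult : H21.multCard Y = 1
  odd : Odd (Nat.card (center Y))
  nrm : ∀ N : Subgroup Y, N.Normal → N ≤ center Y ∨ N = ⊤
  ns : NS (Y ⧸ center Y)

/-- Paths of length four can be shortened through triangles. -/
def Pth {Ω : Type} (R : Ω → Ω → Prop) : Prop := ∀ x₀ x₁ x₂ x₃ x₄, R x₀ x₁ → R x₁ x₂ → R x₂ x₃ →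
  R x₃ x₄ → R x₀ x₂ ∨ R x₂ x₄ ∨
    ∃ y w, R y x₂ ∧ R y x₃ ∧ R y x₄ ∧ R w x₀ ∧ R w x₁ ∧ R w x₂ ∧ R w y

/-- Tits' lemma for a graph all of whose cycles split into triangles. -/
def JobTL : Prop := ∀ (Γ : Type u) [Group Γ] (Ω : Type) [MulAction Γ Ω] (R : Ω → Ω → Prop) (o : Ω)
  (H : Subgroup Γ) (D : Set Γ), (∀ a b, R a b → R b a) → (∀ (g : Γ) a b, R a b → R (g • a) (g • b)) →
  Pth R → (∀ h ∈ H, h • o = o) → (∀ d ∈ D, ∀ h ∈ H, d * h ∈ D) → (∀ d ∈ D, d⁻¹ ∈ D) →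
  (∀ d ∈ D, R (d • o) o) → (∀ w, R w o → ∃ d ∈ D, d • o = w) → (∀ d ∈ D, d • o = o → d ∈ H) →
  (∀ d ∈ D, ∀ d' ∈ D, d • o = d' • o → d⁻¹ * d' ∈ H) →
  (∀ d ∈ D, ∀ d' ∈ D, R (d • o) (d' • o) → d⁻¹ * d' ∈ D) →
  (∀ g ∈ H ⊔ closure D, g • o = o → g ∈ H) ∧
    ∀ w, Relation.ReflTransGen R o w → ∃ g ∈ closure D, g • o = w

/-- A perfect central extension inside `Y × G` is a graph. -/
def JobGR : Prop := ∀ (Y : Type) [Group Y] (G : Type u) [Group G] (Γ : Subgroup (Y × G)), QY Y →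
  commutator Γ = ⊤ → Function.Surjective ((MonoidHom.fst Y G).comp Γ.subtype) →
  ((MonoidHom.fst Y G).comp Γ.subtype).ker ≤ center Γ → ∃ Φ : Y →* G, ∀ p ∈ Γ, Φ p.1 = p.2

/-- `η² + η = δ`, `η ∉ F` -/
structure Eta {F K : Type} [Field F] [Field K] (x : Qx F K) (δ : F) (η : K) : Prop where
  sq : η ^ 2 + η = x.φ δ
  sg : x.σ η = η + 1

/-- The quadratic extension exists, with both involutions. -/
def JobK : Prop := ∀ (F : Type) [Field F] [CharP F 2] [Finite F] (δ : F), (∀ ε, ε ^ 2 + ε ≠ δ) →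
  ∃ (K : Type) (_ : Field K) (_ : CharP K 2) (_ : Finite K) (x : Qx F K) (η : K), Eta x δ η ∧
    (∃ s : StarRing K, ∀ a : K, s.star a = a) ∧ ∃ s : StarRing K, ∀ a : K, s.star a = x.σ a

/-- the element of `SL` with matrix `M` (or `1`) -/
noncomputable def sl {m : ℕ} {F : Type} [Field F] (M : Matrix (Fin (m + 1)) (Fin (m + 1)) F) :
    SLn m F := open Classical in if h : M.det = 1 then ⟨M, h⟩ else 1

/-- extension of scalars -/
def vx {m : ℕ} {F K : Type} [Field F] [Field K] (φ : F →+* K) (v : Vn m F) : Vn m K :=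
  fun i => φ (v i)

end Gen

section Rel

variable {n : ℕ} {F : Type} [Field F] [StarRing F] [TrivialStar F] [CharP F 2] [Finite F]

/-- the general element of `S²⟨u, v⟩` -/
noncomputable def m2 (u v : Vn n F) (a b c : F) : XU n F := Tc a u * Tc b v * qq (c • v) u
/-- the general element of `S²⟨u, v, w⟩` -/
noncomputable def m3 (u v w : Vn n F) (a b c d f h : F) : XU n F :=
  m2 u v a b d * Tc c w * qq (f • w) u * qq (h • w) v
/-- `u`, `v`, `w` are pairwise perpendicular -/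
structure P3 (u v w : Vn n F) : Prop where
  uv : hf u v = 0
  uw : hf u w = 0
  vw : hf v w = 0
/-- `e₀ ↦ l e_n`, `e_n ↦ l⁻¹ e₀` -/
noncomputable def sw (l : F) : XU n F := Tc l⁻¹ (ev 0) * Tc l (ev (la n)) * Tc l⁻¹ (ev 0)

variable {G : Type u} [Group G] (e : XU n F →* G)

/-- What is used about `C(t)`. -/
structure AW (t : G) : Prop where
  inj : Function.Injective e
  tt : t * t = 1
  cen : ∀ g, t * e g = e g * t
  ne : ∀ g, t ≠ e g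
  ck : ∀ g, g * t = t * g → (∀ p, g * e p = e p * g) → g = 1 ∨ g = t
  vQ : ∀ g (u : Vn n F), u ≠ 0 → g * t = t * g →
    (∀ x c, hf x u = 0 → g * e (EE u x c) = e (EE u x c) * g) →
    ∃ x c, hf x u = 0 ∧ (g = e (EE u x c) ∨ g = t * e (EE u x c))
  v1 : ∀ g (u : Vn n F), u ≠ 0 → g * t = t * g → (∀ p, ac p u = u → g * e p = e p * g) →
    ∃ a, g = e (Tc a u) ∨ g = t * e (Tc a u)
  v2 : ∀ g (u v : Vn n F), hf u v = 0 → Li u v → g * t = t * g →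
    (∀ p, ac p u = u → ac p v = v → g * e p = e p * g) →
    ∃ a b c, g = e (m2 u v a b c) ∨ g = t * e (m2 u v a b c)
  v3 : ∀ g (u v w : Vn n F), P3 u v w → Li3 u v w → g * t = t * g →
    (∀ p, ac p u = u → ac p v = v → ac p w = w → g * e p = e p * g) →
    ∃ a b c d f h, g = e (m3 u v w a b c d f h) ∨ g = t * e (m3 u v w a b c d f h)
  uq2 : ∀ (u v : Vn n F) a b c a' b' c', hf u v = 0 → Li u v → m2 u v a b c = m2 u v a' b' c' →
    a = a' ∧ b = b' ∧ c = c'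
  uq3 : ∀ (u v w : Vn n F) a b c d f h a' b' c' d' f' h', P3 u v w → Li3 u v w →
    m3 u v w a b c d f h = m3 u v w a' b' c' d' f' h' →
      a = a' ∧ b = b' ∧ c = c' ∧ d = d' ∧ f = f' ∧ h = h'

section Tau

variable (τ : Vn n F → G)

/-- An equivariant family. -/
structure R0 : Prop where
  zero : τ 0 = 1
  eqv : ∀ g v, e g * τ v * (e g)⁻¹ = τ (ac g v)

/-- `τ v` maps `t` to `t e(TT v)`. -/
def Tt (t : G) : Prop := ∀ v, τ v * t * (τ v)⁻¹ = t * e (TT v)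

/-- squares -/
def Sq (ρ : F) : Prop := ∀ v, τ v * τ v = e (Tc ρ v)

/-- `1 + η (u v* + v u*)` for `β = 0`, `1 + η u v* + η̄ v u*` for `β = 1` -/
noncomputable def sg (β : F) (u v : Vn n F) : G := τ (u + v) * τ u * τ v * e (Tc β u * Tc β v)

/-- Commutators of independent pairs. -/
structure R1a (β : F) : Prop extends R0 e τ where
  cmi : ∀ u v, hf u v = 0 → Li u v → cm (τ u) (τ v) = e (qq (β • v) u)

/-- Commutators. -/
structure R1 (β : F) : Prop extends R0 e τ where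
  cmp : ∀ u v, hf u v = 0 → cm (τ u) (τ v) = e (qq (β • v) u)

/-- Additivity on independent triples. -/
structure R2 (β : F) : Prop extends R1 e τ β where
  sq : Sq e τ β
  sadd3 : ∀ u v w, P3 u v w → Li3 u v w → sg e τ β u (v + w) = sg e τ β u v * sg e τ β u w

/-- Additivity off the line `F u`. -/
structure R3 (β : F) : Prop extends R2 e τ β where
  ssq : ∀ u v, hf u v = 0 → sg e τ β u v * sg e τ β u v = 1
  ssym : ∀ u v, hf u v = 0 → sg e τ β v u = sg e τ β u v * e (qq (β • v) u)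
  stau : ∀ u v w, P3 u v w → τ w * sg e τ β u v = sg e τ β u v * τ w
  saddi : ∀ u v w, P3 u v w → Li u v → Li u w → Li u (v + w) →
    sg e τ β u (v + w) = sg e τ β u v * sg e τ β u w
  phi : ∃ f : F → F, f 1 = β ∧ ∀ u v a, hf u v = 0 → Li u v →
    sg e τ β u (v + a • u) = sg e τ β u v * e (Tc (f a) u)
  sscali : ∀ (a : F) u v, hf u v = 0 → Li u v → a ≠ 0 → sg e τ β (a • u) v = sg e τ β u (a • v)

/-- The relations inside the totally isotropic subspaces. -/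
structure RA (β : F) : Prop extends R1 e τ β where
  sq : Sq e τ β
  ssq : ∀ u v, hf u v = 0 → sg e τ β u v * sg e τ β u v = 1
  ssym : ∀ u v, hf u v = 0 → sg e τ β v u = sg e τ β u v * e (qq (β • v) u)
  stau : ∀ u v w, P3 u v w → τ w * sg e τ β u v = sg e τ β u v * τ w
  nadd : ∀ (a b : F) u, τ (a • u) * τ (b • u) = τ ((a + b) • u) * e (Tc (β * a * b) u)
  sadd : ∀ u v w, P3 u v w → sg e τ β u (v + w) = sg e τ β u v * sg e τ β u w
  sscal : ∀ (a : F) u v, hf u v = 0 → sg e τ β (a • u) v = sg e τ β u (a • v)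
  shift : ∀ (a : F) u, sg e τ β u (a • u) = e (Tc (β * a) u)

/-- The product in `Q*_u`. -/
def RB (β δ : F) : Prop := ∀ u v w, hf u v = 0 → hf u w = 0 →
  sg e τ β u v * sg e τ β u w =
    sg e τ β u (v + w) * τ (rt ((1 + β) * hf v w) • u) * e (Tc (δ * hf v w) u)

/-- The case `β = 0`. -/
structure RD (δ : F) : Prop extends RA e τ 0 where
  mul : RB e τ 0 δ
  cS : ∀ u v x, hf u v = 0 → hf u x = 0 → τ x * sg e τ 0 u v * (τ x)⁻¹ =
    e (qq ((δ * hf v x) • x) u) * sg e τ 0 u (v + hf v x • x) * τ ((rt δ * hf v x) • u)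

/-- `Q*_u` (`β = 0`) -/
def AD (u : Vn n F) : Subgroup G := closure {g | ∃ x c v, ∃ a : F, hf x u = 0 ∧ hf u v = 0 ∧
  g = e (EE u x c) * sg e τ 0 u v * τ (a • u)}
/-- `P*_u` (`β = 0`) -/
def PD (u : Vn n F) : Subgroup G :=
  closure {g | (∃ p, ac p u = u ∧ g = e p) ∨ ∃ y, hf y u = 0 ∧ g = τ y}
/-- the Levi factor (`β = 0`) -/
def LD (u u' : Vn n F) : Subgroup G := closure
  {g | (∃ p, ac p u = u ∧ ac p u' = u' ∧ g = e p) ∨ ∃ y, hf y u = 0 ∧ hf y u' = 0 ∧ g = τ y}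
/-- everything (`β = 0`) -/
def GD : Subgroup G := closure (Set.range e ∪ Set.range τ)

/-- The structure of the parabolic subgroups (`β = 0`). -/
structure SD : Prop where
  nf : ∀ u, ∀ g ∈ AD e τ u, ∃ x c v, ∃ a : F, hf x u = 0 ∧ hf u v = 0 ∧
    g = e (EE u x c) * sg e τ 0 u v * τ (a • u)
  dec : ∀ u u', hf u u' = 1 → ∀ p ∈ PD e τ u, ∃ a ∈ AD e τ u, ∃ l ∈ LD e τ u u', p = a * l
  nrm : ∀ u, ∀ p ∈ PD e τ u, ∀ a ∈ AD e τ u, p * a * p⁻¹ ∈ AD e τ u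
  gen : ∀ u u', hf u u' = 1 → AD e τ u ⊔ AD e τ u' = GD e τ
  perf : GD e τ ≤ ⁅GD e τ, GD e τ⁆

end Tau

section Sig

variable (s : Vn n F → Vn n F → G)

/-- `s u v` maps `t` to `t e(u ∧ v)`. -/
def Sv (t : G) : Prop := ∀ u v, hf u v = 0 → s u v * t * (s u v)⁻¹ = t * e (qq v u)

/-- The relations of the elements `s u v = 1 + η u v* + η̄ v u*`, `η η̄ = δ`, `η + η̄ = 1`. -/
structure RE (δ : F) : Prop where
  eqv : ∀ g u v, hf u v = 0 → e g * s u v * (e g)⁻¹ = s (ac g u) (ac g v)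
  mul : ∀ u v w, hf u v = 0 → hf u w = 0 → s u v * s u w = s u (v + w) * e (Tc (δ * hf v w) u)
  ssym : ∀ u v, hf u v = 0 → s v u = s u v * e (qq v u)
  sscal : ∀ (a : F) u v, hf u v = 0 → s (a • u) v = s u (a • v)
  shift : ∀ (a : F) u, s u (a • u) = e (Tc a u)
  cS : ∀ u x z v, P3 u x z → hf u v = 0 → s x z * s u v * (s x z)⁻¹ =
    e (qq (δ • (hf v z • x + hf v x • z)) u) * s u (v + hf v x • z)

/-- `EE u (x + η̄ v) (c + η̄ hf v x)` -/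
noncomputable def EA (u x : Vn n F) (c : F) (v : Vn n F) : G := e (EE u x c) * s u v
/-- the transvection `Tc d (x + η̄ v)` -/
noncomputable def TA (δ d : F) (x v : Vn n F) : G := e (Tc d x) * s (d • x) v * e (Tc (d * δ) v)
/-- `Q*_u` -/
def AE (u : Vn n F) : Subgroup G :=
  closure {g | ∃ x c v, hf x u = 0 ∧ hf u v = 0 ∧ g = EA e s u x c v}
/-- `P*_u` -/
def PE (u : Vn n F) : Subgroup G :=
  closure {g | (∃ p, ac p u = u ∧ g = e p) ∨ ∃ x z, P3 u x z ∧ g = s x z}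
/-- the Levi factor -/
def LE (u u' : Vn n F) : Subgroup G := closure
  {g | (∃ p, ac p u = u ∧ ac p u' = u' ∧ g = e p) ∨ ∃ x z, P3 u x z ∧ hf u' x = 0 ∧ hf u' z = 0 ∧
    g = s x z}
/-- everything -/
def GE : Subgroup G := closure (Set.range e ∪ {g | ∃ u v, hf u v = 0 ∧ g = s u v})

/-- The structure of the parabolic subgroups. -/
structure SE : Prop where
  nf : ∀ u, ∀ g ∈ AE e s u, ∃ x c v, hf x u = 0 ∧ hf u v = 0 ∧ g = EA e s u x c v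
  nfH : ∀ g ∈ AE e s (ev 0), ∃ x c v, Hy x ∧ Hy v ∧ g = EA e s (ev 0) x c v
  dec : ∀ u u', hf u u' = 1 → ∀ p ∈ PE e s u, ∃ a ∈ AE e s u, ∃ l ∈ LE e s u u', p = a * l
  nrm : ∀ u, ∀ p ∈ PE e s u, ∀ a ∈ AE e s u, p * a * p⁻¹ ∈ AE e s u
  gen : ∀ u u', hf u u' = 1 → AE e s u ⊔ AE e s u' = GE e s
  perf : GE e s ≤ ⁅GE e s, GE e s⁆

/-- The action of a model on the isotropic vectors; `o = e₀`. -/
structure Md (δ : F) {Ω : Type} [MulAction G Ω] (R : Ω → Ω → Prop) (o : Ω) : Prop where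
  symm : ∀ a b, R a b → R b a
  inv : ∀ (g : G) a b, R a b → R (g • a) (g • b)
  pth : Pth R
  fixe : ∀ p, ac p (ev 0) = ev 0 → e p • o = o
  fixs : ∀ x z, P3 (ev 0) x z → s x z • o = o
  adj : ∀ l, l ≠ 0 → R (e (sw l) • o) o
  nb : ∀ w, R w o → ∃ x c v l, Hy x ∧ Hy v ∧ l ≠ 0 ∧ w = (EA e s (ev 0) x c v * e (sw l)) • o
  reg : ∀ x c v l l', Hy x → Hy v → l ≠ 0 → l' ≠ 0 →
    (EA e s (ev 0) x c v * e (sw l)) • o = e (sw l') • o → l = l' ∧ x = 0 ∧ v = 0 ∧ c = 0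
  tri : ∀ x c v l l', Hy x → Hy v → l ≠ 0 → l' ≠ 0 →
    R ((EA e s (ev 0) x c v * e (sw l)) • o) (e (sw l') • o) → hf x v = 0 ∧ c ≠ 0
  idn : ∀ x c v, Hy x → Hy v → hf x v = 0 → c ≠ 0 → EA e s (ev (la n)) x c v =
    EA e s (ev 0) (c⁻¹ • x) c⁻¹ (c⁻¹ • v) * e (sw c) * TA e s δ c⁻¹ (x + ev 0) v

end Sig

variable {e}

theorem R0.fix {τ : Vn n F → G} (h : R0 e τ) {g : XU n F} {v : Vn n F} (hv : ac g v = v) :
    e g * τ v = τ v * e g := by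
  have := h.eqv g v
  rwa [hv, mul_inv_eq_iff_eq_mul] at this

theorem R0.sg_eqv [FV n F] {τ : Vn n F → G} (h : R0 e τ) (β : F) (g : XU n F) (u v : Vn n F) :
    e g * sg e τ β u v * (e g)⁻¹ = sg e τ β (ac g u) (ac g v) := by
  simp only [sg, ← ac_add, ← h.eqv, ← Tc_conj (FV.iso _) (star_trivial β) g, map_mul, map_inv]
  group

theorem R0.sv [FV n F] {τ : Vn n F → G} {t : G} (h : R0 e τ) (hc : ∀ g, t * e g = e g * t)
    (ht : Tt e τ t) (β : F) : Sv e (sg e τ β) t := fun u v huv => by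
  have p := FV.pp u v huv
  have k : ∀ {a b : Vn n F}, hf a b = 0 → τ a * e (TT b) * (τ a)⁻¹ = e (TT b) := fun {a b} hab => by
    rw [mul_inv_eq_iff_eq_mul, h.fix (by rw [ac_Tc (FV.iso b) (star_one F), hab]; simp)]
  have h1 : hf (u + v) u = 0 := by rw [hf_add_left, FV.iso u, hf_symm huv, add_zero]
  have h2 : hf (u + v) v = 0 := by rw [hf_add_left, FV.iso v, huv, add_zero]
  calc _ = τ (u + v) * (τ u * (τ v * (e (Tc β u * Tc β v) * t * (e (Tc β u * Tc β v))⁻¹) * (τ v)⁻¹) *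
        (τ u)⁻¹) * (τ (u + v))⁻¹ := by rw [sg]; group
    _ = _ := by
      have c : ∀ a b g : G, g * (a * b) * g⁻¹ = g * a * g⁻¹ * (g * b * g⁻¹) := fun a b g => by group
      rw [← hc, mul_inv_cancel_right, ht, c t, ht, k huv, c (t * _), c t, ht, k h1, k h2,
        qq_eq_TT p, map_mul, map_mul, mul_assoc, mul_assoc, mul_assoc]

end Rel

section Models

variable {n : ℕ} {F : Type} [Field F] [StarRing F] [TrivialStar F] [CharP F 2] [Finite F]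
  {K : Type} [Field K] [StarRing K] [CharP K 2] [Finite K]

/-- `1 + η v v*` in `Sp_(2k)(q²)` -/
noncomputable def TS (φ : F →+* K) (η : K) (v : Vn n F) : XU n K := Tc η (vx φ v)
/-- `1 + η u v* + η̄ v u*` in `SU_(2k)(q)` -/
noncomputable def SU0 (φ : F →+* K) (η : K) (u v : Vn n F) : XU n K :=
  EE (vx φ u) ((η + 1) • vx φ v) 0
/-- `1 + v w* + w v* + η v v*` in `SU_(2k+1)(q)` -/
noncomputable def TU (φ : F →+* K) (η : K) (v : Vn n F) : XU (n + 1) K :=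
  EE (iv (vx φ v)) (ev (mid n)) η
/-- `1 + ε u v* + (ε + 1) v u*` in `SL_(2k)(q)` -/
noncomputable def SL0 (ε : F) (u v : Vn n F) : SLn n F := sl (1 + ε • op u v + (ε + 1) • op v u)
/-- `1 + v w* + w v* + ε v v*` in `SL_(2k+1)(q)` -/
noncomputable def TL (ε : F) (v : Vn n F) : SLn (n + 1) F := sl (mE (iv v) (ev (mid n)) ε)

variable (n F) in
/-- `j` is the natural embedding `SL(V) ≤ SL(V ⊕ ⟨ev mid⟩)`. -/
def IsInL (j : SLn n F →* SLn (n + 1) F) : Prop :=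
  ∀ g, (j g).1 *ᵥ ev (mid n) = ev (mid n) ∧ ∀ v, (j g).1 *ᵥ iv v = iv (g.1 *ᵥ v)

/-- the graph on the isotropic vectors -/
def RI (x y : Vn n K) : Prop := Iso x ∧ Iso y ∧ star (hf x y) = hf x y ∧ hf x y ≠ 0
/-- the graph on the vectors of norm one -/
def RN (x y : Vn n K) : Prop := hf x x = 1 ∧ hf y y = 1 ∧ hf x y = 1
/-- the graph on the pairs (vector, functional) -/
def RP (p p' : Vn n F × Vn n F) : Prop := hf p.1 p.2 = 1 ∧ hf p'.1 p'.2 = 1 ∧ hf p.1 p'.2 = 1 ∧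
  hf p'.1 p.2 = 1 ∧ (p.1 = p'.1 ↔ p.2 = p'.2)

variable (x : Qx F K) (δ : F) (η : K)

variable (n) in
/-- The model `Sp_(2k)(q²)`. -/
structure MS (h : ∀ a : K, star a = a) : Prop where
  rd : RD (bc x.φ (x.st (Or.inl h)) : XU n F →* XU n K) (TS x.φ η) δ
  fe : ∀ g : XU n F, fa x.σ (x.sf (Or.inl h)) (bc x.φ (x.st (Or.inl h)) g) = bc x.φ (x.st (Or.inl h)) g
  ft : ∀ v : Vn n F, fa x.σ (x.sf (Or.inl h)) (TS x.φ η v) =
    bc x.φ (x.st (Or.inl h)) (TT v) * TS x.φ η v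
  ee : ∀ (u y : Vn n F) c, hf y u = 0 →
    bc x.φ (x.st (Or.inl h)) (EE u y c) = EE (vx x.φ u) (vx x.φ y) (x.φ c)
  sg : ∀ u v : Vn n F, hf u v = 0 →
    sg (bc x.φ (x.st (Or.inl h))) (TS x.φ η) 0 u v = qq (η • vx x.φ v) (vx x.φ u)
  inj : ∀ (u y v : Vn n F) (c a : F), u ≠ 0 → hf y u = 0 → hf u v = 0 →
    EE (vx x.φ u) (vx x.φ y) (x.φ c) * qq (η • vx x.φ v) (vx x.φ u) * TS x.φ η (a • u) = 1 →
      EE u y c = 1 ∧ a = 0 ∧ ∃ b : F, v = b • u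
  lev : ∀ (u u' : Vn n F), hf u u' = 1 →
    ∀ a ∈ AD (bc x.φ (x.st (Or.inl h))) (TS x.φ η) u,
    ∀ l ∈ LD (bc x.φ (x.st (Or.inl h))) (TS x.φ η) u u', a * l = 1 → a = 1
  dec : ∀ c : K, ∃ a b : F, c = x.φ a + η * x.φ b

variable (n) in
/-- The model `SU_(2k)(q)`. -/
structure MU (h : ∀ a : K, star a = x.σ a) : Prop where
  par : UA.Par n K
  par' : UA.Par (n + 1) K
  re : RE (bc x.φ (x.st (Or.inr h)) : XU n F →* XU n K) (SU0 x.φ η) δ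
  gen : GE (bc x.φ (x.st (Or.inr h)) : XU n F →* XU n K) (SU0 x.φ η) = ⊤
  genP : ∀ g : XU n K, ac g (ev 0) = ev 0 →
    g ∈ PE (bc x.φ (x.st (Or.inr h)) : XU n F →* XU n K) (SU0 x.φ η) (ev 0)
  fe : ∀ g : XU n F, fa x.σ (x.sf (Or.inr h)) (bc x.φ (x.st (Or.inr h)) g) = bc x.φ (x.st (Or.inr h)) g
  fs : ∀ u v : Vn n F, hf u v = 0 → fa x.σ (x.sf (Or.inr h)) (SU0 x.φ η u v) = SU0 x.φ η v u

variable (n) in
/-- The model `SU_(2k+1)(q)`. -/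
structure MU1 (h : ∀ a : K, star a = x.σ a) : Prop where
  isIns : IsIns n K (ins n K)
  inj : Function.Injective (ins n K)
  rng : ∀ g : XU (n + 1) K, ac g (ev (mid n)) = ev (mid n) → ∃ y, ins n K y = g
  sq : ∀ g : XU n F, bc x.φ (x.st (Or.inr h)) (ins n F g) = ins n K (bc x.φ (x.st (Or.inr h)) g)
  r1 : R1 ((bc x.φ (x.st (Or.inr h))).comp (ins n F)) (TU x.φ η) 1
  tsq : Sq ((bc x.φ (x.st (Or.inr h))).comp (ins n F)) (TU x.φ η) 1
  sg : ∀ u v : Vn n F, hf u v = 0 →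
    sg ((bc x.φ (x.st (Or.inr h))).comp (ins n F)) (TU x.φ η) 1 u v = ins n K (SU0 x.φ η u v)
  cj : ∀ (y : XU n K) (v : Vn n K), Iso v →
    ins n K y * EE (iv v) (ev (mid n)) η * (ins n K y)⁻¹ = EE (iv (ac y v)) (ev (mid n)) η
  mv : ∀ v : Vn n K, Iso v → ac (EE (iv v) (ev (mid n)) η) (ev (mid n)) = ev (mid n) + iv v
  nb : ∀ z : Vn (n + 1) K, RN z (ev (mid n)) ↔ ∃ v, Iso v ∧ z = ev (mid n) + iv v
  hi : ∀ v w : Vn n K, hf (ev (mid n) + iv v) (ev (mid n) + iv w) = 1 + hf v w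
  trans : ∀ z : Vn (n + 1) K, hf z z = 1 → Relation.ReflTransGen RN (ev (mid n)) z
  fi : ∀ y : XU n K, fa x.σ (x.sf (Or.inr h)) (ins n K y) = ins n K (fa x.σ (x.sf (Or.inr h)) y)
  ft : ∀ v : Vn n F, fa x.σ (x.sf (Or.inr h)) (TU x.φ η v) =
    bc x.φ (x.st (Or.inr h)) (ins n F (TT v)) * TU x.φ η v

variable (n) in
/-- The model `SL_(2k+1)(q)`; `g` acts on pairs by `(g, τ g)`. -/
structure ML1 (ε : F) (j : SLn n F →* SLn (n + 1) F) : Prop where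
  isIn : IsInL n F j
  inj : Function.Injective j
  rng : ∀ g : SLn (n + 1) F, g.1 *ᵥ ev (mid n) = ev (mid n) →
    (tau (n + 1) F g).1 *ᵥ ev (mid n) = ev (mid n) → ∃ y, j y = g
  sq : ∀ g : XU n F, io (n + 1) F (ins n F g) = j (io n F g)
  r1 : R1 ((io (n + 1) F).comp (ins n F)) (TL ε) 1
  tsq : Sq ((io (n + 1) F).comp (ins n F)) (TL ε) 1
  sg : ∀ u v : Vn n F, hf u v = 0 →
    sg ((io (n + 1) F).comp (ins n F)) (TL ε) 1 u v = j (SL0 ε u v)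
  hft : ∀ (m : ℕ) (g : SLn m F) (a b : Vn m F), hf (g.1 *ᵥ a) ((tau m F g).1 *ᵥ b) = hf a b
  mv : ∀ v : Vn n F, (TL ε v).1 *ᵥ ev (mid n) = ev (mid n) + iv v ∧
    (tau (n + 1) F (TL ε v)).1 *ᵥ ev (mid n) = ev (mid n) + iv v
  fx : ∀ v z : Vn n F, hf z v = 0 → (TL ε v).1 *ᵥ iv z = iv z ∧
    (tau (n + 1) F (TL ε v)).1 *ᵥ iv z = iv z
  cj : ∀ y : SLn n F, y.1 *ᵥ ev 0 = ev 0 → (tau n F y).1 *ᵥ ev 0 = ev 0 →
    j y * TL ε (ev 0) = TL ε (ev 0) * j y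
  dec : ∀ z : Vn (n + 1) F, hf z (ev (mid n)) = 1 ↔ ∃ v, z = ev (mid n) + iv v
  hi : ∀ v w : Vn n F, hf (ev (mid n) + iv v) (ev (mid n) + iv w) = 1 + hf v w
  fi : ∀ y, tau (n + 1) F (j y) = j (tau n F y)
  ft : ∀ v : Vn n F, tau (n + 1) F (TL ε v) = io (n + 1) F (ins n F (TT v)) * TL ε v
  /-- the stabiliser of `(e₀, e₀)` -/
  genP : ∀ g : SLn n F, g.1 *ᵥ ev 0 = ev 0 → (tau n F g).1 *ᵥ ev 0 = ev 0 →
    g ∈ PE (io n F) (SL0 ε) (ev 0)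
  w1 : ∀ a f : Vn n F, a ≠ 0 → f ≠ 0 → hf a f = 0 →
    ∃ g : SLn n F, g.1 *ᵥ ev 0 = a ∧ (tau n F g).1 *ᵥ ev 0 = f
  w2 : ∀ a f a' f' : Vn n F, Li a a' → Li f f' → hf a f = 0 → hf a f' = 0 → hf a' f = 0 →
    hf a' f' = 0 → ∃ g : SLn n F, g.1 *ᵥ ev 0 = a ∧ (tau n F g).1 *ᵥ ev 0 = f ∧
      g.1 *ᵥ ev 1 = a' ∧ (tau n F g).1 *ᵥ ev 1 = f'

end Models

/-- A statement on a quadratic extension with `η`; `b = true`: `star = σ`, `b = false`: trivial. -/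
def AllK (P : ∀ (_ : ℕ) (F : Type) [Field F] [StarRing F] [TrivialStar F] [CharP F 2] [Finite F]
    (K : Type) [Field K] [StarRing K] [CharP K 2] [Finite K] (_ : Qx F K) (_ : F) (_ : K), Prop) :
    Prop :=
  AllB fun n F _ _ _ _ _ => ∀ (K : Type) [Field K] [StarRing K] [CharP K 2] [Finite K] (x : Qx F K)
    (δ : F) (η : K), Eta x δ η → P n F K x δ η

/-- A statement for all groups `G` (not necessarily finite) and `e`. -/
def AllE (P : ∀ (n : ℕ) (F : Type) [Field F] [StarRing F] [TrivialStar F] [CharP F 2] [Finite F]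
    (G : Type u) [Group G], (XU n F →* G) → Prop) : Prop :=
  AllB fun n F _ _ _ _ _ => ∀ (G : Type u) [Group G] (e : XU n F →* G), P n F G e

/-! ### the relations -/

def JobAW : Prop := AllA.{u} fun _ _ _ _ _ _ _ _ _ e t => CH e t → AW e t
def JobT1a : Prop := AllA.{u} fun _ _ _ _ _ _ _ _ _ e t => AW e t → Tr e t 0 →
  ∃ τ β ρ, R1a e τ β ∧ Tt e τ t ∧ Sq e τ ρ
def JobT1b : Prop := AllA.{u} fun _ _ _ _ _ _ _ _ _ e t => AW e t → ∀ τ β ρ, R1a e τ β →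
  Tt e τ t → Sq e τ ρ → R1 e τ β
def JobT2 : Prop := AllA.{u} fun _ _ _ _ _ _ _ _ _ e t => AW e t → ∀ τ β ρ, R1 e τ β →
  Tt e τ t → Sq e τ ρ → R2 e τ β
def JobT3 : Prop := AllA.{u} fun _ _ _ _ _ _ _ _ _ e t => AW e t → ∀ τ β, R2 e τ β →
  Tt e τ t → R3 e τ β
def JobT4 : Prop := AllE.{u} fun _ _ _ _ _ _ _ _ _ e => ∀ τ β, R3 e τ β → RA e τ β
def JobTB : Prop := AllA.{u} fun _ _ _ _ _ _ _ _ _ e t => AW e t → ∀ τ β, RA e τ β →
  Tt e τ t → (β = 0 ∨ β = 1) ∧ ∃ δ, RB e τ β δ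
def JobTD : Prop := AllA.{u} fun _ _ _ _ _ _ _ _ _ e t => AW e t → ∀ τ δ, RA e τ 0 →
  Tt e τ t → RB e τ 0 δ → RD e τ δ
def JobTE : Prop := AllA.{u} fun _ _ _ _ _ _ _ _ _ e t => AW e t → ∀ τ δ, RA e τ 1 →
  Tt e τ t → RB e τ 1 δ → RE e (sg e τ 1) δ

/-! ### `β = 0` -/

def JobRW : Prop := AllA.{u} fun _ _ _ _ _ _ _ _ _ e t => AW e t → ∀ τ δ ε, RD e τ δ →
  Tt e τ t → ε ^ 2 + ε = δ → RW e t
def JobSD : Prop := AllE.{u} fun _ _ _ _ _ _ _ _ _ e => ∀ τ δ, RD e τ δ → SD e τ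
def JobMS : Prop := AllK fun n _ _ _ _ _ _ _ _ _ _ _ x δ η => ∀ h, MS n x δ η h
/-- The presentation of `Sp_(2k)(K)`, `|K| > 2`, modulo the centre. -/
def JobPR : Prop := AllB fun n K _ _ _ _ _ => 2 < Nat.card K → ∀ (Γ : Type u) [Group Γ]
  (π : Γ →* XU n K) (z m : Fin (n + 1) → K → Γ) (P : Fin (n + 1) → Subgroup Γ),
  (∀ j c, π (z j c) = Tc c (ev j)) →
  (∀ i c, i.val + 1 < kk n → π (m i c) = qq (c • ev (i + 1)) (ev i)) →
  (∀ l, l.val < kk n → (∀ g ∈ P l, π g = 1 → g ∈ center Γ) ∧ (∀ j c, j ≠ l.rev → z j c ∈ P l) ∧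
    ∀ i c, i.val + 1 < kk n → m i c ∈ P l) →
  closure {g | (∃ j c, g = z j c) ∨ ∃ i c, i.val + 1 < kk n ∧ g = m i c} = ⊤ →
  π.ker ≤ center Γ ∧ Function.Surjective π
/-- `X` is generated by the long root subgroups and the simple short `e_i + e_(i+1)` ones. -/
def JobGX : Prop := AllB fun n F _ _ _ _ _ => ∀ A : Subgroup (XU n F), (∀ j c, Tc c (ev j) ∈ A) →
  (∀ (i : Fin (n + 1)) (c : F), i.val + 1 < kk n → qq (c • ev (i + 1)) (ev i) ∈ A) → A = ⊤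
def JobQS : Prop := AllB fun n F _ _ _ _ _ => QY (XU n F)
def JobRS : Prop := JobGR.{u} → JobPR.{u} → JobGX → JobSD.{u} → JobMS → JobQS →
  (All fun n F _ _ _ _ _ => Base n F) → AllK fun n F _ _ _ _ _ K _ _ _ _ _ δ _ =>
  (∀ a : K, star a = a) → ∀ (G : Type u) [Group G] [Finite G] (e : XU n F →* G) (t : G) τ,
    AW e t → RD e τ δ → Tt e τ t → RS2 e t

/-! ### `SL_(2k)`, `SU_(2k)` from `RE` -/

def JobSE : Prop := AllE.{u} fun _ _ _ _ _ _ _ _ _ e => ∀ s δ, RE e s δ → SE e s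
def JobKE : Prop := JobTL.{u} → AllE.{u} fun n F _ _ _ _ _ Γ _ e => ∀ s δ, RE e s δ → SE e s →
  GE e s = ⊤ → ∀ (Y : Type) [Group Y] (π : Γ →* Y) (Ω : Type) [MulAction Y Ω] (R : Ω → Ω → Prop)
    (o : Ω), Md (G := Y) (π.comp e) (fun u v : Vn n F => π (s u v)) δ R o → π.ker ≤ center Γ
def JobMU : Prop := AllK fun n _ _ _ _ _ _ _ _ _ _ _ x δ η => ∀ h, MU n x δ η h
def JobPI : Prop := ∀ (n : ℕ) (K : Type) [Field K] [StarRing K] [CharP K 2] [Finite K]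
  [UA.Par n K], Odd n → Pth (RI (n := n) (K := K))
def JobMdU : Prop := JobPI → AllK fun n F _ _ _ _ _ K _ _ _ _ x δ η => ∀ h, MU n x δ η h →
  ∃ (_ : MulAction (XU n K) (Vn n K)), Md (G := XU n K)
    (bc x.φ (x.st (Or.inr h)) : XU n F →* XU n K) (SU0 x.φ η) δ RI (ev 0 : Vn n K)
def JobQU : Prop := ∀ (n : ℕ) (K : Type) [Field K] [StarRing K] [CharP K 2] [Finite K]
  [UA.Par n K], QY (XU n K)
def JobQL : Prop := ∀ (n : ℕ) (F : Type) [Field F] [CharP F 2] [Finite F], 5 ≤ n → QY (SLn n F)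
/-- Step B, unitary. -/
def BU : Prop := AllK fun n F _ _ _ _ _ K _ _ _ _ x δ η => ∀ (h : ∀ a : K, star a = x.σ a)
  (G : Type u) [Group G] [Finite G] (e : XU n F →* G) (t : G) s, Function.Injective e →
    (∀ g, t * e g = e g * t) → RE e s δ → Sv e s t →
    ∃ Φ : XU n K →* G, Hm (bc x.φ (x.st (Or.inr h))) (fa x.σ (x.sf (Or.inr h))) e t Φ ∧
      ∀ u v, hf u v = 0 → Φ (SU0 x.φ η u v) = s u v
def JobBU : Prop := JobGR.{u} → JobSE.{u} → JobTL.{u} → JobKE.{u} → JobMU → JobPI → JobMdU → JobQU →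
  BU.{u}
/-- Step B, linear. -/
def BL : Prop := AllA.{u} fun n F _ _ _ _ _ G _ e t => ∀ s δ ε, ε ^ 2 + ε = δ →
  Function.Injective e → (∀ g, t * e g = e g * t) → RE e s δ → Sv e s t →
    ∃ Φ : SLn n F →* G, Hm (io n F) (tau n F) e t Φ ∧ ∀ u v, hf u v = 0 → Φ (SL0 ε u v) = s u v
def JobBL : Prop := JobQL → BL.{u}

/-! ### `SL_(2k+1)`, `SU_(2k+1)` -/

/-- The norm-one graph. -/
def JobPN : Prop := ∀ (n : ℕ) (K : Type) [Field K] [StarRing K] [CharP K 2] [Finite K]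
  [UA.Par n K], 6 ≤ n → Pth (RN (n := n) (K := K)) ∧
    ∀ a z : Vn n K, hf a a = 1 → hf z z = 1 → Relation.ReflTransGen RN a z
def JobMU1 : Prop := JobPN → AllK fun n _ _ _ _ _ _ _ _ _ _ _ x δ η => ∀ h, MU n x δ η h →
  MU1 n x η h
def JobCU : Prop := JobTL.{u} → JobPN → JobQU → AllK fun n F _ _ _ _ _ K _ _ _ _ x δ η =>
  ∀ (h : ∀ a : K, star a = x.σ a), MU n x δ η h → MU1 n x η h →
  ∀ (G : Type u) [Group G] [Finite G] (e : XU n F →* G) (t : G) τ (Φ : XU n K →* G),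
    Function.Injective e → RA e τ 1 → Tt e τ t →
    Hm (bc x.φ (x.st (Or.inr h))) (fa x.σ (x.sf (Or.inr h))) e t Φ →
    (∀ u v, hf u v = 0 → Φ (SU0 x.φ η u v) = sg e τ 1 u v) → RU1 e t
/-- The graph on the pairs. -/
def JobPP : Prop := All fun n F _ _ _ _ _ => Pth (RP (n := n + 1) (F := F)) ∧
  ∀ p p' : Vn (n + 1) F × Vn (n + 1) F, hf p.1 p.2 = 1 → hf p'.1 p'.2 = 1 →
    Relation.ReflTransGen RP p p'
def JobML1 : Prop := AllB fun n F _ _ _ _ _ => ∀ ε : F, ∃ j, ML1 n ε j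
def JobCL : Prop := JobTL.{u} → JobPP → JobQL → AllA.{u} fun n F _ _ _ _ _ G _ e t =>
  ∀ (ε : F) j, ML1 n ε j → ∀ τ (Φ : SLn n F →* G), Function.Injective e → RA e τ 1 → Tt e τ t →
    Hm (io n F) (tau n F) e t Φ → (∀ u v, hf u v = 0 → Φ (SL0 ε u v) = sg e τ 1 u v) → RL1 e t

/-- The end of chapter II. -/
theorem rl0_or_ru0 (k : JobK) (bu : BU.{u}) (bl : BL.{u}) :
    AllA.{u} fun _ _ _ _ _ _ _ _ _ e t => ∀ s δ, Function.Injective e → (∀ g, t * e g = e g * t) →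
      RE e s δ → Sv e s t → RL0 e t ∨ RU0 e t := by
  intro n F _ _ _ _ _ _ G _ _ e t b c s δ h1 h2 h3 h4
  by_cases h : ∃ ε, ε ^ 2 + ε = δ
  · obtain ⟨ε, h⟩ := h
    obtain ⟨Φ, h5, -⟩ := bl n F G e t b c s δ ε h h1 h2 h3 h4
    exact Or.inl ⟨Φ, h5⟩
  · obtain ⟨K, _, _, _, x, η, h5, -, st, h6⟩ := k F δ (not_exists.1 h)
    obtain ⟨Φ, h7, -⟩ := bu n F b K x δ η h5 h6 G e t s h1 h2 h3 h4
    exact Or.inr ⟨K, _, st, ‹_›, ‹_›, x, h6, Φ, h7⟩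

/-- All the slots of chapter III. -/
structure S3 : Prop where
  base : All fun n F _ _ _ _ _ => Base n F
  fc : All fun n F _ _ _ _ _ => FC n F
  tl : JobTL.{u}
  gr : JobGR.{u}
  k : JobK
  aw : JobAW.{u}
  t1a : JobT1a.{u}
  t1b : JobT1b.{u}
  t2 : JobT2.{u}
  t3 : JobT3.{u}
  t4 : JobT4.{u}
  tb : JobTB.{u}
  td : JobTD.{u}
  te : JobTE.{u}
  rw : JobRW.{u}
  sd : JobSD.{u}
  ms : JobMS
  pr : JobPR.{u}
  gx : JobGX
  qs : JobQS
  rs : JobRS.{u}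
  se : JobSE.{u}
  ke : JobKE.{u}
  mu : JobMU
  pi : JobPI
  mdu : JobMdU
  qu : JobQU
  ql : JobQL
  bu : JobBU.{u}
  bl : JobBL.{u}
  pn : JobPN
  mu1 : JobMU1
  cu : JobCU.{u}
  pp : JobPP
  ml1 : JobML1
  cl : JobCL.{u}

theorem S3.bU (s : S3.{u}) : BU.{u} := s.bu s.gr s.se s.tl s.ke s.mu s.pi s.mdu s.qu
theorem S3.bL (s : S3.{u}) : BL.{u} := s.bl s.ql

theorem S3.jobIII (s : S3.{u}) : JobIII.{u} := by
  intro n F _ _ _ _ _ _ G _ _ e t h0 h1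
  have b := s.base n F
  have c := s.fc n F
  have w := s.aw n F G e t b c h0
  obtain ⟨τ, β, ρ, a1, a2, a3⟩ := s.t1a n F G e t b c w h1
  have a4 := s.t4 n F b G e τ β (s.t3 n F G e t b c w τ β
    (s.t2 n F G e t b c w τ β ρ (s.t1b n F G e t b c w τ β ρ a1 a2 a3) a2 a3) a2)
  obtain ⟨rfl | rfl, δ, a5⟩ := s.tb n F G e t b c w τ β a4 a2
  · have a6 := s.td n F G e t b c w τ δ a4 a2 a5
    by_cases h : ∃ ε, ε ^ 2 + ε = δ
    · obtain ⟨ε, h⟩ := h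
      exact Or.inr (Or.inl (s.rw n F G e t b c w τ δ ε a6 a2 h))
    · obtain ⟨K, _, _, _, x, η, h5, ⟨st, h6⟩, -⟩ := s.k F δ (not_exists.1 h)
      exact Or.inl (s.rs s.gr s.pr s.gx s.sd s.ms s.qs s.base n F b K x δ η h5 h6 G e t τ w a6 a2)
  · have a6 := s.te n F G e t b c w τ δ a4 a2 a5
    have a7 := a4.toR1.toR0.sv w.cen a2 1
    by_cases h : ∃ ε, ε ^ 2 + ε = δ
    · obtain ⟨ε, h⟩ := h
      obtain ⟨Φ, h5, h6⟩ := s.bL n F G e t b c _ δ ε h w.inj w.cen a6 a7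
      obtain ⟨j, hj⟩ := s.ml1 n F b ε
      exact Or.inr (Or.inr (Or.inl (s.cl s.tl s.pp s.ql n F G e t b c ε j hj τ Φ w.inj a4 a2 h5 h6)))
    · obtain ⟨K, _, _, _, x, η, h5, -, st, h6⟩ := s.k F δ (not_exists.1 h)
      obtain ⟨Φ, h7, h8⟩ := s.bU n F b K x δ η h5 h6 G e t _ w.inj w.cen a6 a7
      have m := s.mu n F b K x δ η h5 h6
      exact Or.inr (Or.inr (Or.inr (s.cu s.tl s.pn s.qu n F b K x δ η h5 h6 m
        (s.mu1 s.pn n F b K x δ η h5 h6 m) G e t τ Φ w.inj a4 a2 h7 h8)))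

end H67.SP
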