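import Cfsg.Agent.H67.UASpec

/-! STD-UM: `JobFQ`. -/

set_option autoImplicit false
set_option linter.unusedSectionVars false

namespace H67.UA

open Matrix H57 Subgroup

variable {K : Type} [Field K] [StarRing K] [CharP K 2] [Finite K] [hf : Hf K]

namespace Q

theorem sg_ne : sg K ≠ 1 := fun h => by
  obtain ⟨a, ha⟩ := hf.ne
  exact ha (RingEquiv.congr_fun h a)

theorem eta : ∃ η : K, tr η = 1 := by
  obtain ⟨a, ha⟩ := hf.ne
  have h1 : tr a ≠ 0 := fun h => ha (tr_eq_zero.1 h)
  exact ⟨a / tr a, by rw [tr, star_div₀, star_tr, ← add_div, div_self h1]⟩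

theorem trs (c : K) (hc : star c = c) : ∃ a, tr a = c := by
  obtain ⟨η, h⟩ := eta (K := K)
  exact ⟨c * η, by rw [tr, star_mul', hc, ← mul_add, show η + star η = 1 from h, mul_one]⟩

theorem card : Nat.card K = qK K ^ 2 := by
  obtain ⟨η, h⟩ := eta (K := K)
  have h' : η + star η = 1 := h
  rw [qK, pow_two, ← Nat.card_prod]
  refine (Nat.card_eq_of_bijective (fun p : selfAdjoint K × selfAdjoint K => p.1.1 + p.2.1 * η)
    ⟨fun ⟨⟨a, ha⟩, ⟨b, hb⟩⟩ ⟨⟨c, hc⟩, ⟨d, hd⟩⟩ e => ?_, fun a => ⟨(⟨a + tr a * η, ?_⟩, ⟨tr a, star_tr a⟩),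
      ?_⟩⟩).symm
  · have e1 : a + b * η = c + d * η := e
    have e2 := congrArg star e1
    rw [star_add, star_add, star_mul', star_mul', ha, hb, hc, hd] at e2
    have e3 : b = d := by linear_combination e1 + e2 - (b - d) * h' - (a - c) * two0 K
    subst e3
    obtain rfl : a = c := by linear_combination e1
    rfl
  · change star _ = _
    rw [star_add, star_mul', star_tr, tr]
    linear_combination (a + star a) * h' + (star a - (a + star a) * η) * two0 K
  · change a + tr a * η + tr a * η = a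
    rw [add_assoc, CharTwo.add_self_eq_zero, add_zero]

theorem pow2 : ∃ f, 1 ≤ f ∧ qK K = 2 ^ f := by
  obtain ⟨f, -, h⟩ := SA.exists_card_eq (F := K)
  obtain ⟨g, -, hg⟩ := (Nat.dvd_prime_pow Nat.prime_two).1 (show qK K ∣ 2 ^ f by
    rw [← h, card]; exact dvd_pow_self _ two_ne_zero)
  refine ⟨g, Nat.pos_of_ne_zero ?_, hg⟩
  rintro rfl
  have := SA.one_lt_card (F := K)
  rw [card, hg] at this
  omega

theorem two_le : 2 ≤ qK K := by
  obtain ⟨f, h1, h2⟩ := pow2 (K := K)
  exact h2 ▸ Nat.le_self_pow (by omega) 2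

theorem pow_card (a : K) : a ^ qK K ^ 2 = a := by
  have := Fintype.ofFinite K
  rw [← card, Nat.card_eq_fintype_card, FiniteField.pow_card]

/-- If `a ^ (k + 1) = a` for all `a` then `q² - 1 ∣ k`. -/
theorem dvd_of {k : ℕ} (h : ∀ a : K, a ≠ 0 → a ^ k = 1) : qK K ^ 2 - 1 ∣ k := by
  have := Fintype.ofFinite K
  rw [← card, Nat.card_eq_fintype_card]
  exact (FiniteField.forall_pow_eq_one_iff K k).1 fun a => Units.ext (by simpa using h a a.ne_zero)

theorem star_eq (a : K) : star a = a ^ qK K := by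
  obtain ⟨f, -, h⟩ := pow2 (K := K)
  have h2 := two_le (K := K)
  let φ : RingAut K := iterateFrobeniusEquiv K 2 f
  have h1 : ∀ a, φ a = a ^ qK K := fun a => by rw [h]; rfl
  rcases SA.out_sq_eq_one sg_ne (RingEquiv.ext star_star) (τ := φ) (RingEquiv.ext fun a => by
    rw [RingAut.mul_apply, h1, h1, ← pow_mul, ← pow_two, pow_card]; rfl) with h3 | h3
  · have := Nat.le_of_dvd (by omega) (dvd_of (K := K) (k := qK K - 1) fun a ha =>
      mul_right_cancel₀ ha (by rw [← pow_succ, Nat.sub_add_cancel (by omega), ← h1, h3, one_mul]; rfl))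
    have : qK K * 2 ≤ qK K ^ 2 := by rw [pow_two]; exact Nat.mul_le_mul_left _ h2
    omega
  · rw [← h1, h3]; rfl

theorem star_rt (a : K) : star (rt a) = rt (star a) := sq_inj (by rw [← star_pow, rt_sq, rt_sq])

theorem nm_rt (a : K) : nm (rt (nm a)) = nm a := by rw [nm, star_rt, star_nm, ← pow_two, rt_sq]

theorem dec (a : K) : ∃ b, nm b = 1 ∧ a = rt (nm a) * b := by
  by_cases h : a = 0
  · exact ⟨1, by simp, by rw [h]; exact (sq_inj (by rw [mul_one, rt_sq]; simp)).symm⟩
  have h0 : nm a ≠ 0 := mul_ne_zero h (by simpa using h)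
  exact ⟨a / rt (nm a), by rw [nm, star_div₀, div_mul_div_comm, show _ * star (rt (nm a)) = _ from nm_rt a,
    div_self h0], by rw [mul_div_cancel₀ _ (rt_ne h0)]⟩

theorem h90 (c : K) (h : nm c = 1) : ∃ b, b ≠ 0 ∧ c * star b = b := by
  by_cases h1 : c = 1
  · exact ⟨1, one_ne_zero, by simp [h1]⟩
  · exact ⟨1 + c, fun e => h1 (by linear_combination e - two0 K), by
      rw [star_add, star_one]; linear_combination h⟩

theorem nm_div {b : K} (hb : b ≠ 0) : nm (star b / b) = 1 := by
  have : star b ≠ 0 := by simpa using hb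
  rw [nm, star_div₀, star_star]; field_simp

theorem n7 : ∃ a : K, nm a = 1 ∧ a ^ 7 ≠ 1 := by
  by_contra h
  push Not at h
  have h2 := two_le (K := K)
  have h3 := dvd_of (K := K) (k := (qK K - 1) * 7) fun b hb => by
    rw [pow_mul, ← h _ (nm_div hb), star_eq, eq_div_of_mul_eq (a := b ^ (qK K - 1)) hb (by
      rw [← pow_succ, Nat.sub_add_cancel (by omega)])]
  obtain ⟨k, hk⟩ : ∃ k, qK K = k + 1 := ⟨qK K - 1, by omega⟩
  rw [hk, show (k + 1) ^ 2 - 1 = k * (k + 2) by rw [Nat.sub_eq_iff_eq_add (by nlinarith)]; ring,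
    Nat.add_sub_cancel] at h3
  have h4 := (Nat.dvd_prime (by norm_num : Nat.Prime 7)).1 (Nat.dvd_of_mul_dvd_mul_left (by omega) h3)
  obtain ⟨f, h5, h6⟩ := pow2 (K := K)
  have h7 : 2 ^ f = 6 := by omega
  have h8 : (3 : ℕ) ∣ 2 ^ f := by rw [h7]; norm_num
  exact absurd (Nat.prime_three.dvd_of_dvd_pow h8) (by norm_num)

theorem n1 : ∃ a : K, nm a = 1 ∧ a ≠ 1 := n7.imp fun _ h => ⟨h.1, fun e => h.2 (by simp [e])⟩

theorem art (d : K) (hd : star d = d) : ∃ η, η ^ 2 + η = d ∧ (star η = η ∨ star η = η + 1) := by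
  let g : K →+ K := AddMonoidHom.mk' (fun x => x ^ 2 + x) fun x y => by
    rw [CharTwo.add_sq]; ring
  have hk : Nat.card g.ker = 2 := by
    rw [Nat.card_eq_two_iff' (0 : g.ker)]
    refine ⟨⟨1, show (1 : K) ^ 2 + 1 = 0 by rw [one_pow, CharTwo.add_self_eq_zero]⟩,
      fun h => one_ne_zero (congrArg Subtype.val h), fun ⟨x, hx⟩ h0 => Subtype.ext ?_⟩
    have h1 : x * (x + 1) = 0 := by
      have hx' : x ^ 2 + x = 0 := hx
      linear_combination hx'
    linear_combination (mul_eq_zero.1 h1).resolve_left (fun e => h0 (Subtype.ext e)) - two0 K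
  have hi : g.range.index = 2 := by
    have h1 := g.range.card_mul_index
    have h2 := g.ker.card_mul_index
    rw [AddSubgroup.index_ker, hk, ← h1, mul_comm] at h2
    exact (Nat.eq_of_mul_eq_mul_left Nat.card_pos h2).symm
  obtain ⟨y, rfl⟩ := trs d hd
  have h1 : y ∈ g.range ↔ star y ∈ g.range := by
    have k : ∀ y : K, y ∈ g.range → star y ∈ g.range := by
      rintro _ ⟨x, rfl⟩
      exact ⟨star x, by simp [g]⟩
    exact ⟨k y, fun h => star_star y ▸ k _ h⟩
  obtain ⟨η, hη⟩ := (AddSubgroup.add_mem_iff_of_index_two hi).2 h1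
  have h2 : η ^ 2 + η = tr y := hη
  have h3 := congrArg star h2
  rw [star_add, star_pow, star_tr, ← h2] at h3
  have h4 : (star η - η) * (star η - (η + 1)) = 0 := by
    linear_combination h3 + (η ^ 2 + η - star η * η - star η) * two0 K
  exact ⟨η, h2, (mul_eq_zero.1 h4).imp sub_eq_zero.1 sub_eq_zero.1⟩

theorem core (R : Subring K) (h : ∀ a, nm a = 1 → a ∈ R) : R = ⊤ := by
  have inv : ∀ a ∈ R, a⁻¹ ∈ R := fun a ha => by
    by_cases h0 : a = 0
    · simpa [h0] using R.zero_mem
    have h1 : 0 < orderOf a := (isOfFinOrder_of_finite (Units.mk0 a h0)).orderOf_pos.trans_eq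
      (orderOf_units (y := Units.mk0 a h0)).symm
    rw [inv_eq_of_mul_eq_one_right (b := a ^ (orderOf a - 1)) (by
      rw [← pow_succ', Nat.sub_add_cancel h1, pow_orderOf_eq_one])]
    exact pow_mem ha _
  have k1 : ∀ a, tr a = 1 → a ∈ R := fun a ha => by
    have h0 : a ≠ 0 := by rintro rfl; simp at ha
    have h1 : a = (1 + star a / a)⁻¹ := by
      rw [eq_comm, inv_eq_iff_eq_inv, one_add_div h0, show a + star a = 1 from ha, one_div]
    rw [h1]; exact inv _ (add_mem (one_mem _) (h _ (nm_div h0)))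
  obtain ⟨η, hη⟩ := eta (K := K)
  have k2 : ∀ a, star a = a → a ∈ R := fun a ha => by
    have := add_mem (k1 (a + η) (by
      rw [tr, star_add, ha]; linear_combination hη + a * two0 K)) (k1 η hη)
    rwa [add_assoc, CharTwo.add_self_eq_zero, add_zero] at this
  refine eq_top_iff.2 fun a _ => ?_
  obtain ⟨b, h1, h2⟩ := dec a
  rw [h2]
  exact mul_mem (k2 _ (by rw [star_rt, star_nm])) (h b h1)

theorem gal (σ : RingAut K) (h : ∀ a, star a = a → σ a = a) : σ = 1 ∨ σ = sg K := by
  obtain ⟨η, hη⟩ := eta (K := K)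
  have h1 : star η = 1 - η := by linear_combination hη
  have h3 : (σ η - η) * (σ η - star η) = 0 := by
    have := h _ (star_nm η)
    rw [nm, h1, map_mul, map_sub, map_one] at this
    rw [h1]; linear_combination -this
  have h4 : ∀ a, ∃ u v, star u = u ∧ star v = v ∧ a = u + v * η := fun a => ⟨a + tr a * η, tr a, by
    rw [star_add, star_mul', star_tr, tr, h1]
    linear_combination (star a - (a + star a) * η) * two0 K, star_tr a, by
      rw [add_assoc, CharTwo.add_self_eq_zero, add_zero]⟩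
  refine (mul_eq_zero.1 h3).imp (fun h5 => RingEquiv.ext fun a => ?_) fun h5 => RingEquiv.ext fun a => ?_
  · obtain ⟨u, v, hu, hv, rfl⟩ := h4 a
    rw [map_add, map_mul, h u hu, h v hv, sub_eq_zero.1 h5]; rfl
  · obtain ⟨u, v, hu, hv, rfl⟩ := h4 a
    rw [map_add, map_mul, h u hu, h v hv, sub_eq_zero.1 h5]
    change _ = star _
    rw [star_add, star_mul', hu, hv]

end Q

theorem jobFQ : JobFQ := fun _ K _ _ _ _ _ =>
  { card := Q.card, pow2 := Q.pow2, star_eq := Q.star_eq
    aut_star := fun σ a => (H81.SU.aut_star σ a), gal := Q.gal, star_rt := Q.star_rt, eta := Q.eta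
    trs := Q.trs
    trn := fun a h => by
      by_contra h0
      obtain ⟨η, hη⟩ := Q.eta (K := K)
      have := h (η / a)
      rw [div_mul_cancel₀ _ h0, hη] at this
      exact one_ne_zero this
    dec := Q.dec, h90 := Q.h90, n1 := Q.n1, n7 := Q.n7
    odd := fun a ha => by
      have h1 := orderOf_dvd_natCard (Units.mk0 a ha)
      rw [Nat.card_units, ← orderOf_units] at h1
      exact SA.odd_card_sub_one.of_dvd_nat h1
    core := Q.core, art := Q.art }

end H67.UA
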