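/- The Steinberg character is the only character of defect zero. -/
import Cfsg.Agent.H67.SBN
import Cfsg.Agent.H67.StChar

set_option autoImplicit false
set_option linter.unusedSectionVars false

namespace H67

open Cfsg H28 Module

section Rep
variable {G V : Type*} [Group G] [Finite G] [AddCommGroup V] [Module ℂ V]
  (ρ : Representation ℂ G V)

/-- the fixed space of a subgroup -/
noncomputable def fixS (K : Subgroup G) : Submodule ℂ V := Representation.invariants (ρ.comp K.subtype)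

variable {ρ} in
theorem mem_fixS {K : Subgroup G} {v : V} : v ∈ fixS ρ K ↔ ∀ k ∈ K, ρ k v = v :=
  ⟨fun h k hk => h ⟨k, hk⟩, fun h k => h k k.2⟩

theorem rho_mul (a b : G) (v : V) : ρ (a * b) v = ρ a (ρ b v) := by rw [map_mul]; rfl

theorem sum_char_eq [FiniteDimensional ℂ V] (K : Subgroup G) [Fintype K] :
    ∑ k : K, ρ.character k = Nat.card K * finrank ℂ (fixS ρ K) := by
  have h0 : (Nat.card K : ℂ) ≠ 0 := Nat.cast_ne_zero.2 Nat.card_pos.ne'
  letI := invertibleOfNonzero h0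
  have := Representation.card_inv_mul_sum_char_eq_finrank (ρ.comp K.subtype)
  rw [fixS, ← this, ← mul_assoc, mul_inv_cancel₀ h0, one_mul]
  rfl

/-- the sum over a subgroup -/
noncomputable def sumS (K : Subgroup G) : V →ₗ[ℂ] V :=
  haveI := Fintype.ofFinite K
  ∑ k : K, ρ k

theorem sumS_apply (K : Subgroup G) [Fintype K] (v : V) : sumS ρ K v = ∑ k : K, ρ k v := by
  rw [sumS, LinearMap.sum_apply]
  congr!

theorem sumS_conj {K : Subgroup G} {g : G} (hg : ∀ k ∈ K, g⁻¹ * k * g ∈ K) (v : V) :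
    sumS ρ K (ρ g v) = ρ g (sumS ρ K v) := by
  letI := Fintype.ofFinite K
  rw [sumS_apply, sumS_apply, map_sum]
  refine Fintype.sum_bijective (fun k : K => (⟨g⁻¹ * k * g, hg k k.2⟩ : K))
    (Finite.injective_iff_bijective.1 fun a b h => ?_) _ _ fun k => ?_
  · simpa using congrArg Subtype.val h
  · simp only [← rho_mul]; congr 2; group

theorem sumS_mem (K : Subgroup G) (v : V) : sumS ρ K v ∈ fixS ρ K := by
  letI := Fintype.ofFinite K
  rw [mem_fixS]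
  intro k hk
  rw [sumS_apply, map_sum]
  exact Fintype.sum_equiv (Equiv.mulLeft ⟨k, hk⟩) _ _ fun x => by simp

theorem sumS_of_mem {K : Subgroup G} {v : V} (hv : v ∈ fixS ρ K) :
    sumS ρ K v = (Nat.card K : ℂ) • v := by
  letI := Fintype.ofFinite K
  rw [sumS_apply, Finset.sum_congr rfl fun (k : K) _ => mem_fixS.1 hv k k.2]
  simp [Nat.cast_smul_eq_nsmul]

theorem span_eq_top (hρ : ρ.IsIrreducible) {E : Submodule ℂ V} (hE : E ≠ ⊥) :
    Submodule.span ℂ {w | ∃ g, ∃ v ∈ E, w = ρ g v} = ⊤ := by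
  let S : Subrepresentation ρ :=
    { toSubmodule := Submodule.span ℂ {w | ∃ g, ∃ v ∈ E, w = ρ g v}
      apply_mem_toSubmodule := fun g v hv => by
        have : Submodule.span ℂ {w | ∃ g, ∃ v ∈ E, w = ρ g v} ≤
            (Submodule.span ℂ {w | ∃ g, ∃ v ∈ E, w = ρ g v}).comap (ρ g) := by
          rw [Submodule.span_le]
          rintro _ ⟨h, v, hv, rfl⟩
          exact Submodule.subset_span ⟨g * h, v, hv, (rho_mul ρ g h v).symm⟩
        exact this hv }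
  rcases hρ.eq_bot_or_eq_top S with h | h
  · refine (hE (eq_bot_iff.2 fun v hv => ?_)).elim
    have : v ∈ S.toSubmodule := Submodule.subset_span ⟨1, v, hv, by simp⟩
    rw [h] at this
    exact this
  · exact congrArg Subrepresentation.toSubmodule h

end Rep

namespace SBN

variable {p : ℕ} [hp : Fact p.Prime] {G : Type*} [Group G] [Finite G] (D : SBN p G)

theorem exists_PJ_asc (s : D.P.S) (g : G) : ∃ y ∈ D.PJ {s}, ∃ d ∈ D.N, ∃ b ∈ D.B,
    len (sim D.P) (wOf D.P d) < len (sim D.P) (sim D.P s * wOf D.P d) ∧ g = y * d * b := by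
  have E := bn_exch D.P
  obtain ⟨b, hb, n, hn, b', hb', e, -⟩ := exists_bruhat D.P g
  rcases E.len_s_mul_ne s (wOf D.P n) with h | h
  · exact ⟨b, D.B_le_PJ _ hb, n, hn, b', hb', by omega, e⟩
  · have hs := D.S_mem s
    refine ⟨b * s, mul_mem (D.B_le_PJ _ hb) (S_mem_cellSubgroup rfl), (s : G)⁻¹ * n,
      mul_mem (inv_mem hs) hn, b', hb', ?_, by rw [e]; group⟩
    rw [wOf_mul_N (inv_mem hs) hn, wOf_inv, wOf_S, sim_inv, E.s_mul_s_mul]
    omega

theorem card_U_eq_X_mul_R (s : D.P.S) : Nat.card D.U = Nat.card (D.X s) * Nat.card (D.R {s}) := by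
  rw [← Nat.card_prod]
  refine (Nat.card_eq_of_bijective (fun a : D.X s × D.R {s} =>
    (⟨a.1 * a.2, mul_mem (D.X_le_U s a.1.2) (D.R_le_U _ a.2.2)⟩ : D.U)) ⟨?_, ?_⟩).symm
  · rintro ⟨⟨x, hx⟩, r, hr⟩ ⟨⟨x', hx'⟩, r', hr'⟩ h
    have h1 : x * r = x' * r' := congrArg Subtype.val h
    have h2 : x'⁻¹ * x = r' * r⁻¹ := by
      rw [inv_mul_eq_iff_eq_mul, ← mul_assoc, ← h1]; simp
    have h3 := D.eq_one_of_mem_X_of_mem_R (mul_mem (inv_mem hx') hx)
      (h2 ▸ mul_mem hr' (inv_mem hr))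
    rw [inv_mul_eq_one] at h3
    subst h3
    obtain rfl := mul_left_cancel h1
    rfl
  · rintro ⟨u, hu⟩
    obtain ⟨x, hx, r, hr, rfl⟩ := D.exists_X_mul_R s hu
    exact ⟨(⟨x, hx⟩, ⟨r, hr⟩), rfl⟩

theorem exists_perm_X (s : D.P.S) : ∃ φ : D.X s ≃ D.X s, φ 1 = 1 ∧
    ∀ x : D.X s, x ≠ 1 → ((φ x : G) * s)⁻¹ * (s * x * s) ∈ D.B := by
  classical
  have hs : (s : G) ∈ D.PJ {s} := S_mem_cellSubgroup rfl
  have hss : (s : G) * s ∈ D.B := D.P.sq_mem _ s.2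
  have key : ∀ x : D.X s, ∃ y : D.X s, (x = 1 → y = 1) ∧
      (x ≠ 1 → ((y : G) * s)⁻¹ * (s * x * s) ∈ D.B) := by
    intro x
    by_cases hx : x = 1
    · exact ⟨1, fun _ => rfl, fun h => (h hx).elim⟩
    · rcases D.exists_of_mem_PJ_singleton (mul_mem (mul_mem hs
        (D.B_le_PJ _ (D.U_le (D.X_le_U s x.2)))) hs) with h | ⟨y, hy, b, hb, e⟩
      · refine (hx (Subtype.ext (D.eq_one_of_mem_X_of_conj x.2 ?_))).elim
        simpa [mul_assoc] using mul_mem (inv_mem hss) h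
      · exact ⟨⟨y, hy⟩, fun h => (hx h).elim, fun _ => by rw [e]; simpa [mul_assoc] using hb⟩
  choose φ h1 h2 using key
  have hsB : (s : G) ∉ D.B := fun h => by
    obtain ⟨x, hx, hx1⟩ := D.exists_mem_X_ne_one s
    exact hx1 (D.eq_one_of_mem_X_of_conj hx
      (mul_mem (mul_mem (inv_mem h) (D.U_le (D.X_le_U s hx))) h))
  have h3 : ∀ x, x ≠ 1 → φ x ≠ 1 := fun x hx e => hsB (by
    have := mul_mem (inv_mem (D.U_le (D.X_le_U s x.2))) (h2 x hx)
    simpa [e, mul_assoc] using this)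
  refine ⟨Equiv.ofBijective φ (Finite.injective_iff_bijective.1 fun x y e => ?_), h1 1 rfl, h2⟩
  by_cases hx : x = 1
  · by_contra hy
    exact h3 y (fun h => hy (hx.trans h.symm)) (e ▸ h1 x hx)
  by_cases hy : y = 1
  · exact (h3 x hx (e ▸ h1 y hy)).elim
  have := mul_mem (inv_mem (h2 x hx)) (h2 y hy)
  rw [e] at this
  have h4 := D.eq_one_of_mem_X_of_conj (x⁻¹ * y).2 (by simpa [mul_assoc] using this)
  exact inv_mul_eq_one.1 (Subtype.ext h4)

section Mod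
variable {V : Type*} [AddCommGroup V] [Module ℂ V] {ρ : Representation ℂ G V}

theorem B_mem_fixS {b : G} (hb : b ∈ D.B) {v : V} (hv : v ∈ fixS ρ D.U) :
    ρ b v ∈ fixS ρ D.U := mem_fixS.2 fun u hu => by
  rw [← rho_mul, show u * b = b * (b⁻¹ * u * b) by group, rho_mul,
    mem_fixS.1 hv _ (D.U_norm' hb hu)]

theorem mem_fixS_U {s : D.P.S} {v : V} (h1 : v ∈ fixS ρ (D.X s)) (h2 : v ∈ fixS ρ (D.R {s})) :
    v ∈ fixS ρ D.U := mem_fixS.2 fun u hu => by
  obtain ⟨x, hx, r, hr, rfl⟩ := D.exists_X_mul_R s hu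
  rw [rho_mul, mem_fixS.1 h2 r hr, mem_fixS.1 h1 x hx]

theorem PJ_mem_fixS {J : Set D.P.S} {y : G} (hy : y ∈ D.PJ J) {v : V}
    (hv : v ∈ fixS ρ (D.R J)) : ρ y v ∈ fixS ρ (D.R J) := mem_fixS.2 fun u hu => by
  rw [← rho_mul, show u * y = y * (y⁻¹ * u * y) by group, rho_mul,
    mem_fixS.1 hv _ (D.R_conj hy hu)]

theorem fixS_U_le (J : Set D.P.S) : fixS ρ D.U ≤ fixS ρ (D.R J) := fun _ hv =>
  mem_fixS.2 fun u hu => mem_fixS.1 hv u (D.R_le_U J hu)

theorem sumS_X_mem {s : D.P.S} {v : V} (hv : v ∈ fixS ρ D.U) :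
    sumS ρ (D.X s) (ρ s v) ∈ fixS ρ D.U := by
  letI := Fintype.ofFinite (D.X s)
  refine D.mem_fixS_U (sumS_mem ρ _ _) ?_
  rw [sumS_apply]
  have h1 : ρ s v ∈ fixS ρ (D.R {s}) :=
    D.PJ_mem_fixS (J := {s}) (S_mem_cellSubgroup rfl) (D.fixS_U_le _ hv)
  exact Submodule.sum_mem _ fun x _ => D.PJ_mem_fixS (D.B_le_PJ _ (D.U_le (D.X_le_U s x.2))) h1

theorem sumS_R_mem (s : D.P.S) (g : G) {v : V} (hv : v ∈ fixS ρ D.U) :
    ∃ y ∈ D.PJ {s}, ∃ w ∈ fixS ρ D.U, sumS ρ (D.R {s}) (ρ g v) = ρ y w := by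
  obtain ⟨y, hy, d, hd, b, hb, hl, rfl⟩ := D.exists_PJ_asc s g
  refine ⟨y, hy, sumS ρ (D.R {s}) (ρ d (ρ b v)), D.mem_fixS_U (mem_fixS.2 fun x hx => ?_)
    (sumS_mem ρ _ _), ?_⟩
  · rw [← sumS_conj ρ fun k hk => D.R_conj (D.B_le_PJ _ (D.U_le (D.X_le_U s hx))) hk, ← rho_mul,
      show x * d = d * (d⁻¹ * x * d) by group, rho_mul,
      mem_fixS.1 (D.B_mem_fixS hb hv) _ (D.X_conj_of_asc hd hl hx)]
  · rw [rho_mul, rho_mul, sumS_conj ρ fun k hk => D.R_conj hy hk]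

variable [FiniteDimensional ℂ V]

theorem card_mul_finrank (h0 : ∀ u ∈ D.U, u ≠ 1 → ρ.character u = 0) {K : Subgroup G}
    (hK : K ≤ D.U) : Nat.card K * finrank ℂ (fixS ρ K) = finrank ℂ V := by
  classical
  letI := Fintype.ofFinite K
  have := sum_char_eq ρ K
  rw [Finset.sum_eq_single 1 (fun k _ hk => h0 _ (hK k.2) fun e => hk (Subtype.ext e))
    (by simp)] at this
  simp only [OneMemClass.coe_one, Representation.char_one] at this
  exact_mod_cast this.symm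

theorem const_of_rel (hρ : ρ.IsIrreducible) (h0 : ∀ u ∈ D.U, u ≠ 1 → ρ.character u = 0)
    (s : D.P.S) [Fintype (D.X s)] (v : fixS ρ D.U) (f : D.X s → fixS ρ D.U)
    (h : (v : V) + ∑ x : D.X s, ρ x (ρ s (f x)) = 0) (x y : D.X s) : f x = f y := by
  classical
  by_cases hE : fixS ρ D.U = ⊥
  · exact Subtype.ext (((Submodule.eq_bot_iff _).1 hE _ (f x).2).trans
      ((Submodule.eq_bot_iff _).1 hE _ (f y).2).symm)
  let Φ : (fixS ρ D.U × (D.X s → fixS ρ D.U)) →ₗ[ℂ] V := (fixS ρ D.U).subtype.coprod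
    (∑ x : D.X s, (ρ x ∘ₗ ρ s ∘ₗ (fixS ρ D.U).subtype) ∘ₗ LinearMap.proj x)
  have hΦ : ∀ v f, Φ (v, f) = (v : V) + ∑ x : D.X s, ρ x (ρ s (f x)) := fun v f => by
    simp [Φ, LinearMap.sum_apply]
  have h1 : ∀ y ∈ D.PJ {s}, ∀ w ∈ fixS ρ D.U, ρ y w ∈ LinearMap.range Φ := by
    intro y hy w hw
    rcases D.exists_of_mem_PJ_singleton hy with h | ⟨x, hx, b, hb, rfl⟩
    · exact ⟨(⟨_, D.B_mem_fixS h hw⟩, 0), by simp [hΦ]⟩
    · refine ⟨(0, Pi.single ⟨x, hx⟩ ⟨_, D.B_mem_fixS hb hw⟩), ?_⟩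
      rw [hΦ, Finset.sum_eq_single ⟨x, hx⟩ (fun z _ hz => by simp [Pi.single_eq_of_ne hz])
        (by simp)]
      simp
  have h2 : fixS ρ (D.R {s}) ≤ LinearMap.range Φ := by
    intro w hw
    have h3 : ⊤ ≤ (LinearMap.range Φ).comap (sumS ρ (D.R {s})) := by
      rw [← span_eq_top ρ hρ hE, Submodule.span_le]
      rintro _ ⟨g, v, hv, rfl⟩
      obtain ⟨y, hy, w, hw, e⟩ := D.sumS_R_mem s g hv
      exact (Submodule.mem_comap).2 (e ▸ h1 y hy w hw)
    have h4 := (Submodule.mem_comap).1 (h3 (x := w) trivial)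
    rw [sumS_of_mem ρ hw] at h4
    exact (Submodule.smul_mem_iff _ (Nat.cast_ne_zero.2 Nat.card_pos.ne')).1 h4
  let κ : fixS ρ D.U →ₗ[ℂ] (fixS ρ D.U × (D.X s → fixS ρ D.U)) :=
    LinearMap.prod (-(LinearMap.codRestrict _ (sumS ρ (D.X s) ∘ₗ ρ s ∘ₗ (fixS ρ D.U).subtype)
      fun c => D.sumS_X_mem c.2)) (LinearMap.pi fun _ => LinearMap.id)
  have hκ : Function.Injective κ := fun a b e => congrFun (congrArg Prod.snd e) 1
  have h5 : LinearMap.range κ ≤ LinearMap.ker Φ := by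
    rintro _ ⟨c, rfl⟩
    rw [LinearMap.mem_ker]
    refine (hΦ _ _).trans ?_
    simp [κ, sumS_apply]
  have h6 : finrank ℂ (fixS ρ (D.R {s})) = Nat.card (D.X s) * finrank ℂ (fixS ρ D.U) := by
    have a1 := D.card_mul_finrank h0 le_rfl
    have a2 := D.card_mul_finrank h0 (D.R_le_U {s})
    rw [D.card_U_eq_X_mul_R s, ← a2, mul_comm (Nat.card (D.X s)), mul_assoc] at a1
    exact (Nat.eq_of_mul_eq_mul_left Nat.card_pos a1).symm
  have h7 : LinearMap.range κ = LinearMap.ker Φ := by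
    refine Submodule.eq_of_le_of_finrank_le h5 ?_
    have a1 := LinearMap.finrank_range_add_finrank_ker Φ
    have a2 := Submodule.finrank_mono h2
    rw [finrank_prod, finrank_pi_fintype, Finset.sum_const, Finset.card_univ, smul_eq_mul,
      Fintype.card_eq_nat_card] at a1
    rw [LinearMap.finrank_range_of_inj hκ]
    omega
  have h8 : (v, f) ∈ LinearMap.range κ := by rw [h7, LinearMap.mem_ker, hΦ, h]
  obtain ⟨c, hc⟩ := h8
  have := congrArg Prod.snd hc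
  exact (congrFun this x).symm.trans (congrFun this y)

theorem apply_eq_neg_sumS (hρ : ρ.IsIrreducible) (h0 : ∀ u ∈ D.U, u ≠ 1 → ρ.character u = 0)
    (s : D.P.S) : ∃ φ : D.X s → G, ∀ x : D.X s, x ≠ 1 → φ x ∈ D.X s ∧
      (φ x * s)⁻¹ * (s * x * s) ∈ D.B ∧ ∀ c ∈ fixS ρ D.U,
        ρ ((φ x * s)⁻¹ * (s * x * s)) c = - sumS ρ (D.X s) (ρ s c) := by
  classical
  letI := Fintype.ofFinite (D.X s)
  obtain ⟨φ, h1, h2⟩ := D.exists_perm_X s
  refine ⟨fun x => φ x, fun x hx => ⟨(φ x).2, h2 x hx, fun c hc => ?_⟩⟩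
  let g : D.X s → fixS ρ D.U := fun y => if hy : y = 1 then -⟨_, D.sumS_X_mem (s := s) hc⟩
    else ⟨_, D.B_mem_fixS (h2 y hy) hc⟩
  have key := D.const_of_rel hρ h0 s ⟨_, D.B_mem_fixS (D.P.sq_mem _ s.2) hc⟩ (g ∘ φ.symm) (by
    rw [← Equiv.sum_comp φ]
    have a1 : ∀ y : D.X s, ρ (φ y) (ρ s ((g ∘ φ.symm) (φ y))) = ρ s (ρ y (ρ s c)) +
        if y = 1 then - ρ s (sumS ρ (D.X s) (ρ s c)) - ρ ((s : G) * s) c else 0 := by
      intro y
      by_cases hy : y = 1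
      · subst hy
        simp only [g, Function.comp, Equiv.symm_apply_apply]
        simp [h1]
      · simp only [g, Function.comp, Equiv.symm_apply_apply, dif_neg hy, if_neg hy, add_zero,
          ← rho_mul]
        congr 2; group
    simp only [a1, Finset.sum_add_distrib, ← map_sum, ← sumS_apply]
    simp only [Finset.sum_ite_eq', Finset.mem_univ, if_true]
    abel) (φ x) (φ 1)
  simpa [g, hx] using congrArg Subtype.val key

end Mod

/-- the elements of `N` in `U (s X s⁻¹ \ 1) U` -/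
def M (s : D.P.S) : Set G :=
  {n | n ∈ D.N ∧ ∃ a ∈ D.U, ∃ a' ∈ D.U, ∃ x ∈ D.X s, x ≠ 1 ∧ n = a * (s * x * (s : G)⁻¹) * a'}

theorem eq_stBN_of_defect_zero [Fintype D.P.S]
    (hH : D.H ≤ Subgroup.closure {h | ∃ s, ∃ n ∈ D.M s, ∃ n' ∈ D.M s, h = n⁻¹ * n'})
    {χ : G → ℂ} (hχ : IsIrrCharacter G χ)
    (hd : p ^ (Nat.card G).factorization p ∣ charDegree χ) : χ = stBN D.P := by
  classical
  letI := Fintype.ofFinite G
  have hv : ∀ u ∈ D.U, u ≠ 1 → χ u = 0 := fun u hu h1 => by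
    refine H29.eq_zero_of_pow_factorization_dvd hp.out hχ hd ?_
    obtain ⟨k, hk⟩ := exists_pow_eq_one_of_mem D.isP hu
    obtain ⟨j, -, hj⟩ := (Nat.dvd_prime_pow hp.out).1 (orderOf_dvd_of_pow_eq_one hk)
    rcases j with _ | j
    · exact (h1 (orderOf_eq_one_iff.1 hj)).elim
    · rw [hj]; exact dvd_pow_self p j.succ_ne_zero
  refine hχ.eq_of_classInner_ne_zero (isIrrCharacter_stBN D.P) ?_
  have hcl := hχ.isCharacter.isClassFunction
  have hpos := hχ.charDegree_pos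
  obtain ⟨n, ρ, hρ, rfl⟩ := hχ
  have hM : ∀ s, ∀ m ∈ D.M s, (s : G)⁻¹ * m ∈ D.B ∧ ∀ c ∈ fixS ρ D.U,
      ρ ((s : G)⁻¹ * m) c = - sumS ρ (D.X s) (ρ s (ρ ((s : G) * s)⁻¹ c)) := by
    rintro s m ⟨hm, a, ha, a', ha', x, hx, hx1, rfl⟩
    obtain ⟨φ, hφ⟩ := D.apply_eq_neg_sumS hρ hv s
    obtain ⟨h1, h2, h3⟩ := hφ ⟨x, hx⟩ fun e => hx1 (congrArg Subtype.val e)
    set y := φ ⟨x, hx⟩
    have hss := D.B.inv_mem (D.P.sq_mem _ s.2)
    have e : a * (s * x * (s : G)⁻¹) * a' =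
        a * y * s * ((y * s)⁻¹ * (s * x * s) * ((s : G) * s)⁻¹ * a') := by group
    have hay := mul_mem ha (D.X_le_U s h1)
    have hb := mul_mem (mul_mem h2 hss) (D.U_le ha')
    have h4 : (s : G)⁻¹ * (a * (s * x * (s : G)⁻¹) * a') ∈ D.B := by
      refine inv_mul_mem_B_of_wOf_eq (D.S_mem s) hm ?_
      rw [e, wOf_mul_right _ hb, wOf_mul_left (D.U_le hay)]
    have h5 : (s : G)⁻¹ * (a * y) * s ∈ D.U := D.conj_mem_U hay (by
      have := mul_mem h4 (inv_mem hb)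
      rw [e] at this
      simpa [mul_assoc] using this)
    refine ⟨h4, fun c hc => ?_⟩
    rw [← h3 _ (D.B_mem_fixS hss hc), e, show ∀ t, (s : G)⁻¹ * (a * y * s * t) =
      (s : G)⁻¹ * (a * y) * s * t from fun t => by group, rho_mul,
      mem_fixS.1 (D.B_mem_fixS hb hc) _ h5, rho_mul, mem_fixS.1 hc _ ha', rho_mul]
  have hB : ∀ b ∈ D.B, ∀ c ∈ fixS ρ D.U, ρ b c = c := by
    let A : Subgroup G :=
      { carrier := {b | ∀ c ∈ fixS ρ D.U, ρ b c = c}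
        one_mem' := fun c _ => by simp
        mul_mem' := fun {a b} ha hb c hc => by rw [rho_mul, hb c hc, ha c hc]
        inv_mem' := fun {a} ha c hc => by
          conv_lhs => rw [← ha c hc, ← rho_mul, inv_mul_cancel, map_one]
          rfl }
    have hA : D.H ≤ A := hH.trans ((Subgroup.closure_le _).2 (by
      rintro _ ⟨s, m, hm, m', hm', rfl⟩ c hc
      rw [show m⁻¹ * m' = ((s : G)⁻¹ * m)⁻¹ * ((s : G)⁻¹ * m') by group, rho_mul,
        (hM s m' hm').2 c hc, ← (hM s m hm).2 c hc, ← rho_mul, inv_mul_cancel, map_one]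
      rfl))
    intro b hb c hc
    obtain ⟨u, hu, h, hh, rfl⟩ := D.split b hb
    rw [rho_mul, hA hh c hc, mem_fixS.1 hc u hu]
  have hP : ∀ K : Finset D.P.S, K ≠ ∅ → fixS ρ (D.PJ K) = ⊥ := fun K hK => by
    obtain ⟨s, hs⟩ := Finset.nonempty_iff_ne_empty.2 hK
    refine eq_bot_iff.2 fun v hv' => ?_
    have hU : v ∈ fixS ρ D.U := mem_fixS.2 fun u hu => mem_fixS.1 hv' u (D.B_le_PJ _ (D.U_le hu))
    obtain ⟨φ, hφ⟩ := D.apply_eq_neg_sumS hρ hv s
    obtain ⟨x, hx, hx1⟩ := D.exists_mem_X_ne_one s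
    obtain ⟨-, h2, h3⟩ := hφ ⟨x, hx⟩ fun e => hx1 (congrArg Subtype.val e)
    have h4 := h3 v hU
    rw [hB _ h2 v hU, mem_fixS.1 hv' _ (S_mem_cellSubgroup hs), sumS_of_mem ρ
      (mem_fixS.2 fun u hu => mem_fixS.1 hU u (D.X_le_U s hu)), eq_neg_iff_add_eq_zero] at h4
    have h5 : ((Nat.card (D.X s) + 1 : ℕ) : ℂ) • v = 0 := by
      rw [Nat.cast_add, add_smul, Nat.cast_one, one_smul, add_comm, h4]
    exact (smul_eq_zero.1 h5).resolve_left (Nat.cast_ne_zero.2 (Nat.succ_ne_zero _))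
  have hE : fixS ρ D.B = fixS ρ D.U := le_antisymm
    (fun v hv => mem_fixS.2 fun u hu => mem_fixS.1 hv u (D.U_le hu))
    (fun v hv => mem_fixS.2 fun b hb => hB b hb v hv)
  have hsum := sum_stRel_mul (P := D.P) Finset.univ ρ.character fun q _ x _ => ρ.char_conj x q
  have hK : ∀ K : Subgroup G, ∑ x with x ∈ K, ρ.character x =
      Nat.card K * finrank ℂ (fixS ρ K) := fun K => by
    rw [← sum_char_eq, Finset.sum_subtype _ (p := fun x => x ∈ K) (by simp)]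
  rw [Finset.sum_eq_single_of_mem (∅ : Finset D.P.S) (by simp) (fun K _ hK' => by
    rw [hK, hP K hK']; simp), hK, Finset.coe_empty, cellSubgroup_empty, Finset.coe_univ,
    cellSubgroup_univ, hE] at hsum
  have h1 := D.card_mul_finrank hv le_rfl
  have h2 : finrank ℂ (fixS ρ D.U) ≠ 0 := fun e => by
    rw [e, mul_zero] at h1
    simp [charDegree, ← h1] at hpos
  rw [classInner]
  simp only [stBN_eq, map_intCast]
  refine mul_ne_zero (inv_ne_zero (Nat.cast_ne_zero.2 Nat.card_pos.ne')) ?_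
  simp only [Subgroup.mem_top, Finset.filter_true] at hsum
  rw [Finset.sum_congr rfl fun x _ => mul_comm _ _, hsum]
  have h3 : D.P.B.index ≠ 0 := Subgroup.FiniteIndex.index_ne_zero
  have h4 : Nat.card D.P.B ≠ 0 := Nat.card_pos.ne'
  simp [h2, h3, h4]

end SBN

end H67
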