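import Cfsg.Agent.H67.SAEF

/-! STD-A: `JobNF`. -/

set_option autoImplicit false
set_option linter.unusedSectionVars false

namespace H67.SA

open H64.SG (O2 Syl Cz Cs Ns cjs Is2 Inv2 UF IsO2 fx mem_Cs mem_Cz mem_fx is2_of_sq
  isPGroup_iff_is2)
open H57 H98 Subgroup

universe u

section Gen

variable {G : Type*} [Group G]

/-- The elements that centralise `Z` and `Q / Z`. -/
def N2 (Q Z : Subgroup G) : Subgroup G where
  carrier := {k | k ∈ Cs Z ∧ ∀ u ∈ Q, cm k u ∈ Z}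
  one_mem' := ⟨one_mem _, fun u _ => by simp [cm]⟩
  mul_mem' := fun {a b} ha hb => ⟨mul_mem ha.1 hb.1, fun u hu => by
    rw [show cm (a * b) u = a * cm b u * a⁻¹ * cm a u by simp only [cm]; group,
      ← ha.1 _ (hb.2 u hu), mul_inv_cancel_right]
    exact mul_mem (hb.2 u hu) (ha.2 u hu)⟩
  inv_mem' := fun {a} ha => ⟨inv_mem ha.1, fun u hu => by
    have h1 := inv_mem (ha.2 u hu)
    rwa [show cm a⁻¹ u = a⁻¹ * ((cm a u)⁻¹ * a) by simp only [cm]; group, ha.1 _ h1,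
      inv_mul_cancel_left]⟩

theorem sq_of_N2 {Q Z : Subgroup G} (h : ∀ z ∈ Z, z * z = 1) {k : G} (hk : k ∈ N2 Q Z) :
    k * k ∈ Cs Q := fun u hu => by
  have h1 := h _ (hk.2 u hu)
  have h2 := hk.1 _ (hk.2 u hu)
  refine (cm_eq_one.1 ?_).symm
  rw [show cm (k * k) u = k * cm k u * u * k⁻¹ * u⁻¹ by simp only [cm]; group, ← h2, ← h1]
  simp only [cm, mul_assoc]

theorem Ns_le_N2 [Finite G] {Q Z : Subgroup G} {g : G} (h1 : g ∈ Ns Q) (h2 : g ∈ Ns Z) :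
    g ∈ Ns (N2 Q Z) := mem_normalizer_of_cj_le (by
  rintro _ ⟨k, hk, rfl⟩
  refine ⟨conj_mem_of_mem_normalizer (normalizer_le_normalizer_centralizer _ h2) hk.1, fun u hu => ?_⟩
  have := conj_mem_of_mem_normalizer h2 (hk.2 _ (conj_mem_of_mem_normalizer (inv_mem h1) hu))
  simpa [cm, mul_assoc] using this)

/-- `K11` for `N2`. -/
theorem N2_le {G : Type u} [Group G] [Finite G] {M Q Z : Subgroup G} {t : G} (h : UF M t)
    (h0 : ∀ z ∈ Z, z * z = 1) (h1 : t ∈ Ns Q) (h2 : t ∈ Ns Z) (h3 : Cs Q ≤ M) : N2 Q Z ≤ M := by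
  have h4 := Ns_le_N2 h1 h2
  refine le_sup_left.trans (jobK11 h (IsConj.refl t) h.mem (N2 Q Z ⊔ zpowers t)
    (mem_sup_right (mem_zpowers t)) fun a ha ho => h3 ?_)
  have h5 : a * a ∈ N2 Q Z := by
    rcases (mem_sup_zp h4 h.inv.1).1 ha with h5 | h5
    · exact mul_mem h5 h5
    · have := mul_mem h5 (conj_mem_of_mem_normalizer (inv_mem h4) h5)
      rwa [show a * t * (t⁻¹ * (a * t) * t⁻¹⁻¹) = a * a * (t * t) by group, h.inv.1, mul_one] at this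
  exact H64.SG.mem_of_sq_mem (sq_of_N2 h0 (H64.SG.mem_of_sq_mem h5 ho)) ho

theorem mem_of_sq_odd {L : Subgroup G} (h : Odd (Nat.card (Cs L))) {g k : G} (hg : g ∈ L)
    (hk : k ∈ Cs L) (h2 : g * k * (g * k) = 1) : g * k ∈ L :=
  mul_mem hg (H64.SG.mem_of_sq_mem (by
    rw [mul_assoc, ← mul_assoc k, ← hk g hg, mul_assoc, ← mul_assoc] at h2
    exact eq_inv_of_mul_eq_one_right h2 ▸ inv_mem (mul_mem hg hg)) (H64.SG.odd_orderOf_of_mem h hk))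

end Gen

variable {n : ℕ} {F : Type} [Field F] [Finite F] [CharP F 2] {G : Type u} [Group G] [Finite G]
  {e e' : SLn n F →* G} {g t : G}

/-- The automorphism of a `2`-subgroup induced by an element of `G`. -/
theorem exists_aut (hk : e.ker ≤ center (SLn n F)) {P : Subgroup (SLn n F)} (hP : IsPGroup 2 P)
    (hg : g ∈ Ns (P.map e)) : ∃ θ : MulAut P, ∀ u : P, e (θ u) = g * e u * g⁻¹ := by
  let ε : P ≃* P.map e := MulEquiv.ofBijective (e.subgroupMap P) ⟨fun a b h => Subtype.ext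
    (inj2 hk (isPGroup_iff_is2.1 hP a a.2) (isPGroup_iff_is2.1 hP b b.2) (congrArg Subtype.val h)),
    e.subgroupMap_surjective P⟩
  exact ⟨(ε.trans ((P.map e).normalizerMonoidHom ⟨g, hg⟩)).trans ε.symm, fun u =>
    congrArg Subtype.val (ε.apply_symm_apply ((P.map e).normalizerMonoidHom ⟨g, hg⟩ (ε u)))⟩

/-- Automorphisms of `U` normalise `Z` and `Q`. -/
theorem FC.aut_U (hn : 2 ≤ n) (A : FA n F) (C : FC n F) (θ : MulAut (UU n F)) :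
    (∀ u : UU n F, u.1 ∈ ZZ n F → (θ u).1 ∈ ZZ n F) ∧
      ∀ u : UU n F, u.1 ∈ QQ n F → (θ u).1 ∈ QQ n F := by
  have hz : ∀ u : UU n F, u.1 ∈ ZZ n F → (θ u).1 ∈ ZZ n F := fun u hu =>
    A.zq (is2_of_UU (θ u).2) fun v hv => by
      obtain ⟨w, hw⟩ := θ.surjective ⟨v, QQ_le_UU hv⟩
      have : w * u = u * w := Subtype.ext (UU_le_Cs w.2 _ hu).symm
      have := congrArg (fun a => (θ a).1) this
      simpa [hw] using this
  have key : ∀ E ≤ UU n F, UU n F ≤ Ns E → E ≤ Cs E → ∀ a y : UU n F, a.1 ∈ E →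
      (∀ u ∈ UU n F, cm y.1 u ∈ ZZ n F) → a * y ≠ y * a →
      ∀ u : UU n F, u.1 ∈ E → (θ u).1 ∈ QQ n F := fun E e1 e2 e3 a y a1 y1 h u hu => by
    refine C.qc (((E.subgroupOf _).map θ.toMonoidHom).map (UU n F).subtype) (map_subtype_le _)
      (fun v hv => mem_normalizer_of_cj_le ?_) ?_ (θ a) ⟨_, ⟨a, a1, rfl⟩, rfl⟩ (θ y) (θ y).2
      (fun v hv => ?_) (fun h1 => h (θ.injective (Subtype.ext (by simpa using h1))))
      ⟨_, ⟨u, hu, rfl⟩, rfl⟩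
    · rintro _ ⟨_, ⟨_, ⟨b, hb, rfl⟩, rfl⟩, rfl⟩
      obtain ⟨w, hw⟩ := θ.surjective ⟨v, hv⟩
      exact ⟨_, ⟨w * b * w⁻¹, mem_subgroupOf.2 (conj_mem_of_mem_normalizer (e2 w.2)
        (mem_subgroupOf.1 hb)), rfl⟩, by simp [hw]⟩
    · rintro _ ⟨_, ⟨b, hb, rfl⟩, rfl⟩ _ ⟨_, ⟨b', hb', rfl⟩, rfl⟩
      have : b' * b = b * b' := Subtype.ext (e3 hb _ hb')
      simpa using congrArg (fun a => (θ a).1) this
    · obtain ⟨w, hw⟩ := θ.surjective ⟨v, hv⟩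
      simpa [cm, hw] using hz (cm y w) (y1 w w.2)
  refine ⟨hz, fun u hu => ?_⟩
  have i1 : (0 : Fin (n + 1)) < ⟨1, by omega⟩ := by simp [Fin.lt_def]
  have i2 : (⟨1, by omega⟩ : Fin (n + 1)) < la n := by simp [Fin.lt_def]; omega
  have i3 : (0 : Fin (n + 1)) < ⟨n - 1, by omega⟩ := by simp [Fin.lt_def]; omega
  have i4 : (⟨n - 1, by omega⟩ : Fin (n + 1)) < la n := by simp [Fin.lt_def]; omega
  have h0 := zero_ne_la (n := n) (by omega)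
  have k : ∀ j, 0 < j → j < la n → x 0 j (1 : F) * x j (la n) 1 ≠ x j (la n) 1 * x 0 j 1 :=
    fun j j1 j2 h => by
      have := x_cm j1.ne j2.ne h0 (1 : F) 1
      rw [cm_eq_one.2 h, mul_one, eq_comm, x_eq_one h0] at this
      exact one_ne_zero this
  have h1 := key _ (Er_le_QQ.trans QQ_le_UU) (Ml_one (n := n) (F := F) ▸ UU_le_Ns_Ml 1) (Row_le_Cs 0)
    ⟨_, x_mem_UU i1 1⟩ ⟨_, x_mem_UU i2 1⟩ (x_mem_Row 0 ⟨1, by omega⟩ 1) ((C.z2 _ (x_mem_UU i2 1)).2 fun i j h h' => by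
      rw [x_apply i2.ne, if_neg h.ne, if_neg, add_zero]
      rintro ⟨rfl, rfl⟩; simp at h'; omega) fun h => k _ i1 i2 (congrArg Subtype.val h)
  have h2 := key _ (Ec_le_QQ.trans QQ_le_UU) (Ml_n (n := n) (F := F) ▸ UU_le_Ns_Ml n) (Col_le_Cs _)
    ⟨_, x_mem_UU i4 1⟩ ⟨_, x_mem_UU i3 1⟩ (x_mem_Col ⟨n - 1, by omega⟩ (la n) 1) ((C.z2 _ (x_mem_UU i3 1)).2 fun i j h h' => by
      rw [x_apply i3.ne, if_neg h.ne, if_neg, add_zero]
      rintro ⟨rfl, rfl⟩; simp at h'; omega) fun h => k _ i3 i4 (congrArg Subtype.val h).symm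
  obtain ⟨a, ha, b, hb, h3⟩ := (mem_sup_right_norm ((Ec_le_QQ.trans QQ_le_UU).trans
    (Ml_one (n := n) (F := F) ▸ UU_le_Ns_Ml 1))).1 hu
  have : u = ⟨a, QQ_le_UU (Er_le_QQ ha)⟩ * ⟨b, QQ_le_UU (Ec_le_QQ hb)⟩ := Subtype.ext h3
  rw [this, map_mul]
  exact mul_mem (h1 _ ha) (h2 _ hb)

theorem FC.mem_Ns_QQ (hn : 2 ≤ n) (A : FA n F) (C : FC n F) (hk : e.ker ≤ center (SLn n F))
    (hg : g ∈ Ns ((UU n F).map e)) : g ∈ Ns ((QQ n F).map e) := by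
  obtain ⟨θ, hθ⟩ := exists_aut hk isP_UU hg
  refine mem_normalizer_of_cj_le ?_
  rintro _ ⟨_, ⟨u, hu, rfl⟩, rfl⟩
  exact ⟨_, (C.aut_U hn A θ).2 ⟨u, QQ_le_UU hu⟩ hu, hθ _⟩

theorem FC.root_Er (hn : 2 ≤ n) (C : FC n F) {u : SLn n F} (h : u ∈ Er n F) : u = 1 ∨ Root u := by
  refine or_iff_not_imp_left.2 fun h1 => ?_
  have h2 := root_x hn (zero_ne_la (n := n) (by omega)) (one_ne_zero (α := F))
  obtain ⟨p, -, rfl⟩ := C.trr _ (x_mem_Row 0 (la n) 1) u h (h2.inv2 hn).2 h1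
  exact root_conj h2 p

theorem FC.root_Ec (hn : 2 ≤ n) (C : FC n F) {u : SLn n F} (h : u ∈ Ec n F) : u = 1 ∨ Root u := by
  refine or_iff_not_imp_left.2 fun h1 => ?_
  have h2 := root_x hn (zero_ne_la (n := n) (by omega)) (one_ne_zero (α := F))
  obtain ⟨p, -, rfl⟩ := C.trc _ (x_mem_Col 0 (la n) 1) u h (h2.inv2 hn).2 h1
  exact root_conj h2 p

theorem Er_ne_Ec (hn : 2 ≤ n) : Er n F ≠ Ec n F := fun h => by
  have h1 := card_ZZ (n := n) (F := F) (by omega)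
  rw [← Er_inf_Ec, ← h, inf_idem, card_Er] at h1
  have := Nat.pow_lt_pow_right (one_lt_card (F := F)) (show 1 < n by omega)
  rw [pow_one] at this; omega

theorem isP_Er : IsPGroup 2 (Er n F) := isP_UU.to_le (Er_le_QQ.trans QQ_le_UU)
theorem isP_Ec : IsPGroup 2 (Ec n F) := isP_UU.to_le (Ec_le_QQ.trans QQ_le_UU)
theorem isP_QQ : IsPGroup 2 (QQ n F) := isP_UU.to_le QQ_le_UU
theorem isP_ZZ : IsPGroup 2 (ZZ n F) := isP_UU.to_le ZZ_le_UU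

/-- The map `θ` with `e ∘ θ = e'` on `Q`. -/
theorem exists_QA (hk : e.ker ≤ center (SLn n F)) (hk' : e'.ker ≤ center (SLn n F))
    (h1 : (Er n F).map e' = (Er n F).map e) (h2 : (Ec n F).map e' = (Ec n F).map e) :
    ∃ θ, QA n F θ ∧ ∀ u ∈ QQ n F, e (θ u) = e' u := by
  have h3 : (QQ n F).map e' = (QQ n F).map e := by simp only [QQ, Subgroup.map_sup, h1, h2]
  have : ∀ u, ∃ v, u ∈ QQ n F → v ∈ QQ n F ∧ e v = e' u := fun u => by
    by_cases hu : u ∈ QQ n F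
    · obtain ⟨v, v1, v2⟩ := h3.le ⟨u, hu, rfl⟩
      exact ⟨v, fun _ => ⟨v1, v2⟩⟩
    · exact ⟨1, fun h => absurd h hu⟩
  choose θ hθ using this
  have q := isPGroup_iff_is2.1 (isP_QQ (n := n) (F := F))
  refine ⟨θ, ⟨⟨fun u hu => (hθ u hu).1, fun a ha b hb h => inj2 hk' (q a ha) (q b hb)
    (by rw [← (hθ a ha).2, h, (hθ b hb).2]), fun v hv => ?_⟩, fun a ha b hb => inj2 hk
      (q _ (hθ _ (mul_mem ha hb)).1) (q _ (mul_mem (hθ a ha).1 (hθ b hb).1))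
      (by rw [map_mul, (hθ _ (mul_mem ha hb)).2, (hθ a ha).2, (hθ b hb).2, map_mul]),
    fun a ha => ?_, fun a ha => ?_⟩, fun u hu => (hθ u hu).2⟩
  · obtain ⟨u, u1, u2⟩ := h3.ge ⟨v, hv, rfl⟩
    exact ⟨u, u1, inj2 hk (q _ (hθ u u1).1) (q v hv) ((hθ u u1).2.trans u2)⟩
  · have := hθ a (Er_le_QQ ha)
    exact (mem_map2 hk isP_Er (q _ this.1)).1 (this.2 ▸ h1.le ⟨a, ha, rfl⟩)
  · have := hθ a (Ec_le_QQ ha)
    exact (mem_map2 hk isP_Ec (q _ this.1)).1 (this.2 ▸ h2.le ⟨a, ha, rfl⟩)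

variable {K : Type} [Field K] [Finite K] [CharP K 2] {ι : F →+* K} {σ : RingAut K}
  {Φ Φ' : SLn n K →* G}

theorem nf_root (hn : 2 ≤ n) (B : FB n K) (c : CF e t ι σ Φ) (h : B1 e t) (f : UF (Ns Φ.range) t)
    {r u : SLn n K} (hr : Root r) (hu : u * u = 1) (hg : g * Φ r * g⁻¹ = Φ u) : Root u := by
  have key : ∀ v, Inv2 v → ∃ a, IsConj t a ∧ a ∈ Ns Φ.range ∧ a ∈ Ns (zpowers (Φ v)) := fun v hv => by
    obtain ⟨p, k, -, -, h1⟩ := B.ic v hv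
    have p1 : Φ p ∈ Ns Φ.range := le_normalizer ⟨p, rfl⟩
    refine ⟨(Φ p)⁻¹ * t * Φ p, isConj_iff.2 ⟨_, by rw [inv_inv]⟩,
      mul_mem (mul_mem (inv_mem p1) f.mem) p1, H64.SG.Cs_le_Ns _ (H64.SG.mem_Cs_zpowers.2 ?_)⟩
    have := h.comm (xk F n k)
    rw [← c.res, map_xk, ← h1, map_mul, map_mul, map_inv] at this
    calc _ = (Φ p)⁻¹ * (Φ p * Φ v * (Φ p)⁻¹ * t) * Φ p := by group
      _ = _ := by rw [← this]; group
  have r1 := inv2_e c.ker (hr.inv2 hn)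
  obtain ⟨a, a1, a2, a3⟩ := key r (hr.inv2 hn)
  obtain ⟨b, b1, b2, b3⟩ := key u ⟨hu, by rintro rfl; exact r1.2 (by simpa using hg)⟩
  obtain ⟨m, m1, s, s1, rfl⟩ := (H9.UF.jobK2 f a1 a2).2 _ g b a3 b1 b2
    (by rwa [cjs, MonoidHom.map_zpowers, ← hg] at *)
  have s2 : s * Φ r * s⁻¹ = Φ r := by
    rcases (mem_sup_zp (A := ⊥) (le_normalizer_of_normal (mem_top _)) r1.1).1
      (mem_sup_right (conj_mem_of_mem_normalizer s1 (mem_zpowers _))) with h1 | h1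
    · exact absurd (by simpa using h1) r1.2
    · rw [eq_inv_of_mul_eq_one_left (mem_bot.1 h1), inv_eq_of_mul_eq_one_right r1.1]
  obtain ⟨β, i⟩ := exists_ind hn c.ker m1
  rw [← (i.eq_iff c.ker (is2_of_sq hr.sq) (is2_of_sq hu)).1 (by rw [← hg]; nth_rewrite 1 [← s2]; group)]
  exact B.roota r β hr

theorem nf_core (hp : Par n F) (A : FA n K) (C : FC n K) (E : FE n K) (c : CF e t ι σ Φ)
    (f : EG e t Φ.range) (hk : Φ'.ker ≤ center (SLn n K)) (h1 : (Er n K).map Φ' = (Er n K).map Φ)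
    (h2 : (Ec n K).map Φ' = (Ec n K).map Φ) : Φ'.range ≤ Φ.range := by
  have hn := hp.two_le
  obtain ⟨θ, θ1, θ2⟩ := exists_QA c.ker hk h1 h2
  have q := isPGroup_iff_is2.1 (isP_QQ (n := n) (F := K))
  have cu : ∀ l, 1 ≤ l → l ≤ n → Cs ((Ml n K l).map Φ) ≤ Ns Φ.range := fun l l1 l2 =>
    (centralizer_anti (c.map_le _)).trans (f.cu l l1 l2)
  have st : ∀ S, t ∈ Ns ((Pat n K S).map Φ) := fun S => c.act.mem_Ns_map
    (mem_St_Pat fun i j _ hs a => by rw [slField_x]; exact x_mem_Pat hs _)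
  have h3 : N2 ((QQ n K).map Φ) ((ZZ n K).map Φ) ≤ Ns Φ.range := N2_le f.uf
    (by rintro _ ⟨z, hz, rfl⟩; rw [← map_mul, sq_ZZ hz, map_one]) (QQ_eq (n := n) (F := K) ▸ st _)
    (st _) ((centralizer_anti (map_mono (Ml_one (n := n) (F := K) ▸ Er_le_QQ))).trans
      (cu 1 le_rfl (by omega)))
  have h4 : (ZZ n K).map Φ' = (ZZ n K).map Φ := by
    rw [← Er_inf_Ec, map_inf2 hk isP_Er isP_Ec, map_inf2 c.ker isP_Er isP_Ec, h1, h2]
  obtain ⟨s1, s2⟩ := E.sem (by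
    by_cases h : n ≤ 3
    · left; have := hp.four h; rw [c.card]; nlinarith
    · right; omega) θ θ1 fun p hp p' hp' h => by
    have n1 : ∀ p ∈ Cs (ZZ n K), p ∈ Ns (QQ n K) := fun p hp =>
      conj_mem_St.1 (A.nz _ (conj_mem_St.2 (H64.SG.Cs_le_Ns _ hp))).1
    have k1 : ∀ u ∈ QQ n K, Φ' p * (Φ p')⁻¹ * Φ (p' * θ u * p'⁻¹) * (Φ' p * (Φ p')⁻¹)⁻¹ =
        Φ (θ (p * u * p⁻¹)) := fun u hu => by
      rw [θ2 _ (conj_mem_of_mem_normalizer (n1 p hp) hu)]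
      simp only [map_mul, map_inv, θ2 u hu]; group
    have k2 : ∀ v ∈ QQ n K, ∃ u ∈ QQ n K, v = p' * θ u * p'⁻¹ := fun v hv => by
      obtain ⟨u, u1, u2⟩ := θ1.bij.2.2 (conj_mem_of_mem_normalizer (inv_mem (n1 p' hp')) hv)
      exact ⟨u, u1, by rw [u2]; group⟩
    have k3 : Φ' p * (Φ p')⁻¹ ∈ N2 ((QQ n K).map Φ) ((ZZ n K).map Φ) :=
      ⟨mul_mem (h4 ▸ map_mem_Cs hp) (inv_mem (map_mem_Cs hp')), by
        rintro _ ⟨v, hv, rfl⟩
        obtain ⟨u, u1, rfl⟩ := k2 v hv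
        exact ⟨_, h u u1, by rw [cm, k1 u u1, map_mul, map_inv]⟩⟩
    obtain ⟨β, i⟩ := exists_ind hn c.ker (h3 k3)
    have k4 : ∀ v ∈ QQ n K, Is2 (β v * v⁻¹) := fun v hv => by
      obtain ⟨u, u1, rfl⟩ := k2 v hv
      have u2 := θ1.bij.1 (conj_mem_of_mem_normalizer (n1 p hp) u1)
      rw [(i.eq_iff c.ker (q _ hv) (q _ u2)).1 (k1 u u1)]
      exact q _ (mul_mem u2 (inv_mem hv))
    obtain ⟨ζ, z1, rfl⟩ := mem_cI.1 (A.n2 β (fun v hv => (mem_map2 c.ker isP_ZZ (k4 v hv)).1 (by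
      rw [map_mul, ← i, map_inv]; exact k3.2 _ ⟨v, hv, rfl⟩)) (i.fix c.ker isP_ZZ k3.1))
    refine ⟨ζ, z1, fun u hu => ?_⟩
    have u1 := conj_mem_of_mem_normalizer (n1 p' hp') (θ1.bij.1 hu)
    exact ((i.eq_iff c.ker (q _ u1) (q _ (θ1.bij.1 (conj_mem_of_mem_normalizer (n1 p hp) hu)))).1
      (k1 u hu)).symm
  have key : ∀ l, 1 ≤ l → l ≤ n → Ml n K l ≤ QQ n K → (Ml n K l).map Φ' = (Ml n K l).map Φ →
      ∀ p p', p * p = 1 → p ∈ Ns (Ml n K l) → (∀ u ∈ Ml n K l, θ (p * u * p⁻¹) = p' * θ u * p'⁻¹) →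
      Φ' p ∈ Φ.range := fun l l1 l2 l3 l4 p p' p1 p2 h => by
    have k1 : (Φ p')⁻¹ * Φ' p ∈ Cs ((Ml n K l).map Φ) := by
      rw [← l4]
      rintro _ ⟨u, hu, rfl⟩
      have := θ2 _ (l3 (conj_mem_of_mem_normalizer p2 hu))
      rw [h u hu] at this
      simp only [map_mul, map_inv, θ2 u (l3 hu)] at this
      calc _ = (Φ p')⁻¹ * (Φ p' * Φ' u * (Φ p')⁻¹) * Φ' p := by group
        _ = _ := by rw [this]; group
    obtain ⟨β, i⟩ := exists_ind hn c.ker (cu l l1 l2 k1)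
    obtain ⟨ζ, -, rfl⟩ := mem_cI.1 (A.ctM l l1 l2 β (i.fix_Pat c.ker k1))
    have k2 := ind_conj_iff.1 i
    have k3 : Φ' p = Φ (p' * ζ) * ((Φ p')⁻¹ * Φ' p * (Φ ζ)⁻¹) := by
      rw [map_mul, mul_assoc, k2 _ ⟨ζ, rfl⟩]; group
    rw [k3]
    exact mem_of_sq_odd f.odd ⟨_, rfl⟩ k2 (by rw [← k3, ← map_mul, p1, map_one])
  rw [MonoidHom.range_eq_map Φ', ← C.top, Subgroup.map_sup]
  refine sup_le (map_Pat_le.2 fun i j _ hs a => ?_) (map_Pat_le.2 fun i j _ hs a => ?_)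
  · obtain ⟨p', -, h⟩ := s1 (x i j a) (x_mem_Pat (S := fun _ b => b ≠ 0) hs a)
    rw [← Ml_one] at h h1
    exact key 1 le_rfl (by omega) (Ml_one (n := n) (F := K) ▸ Er_le_QQ) h1 _ p' (x_mul_self ..)
      (Ml_one (n := n) (F := K) ▸ Pr_le_Ns (x_mem_Pat (S := fun _ b => b ≠ 0) hs a)) h
  · obtain ⟨p', -, h⟩ := s2 (x i j a) (x_mem_Pat (S := fun a _ => a ≠ la n) hs a)
    rw [← Ml_n] at h h2
    exact key n (by omega) le_rfl (Ml_n (n := n) (F := K) ▸ Ec_le_QQ) h2 _ p' (x_mul_self ..)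
      (Ml_n (n := n) (F := K) ▸ Pc_le_Ns (x_mem_Pat (S := fun a _ => a ≠ la n) hs a)) h

theorem jobNF (hA : JobFA) (hB : JobFB) (hC : JobFC) (hE : JobFE) : JobNF.{u} := by
  intro n F _ _ _ hp G _ _ e t K _ _ _ ι σ Φ h c f g hg
  have hn := hp.two_le
  have A := hA n K (c.par hp)
  have C := hC n K (c.par hp)
  have g1 := C.mem_Ns_QQ hn A c.ker hg
  have key : ∀ E ≤ QQ n K, (∀ u ∈ E, u = 1 ∨ Root u) → Nat.card E = Nat.card K ^ n →
      E.map (cje g Φ) = (Er n K).map Φ ∨ E.map (cje g Φ) = (Ec n K).map Φ := fun E e1 e2 e3 => by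
    have p := isP_QQ.to_le e1
    have k1 : E.map (cje g Φ) ≤ (QQ n K).map Φ := by
      rw [map_cje]; exact (cj_mono g (map_mono e1)).trans (cj_eq_self g1).le
    obtain ⟨E', a1, a2, a3⟩ := exists_pre c.ker (p.map (cje g Φ))
    rw [inf_eq_left.2 (k1.trans (map_le_range _ _))] at a2
    refine (C.tv E' ((map_le_map2 c.ker a1 isP_QQ).1 (a2 ▸ k1)) (fun u hu => ?_) (by
      rw [← card_map2 c.ker a1, a2, card_map2 (ker_cje (g := g) (e := Φ) ▸ c.ker) p, e3])).imp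
      (fun h => by rw [← a2, h]) fun h => by rw [← a2, h]
    obtain ⟨u1, r, r1, r2⟩ := (a3 u).1 hu
    refine (e2 r r1).imp (fun h => eq_one2 c.ker u1 (by rw [← r2, h, map_one])) fun r3 =>
      nf_root hn (hB n K (c.par hp)) c h.toB1 f.uf r3 (sq_of_e c.ker u1 ?_) r2
    rw [← r2, ← map_mul, r3.sq, map_one]
  have hk : (cje g Φ).ker ≤ center (SLn n K) := ker_cje (g := g) (e := Φ) ▸ c.ker
  have ne : (Er n K).map (cje g Φ) ≠ (Ec n K).map (cje g Φ) := fun h => Er_ne_Ec hn (le_antisymm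
    ((map_le_map2 hk isP_Er isP_Ec).1 h.le) ((map_le_map2 hk isP_Ec isP_Er).1 h.ge))
  refine mem_normalizer_of_cj_le (range_cje.ge.trans ?_)
  rcases key _ Er_le_QQ (fun _ => C.root_Er hn) card_Er with h1 | h1 <;>
    rcases key _ Ec_le_QQ (fun _ => C.root_Ec hn) card_Ec with h2 | h2
  · exact absurd (h1.trans h2.symm) ne
  · exact nf_core hp A C (hE n K (c.par hp)) c f.toEG hk h1 h2
  · exact range_twe.ge.trans (nf_core hp A C (hE n K (c.par hp)) c f.toEG (ker_twe (β := gam n K) hk)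
      ((map_twe_of_Sw gam_Er).trans h2) ((map_twe_of_Sw gam_Er.symm).trans h1))
  · exact absurd (h1.trans h2.symm) ne

end H67.SA
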