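import Cfsg.Agent.H67.UASlotsA
import Cfsg.Agent.H67.UAFQ
import Cfsg.Agent.H67.UAFP
import Cfsg.Agent.H72.UMFV
import Cfsg.Agent.H59.UMFW
import Cfsg.Agent.H59.UMIC
import Cfsg.Agent.H59.UMFE1
import Cfsg.Agent.H59.UMFE
import Cfsg.Agent.H81.UAFX
import Cfsg.Agent.H55.UMFB
import Cfsg.Agent.H79.UMJ
import Cfsg.Agent.H79.UMD
import Cfsg.Agent.H57.UMFD1
import Cfsg.Agent.H66.UATR
import Cfsg.Agent.H66.UAFK
import Cfsg.Agent.H66.UAFY
import Cfsg.Agent.H66.UAFA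
import Cfsg.Agent.H13.UmPD
import Cfsg.Agent.H10.UmFH
import Cfsg.Agent.H19.UMFG

/-! All fact slots of the unitary tower, given the slot QK. -/

set_option autoImplicit false

namespace H67.UA

theorem slotsF (qk : JobQK) : SlotsF where
  fq := jobFQ
  fv := H72.FV.jobFV
  fw := H59.UM.jobFW
  fx := H81.UAX.jobFX
  fo := H81.UAX.jobFO
  fb := H55.UMFB.jobFB
  fy := H66.UAK.jobFY
  fa := H66.UAK.jobFA
  fp := jobFP
  fg := H19.UMFG.jobFG
  ic := H59.UM.jobIC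
  qk := qk
  fe1 := H59.UM.jobFE1
  fe := H59.UM.jobFE
  fj := H79.UMJ.jobFJ
  fd1 := H57.UM.jobFD1
  fd := H79.UMD.jobFD
  tr := H66.UAK.jobTR
  pd := H13.UM.jobPD
  ff := H66.UAK.jobFF
  fh := H10.UM.jobFH
  fk := H66.UAK.jobFK

end H67.UA
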