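import Cfsg.Agent.H28.TESpec

/-! Tower NF (S1308), chapter TE part 1, slot Z4. -/

set_option autoImplicit false

namespace H67.TeZ4

open Cfsg Subgroup H14 _root_.H98 H28.TE

universe u

variable {G : Type u} [Group G]

/-- The elements that commute with `c` and fix `d` modulo `c`. -/
def NN (d c : G) : Subgroup G where
  carrier := {h | Commute h c ∧ ∃ n : ℤ, h * d * h⁻¹ = d * c ^ n}
  one_mem' := ⟨Commute.one_left c, 0, by simp⟩
  mul_mem' := by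
    rintro a b ⟨a1, n, a2⟩ ⟨b1, m, b2⟩
    refine ⟨a1.mul_left b1, n + m, ?_⟩
    calc a * b * d * (a * b)⁻¹ = a * (b * d * b⁻¹) * a⁻¹ := by group
      _ = a * d * a⁻¹ * (a * c ^ m) * a⁻¹ := by rw [b2]; group
      _ = d * c ^ (n + m) := by rw [a2, (a1.zpow_right m).eq]; group
  inv_mem' := by
    rintro a ⟨a1, n, a2⟩
    refine ⟨a1.inv_left, -n, ?_⟩
    calc a⁻¹ * d * a⁻¹⁻¹ = a⁻¹ * (d * c ^ n) * (c ^ (-n) * a) := by group
      _ = d * c ^ (-n) := by rw [← a2, ← (a1.zpow_right (-n)).eq]; group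

theorem jobZ4 : JobZ4.{u} := by
  intro G _ _ H R d c y hR hd hc hy e1 e2 e3
  haveI : Fact (Nat.Prime 2) := ⟨Nat.prime_two⟩
  have hyc : Commute y c := e2
  have hp : ∀ n : ℕ, y ^ n * d * (y ^ n)⁻¹ = d * c ^ n := fun n => by
    induction n with
    | zero => simp
    | succ n ih =>
      calc y ^ (n + 1) * d * (y ^ (n + 1))⁻¹ = y * (y ^ n * d * (y ^ n)⁻¹) * y⁻¹ := by group
        _ = y * d * y⁻¹ * (y * c ^ n) * y⁻¹ := by rw [ih]; group
        _ = d * c ^ (n + 1) := by rw [e1, (hyc.pow_right n).eq]; group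
  obtain ⟨k, m, ⟨j, hm⟩, ho⟩ := Nat.exists_eq_two_pow_mul_odd (orderOf_pos y).ne'
  have hz : y ^ m * d * (y ^ m)⁻¹ = d * c := by
    rw [hp, hm, pow_succ, pow_mul, sq, e3, one_pow, one_mul]
  have hzc : Commute (y ^ m) c := hyc.pow_left m
  have h2 : (y ^ m) ^ 2 ^ k = 1 := by rw [← pow_mul, mul_comm, ← ho, pow_orderOf_eq_one]
  have hzH := H.pow_mem hy m
  generalize y ^ m = z at hz hzc h2 hzH
  have hRN : R ≤ H ⊓ NN d c := fun r hr => ⟨hR.le hr, mem_centralizer_singleton_iff.1 (hc hr), 0, by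
    rw [mem_centralizer_singleton_iff.1 (hd hr)]; simp⟩
  obtain ⟨g, hg, h3⟩ := (hR.of_le hRN inf_le_left).exists_cj_le (isPGroup_zpowers h2)
    (zpowers_le.2 ⟨hzH, hzc, 1, by rw [hz, zpow_one]⟩)
  have h4 := mem_centralizer_singleton_iff.1 (hd (h3 (conj_mem_cj (mem_zpowers z))))
  obtain ⟨g1, n, g2⟩ := (NN d c).inv_mem hg.2
  have h5 : z * (g⁻¹ * d * g⁻¹⁻¹) = g⁻¹ * d * g⁻¹⁻¹ * z := by
    calc z * (g⁻¹ * d * g⁻¹⁻¹) = g⁻¹ * (g * z * g⁻¹ * d) * g := by group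
      _ = _ := by rw [h4]; group
  rw [g2, mul_assoc, ← (hzc.zpow_right n).eq, ← mul_assoc, ← mul_assoc, mul_left_inj] at h5
  rw [h5, mul_inv_cancel_right] at hz
  exact (mul_eq_left.1 hz.symm)

end H67.TeZ4
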