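import Cfsg.Agent.H28.TESpec2

/-! Tower NF (S1308), chapter TE part 1, slot RA. -/

set_option autoImplicit false

namespace H67.TeRA

open Cfsg Subgroup H14 _root_.H98 H1.Gold H31.S2 H14.GC H14.FE H14.NF H28.TE
open scoped commutatorElement

universe u

theorem jobRA : JobRA.{u} := by
  intro _ kp g1 b2 zc G _ _ Q Q₁ E Q₂ T ln R ar
  have kp := kp G Q Q₁ E Q₂ T ln R ar
  have g1 := g1 G Q Q₁ E Q₂ T ln R ar
  have b2 := b2 G Q Q₁ E Q₂ T ln R ar
  have zc := (zc G Q Q₁ E Q₂ T ln R ar).1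
  have cE : ∀ r ∈ R, ∀ e ∈ E, r * e * r⁻¹ = e := fun r hr e he => by
    have h : e ∈ OZ R := zc ▸ he
    rw [mem_centralizer_iff.1 h.2.1 r hr, mul_inv_cancel_right]
  have mul : ∀ t a b : G, ⁅t, a * b⁆ = ⁅t, a⁆ * (a * ⁅t, b⁆ * a⁻¹) := fun t a b => by
    simp only [commutatorElement_def]; group
  have h1 : ∀ y ∈ PP E T R, ∀ y' ∈ PP E T R, ⁅y, y'⁆ ∈ E := fun y hy y' hy' => by
    obtain ⟨t, ht, -, -, h0, -⟩ := ln.fT
    have a1 := (kp.mem y hy.1).1 hy t ht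
    have a2 := (kp.mem y' hy'.1).1 hy' t ht
    have e : ⁅t, y * y'⁆ = ⁅t, y' * y⁆ := by
      rw [mul, mul, cE y hy.1 _ a2, cE y' hy'.1 _ a1]
      exact mul_inv_eq_iff_eq_mul.1 (cE _ (ar.le a1) _ a2)
    have hR := R.mul_mem hy'.1 hy.1
    have h2 : (y' * y)⁻¹ * (y * y') ∈ E := by
      refine kp.ct t ht h0.1 _ (R.mul_mem (R.inv_mem hR) (R.mul_mem hy.1 hy'.1)) ?_
      calc (y' * y)⁻¹ * (y * y') * t
          = (y' * y)⁻¹ * ⁅t, y * y'⁆⁻¹ * t * (y * y') := by simp only [commutatorElement_def]; group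
        _ = _ := by rw [e]; simp only [commutatorElement_def]; group
    have h3 := cE _ hR _ h2
    rw [show ⁅y, y'⁆ = y' * y * ((y' * y)⁻¹ * (y * y')) * (y' * y)⁻¹ by
      simp only [commutatorElement_def]; group, h3]
    exact h2
  have h2 : ∀ x ∈ R, x ∉ PP E T R → ∀ y ∈ PP E T R, ⁅x, y⁆ ∈ E := fun x hx hn y hy => by
    obtain ⟨c1, c2⟩ := b2 x hx hn
    have c3 : ∃ t ∈ T, ⁅t, x⁆ ∉ E := by
      by_contra hh
      push Not at hh
      exact hn ((kp.mem x hx).2 hh)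
    obtain ⟨t, ht, he⟩ := (g1 x c1 c3).2.1 y hy
    have h0 := (kp.mem _ (R.mul_mem hx hx)).1 (c2 x hx hn) t ht
    rw [mul] at h0
    have ha := c1 t ht
    generalize ⁅t, x⁆ = a at he h0 ha
    have hs : a * a ∈ E := by
      by_cases h : a ∈ E
      · exact E.mul_mem h h
      · exact (kp.tr a ha h).sq
    have h3 : ⁅x, a⁆ ∈ E := by
      have := cE _ (R.inv_mem ha.1) _ h0
      rw [show ⁅x, a⁆ = a⁻¹ * (a * (x * a * x⁻¹)) * a⁻¹⁻¹ * (a * a)⁻¹ by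
        simp only [commutatorElement_def]; group, this]
      exact E.mul_mem h0 (E.inv_mem hs)
    have h4 := cE x hx _ (E.inv_mem he)
    rw [show ⁅x, y⁆ = x * (a * y⁻¹)⁻¹ * x⁻¹ * ⁅x, a⁆ * (a * y⁻¹) by
      simp only [commutatorElement_def]; group, h4]
    exact E.mul_mem (E.mul_mem (E.inv_mem he) h3) he
  intro x hx x' hx'
  by_cases c : x ∈ PP E T R <;> by_cases c' : x' ∈ PP E T R
  · exact h1 x c x' c'
  · rw [← commutatorElement_inv]
    exact E.inv_mem (h2 x' hx' c' x c)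
  · exact h2 x hx c x' c'
  · have h3 := h2 x hx c _ ((b2 x hx c).2 x' hx' c')
    rw [show ⁅x, x'⁆ = x⁻¹ * ⁅x, x * x'⁆ * x⁻¹⁻¹ by simp only [commutatorElement_def]; group,
      cE _ (R.inv_mem hx) _ h3]
    exact h3

end H67.TeRA
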