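import Cfsg.Agent.H99.WrBase

/-! STD-H, step 3: `t` is fused to `t f` in `N(W)` and some element acts on one factor only. -/

set_option autoImplicit false
open Subgroup Cfsg H98 H1.Gold H99.Wr

universe u

namespace H67.Wr

variable {G : Type u} [Group G] [Finite G] {t f : G} {L O S E E' E₁ : Subgroup G}

theorem two_card_le {A B : Subgroup G} (h : A ≤ B) {x : G} (hx : x ∈ B) (hx' : x ∉ A) :
    2 * Nat.card A ≤ Nat.card B := by
  obtain ⟨k, hk⟩ := card_dvd_of_le h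
  rcases k with _ | _ | k
  · have := Nat.card_pos (α := B); omega
  · exact absurd (eq_of_le_of_card_ge h (by omega) ▸ hx) hx'
  · rw [hk]; nlinarith

/-- `t x` is conjugate to `t` for every `x ∈ L` of square one. -/
theorem conj_t_mul (hC : Cen t L O E) (hD : Dat L S E E' f) (h : St1 t L O E E₁) {x : G}
    (hx : x ∈ L) (h2 : x * x = 1) : ∃ g : G, g * t * g⁻¹ = t * x := by
  obtain ⟨l, hl, he⟩ := hD.inv x hx h2
  obtain ⟨a, -, e⟩ := h.dbl.trans hC.tt he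
  refine ⟨l⁻¹ * a, ?_⟩
  calc _ = l⁻¹ * (a * t * a⁻¹) * l := by group
    _ = x * (l⁻¹ * t) * l := by rw [e]; group
    _ = t * x := by rw [hC.cL (inv_mem hl), ← hC.cL hx]; group

theorem nor_of_cj (hC : Cen t L O E) (hD : Dat L S E E' f) (h : St1 t L O E E₁) {g y : G}
    (hy : y ∈ nor (E₁ ⊔ cj t E₁)) (hg : g * y * g⁻¹ = t)
    (hB : cj g ((E₁ ⊔ cj t E₁) ⊓ cen1 y) = E) : g ∈ nor (E₁ ⊔ cj t E₁) := by
  set W := E₁ ⊔ cj t E₁
  have tt := hC.tt
  have yy : y * y = 1 := by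
    calc y * y = g⁻¹ * (g * y * g⁻¹ * (g * y * g⁻¹)) * g := by group
      _ = 1 := by rw [hg, tt]; group
  refine mem_normalizer_of_cj_le ?_
  rintro _ ⟨w, hw, rfl⟩
  change g * w * g⁻¹ ∈ W
  have vv : g * w * g⁻¹ * (g * w * g⁻¹) = 1 := by
    calc _ = g * (w * w) * g⁻¹ := by group
      _ = 1 := by rw [h.dbl.elW w hw]; group
  have h1 : g * w * g⁻¹ ∈ cen E := by
    rw [← hB, mem_cen]
    rintro _ ⟨b, hb, rfl⟩
    change g * b * g⁻¹ * _ = _ * (g * b * g⁻¹)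
    calc _ = g * (b * w) * g⁻¹ := by group
      _ = _ := by rw [h.dbl.elW.comm hb.1 hw]; group
  have h2 : g * w * g⁻¹ * t * (g * w * g⁻¹)⁻¹ * t ∈ E := by
    have hw' : y * w⁻¹ * y⁻¹ ∈ W := conj_mem_of_mem_normalizer hy (inv_mem hw)
    have e : g * w * g⁻¹ * t * (g * w * g⁻¹)⁻¹ * t = g * (w * (y * w⁻¹ * y⁻¹)) * g⁻¹ := by
      rw [← hg, inv_of_sq yy]; group
    rw [e, ← hB]
    refine conj_mem_cj ⟨mul_mem hw hw', mem_cen1.2 ?_⟩
    calc w * (y * w⁻¹ * y⁻¹) * y = w * y * w⁻¹ := by group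
      _ = y * (y * w * y⁻¹ * w⁻¹) * (w * (y * y) * w⁻¹)⁻¹ * (w * (y * y) * w⁻¹) := by
        rw [inv_of_sq yy, yy]
        calc _ = 1 * w * y * w⁻¹ := by group
          _ = _ := by rw [← yy]; group
      _ = y * (w * (y * w⁻¹ * y⁻¹)) := by
        rw [yy, h.dbl.elW.comm (conj_mem_of_mem_normalizer hy hw) (inv_mem hw),
          inv_of_sq (h.dbl.elW w hw)]
        group
  obtain ⟨w', hw', o, ho, e | e⟩ := h.ustar _ h1 h2
  · have c : w' * o = o * w' := mem_cen.1 (h.O_le hC ho) w' hw'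
    have : o = 1 := one_of_odd_sq (hC.oddO ho) (by
      rw [e] at vv
      calc o * o = w' * w' * (o * o) := by rw [h.dbl.elW w' hw', one_mul]
        _ = w' * (w' * o) * o := by group
        _ = w' * o * (w' * o) := by nth_rewrite 1 [c]; group
        _ = 1 := vv)
    rw [e, this, mul_one]; exact hw'
  · exfalso
    have c : w' * t * o = o * (w' * t) := by
      rw [mul_assoc, ← hC.cO ho, ← mul_assoc, mem_cen.1 (h.O_le hC ho) w' hw', mul_assoc]
    have c' : Commute (w' * t) o := c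
    have h4 : (w' * t) ^ 2 ^ 2 = 1 := by
      have hm : w' * (t * w' * t⁻¹) ∈ W :=
        mul_mem hw' (conj_mem_of_mem_normalizer (t_mem_nor tt E₁) hw')
      change (w' * t) ^ 4 = 1
      rw [← h.dbl.elW _ hm, hC.tinv]
      simp only [pow_succ, pow_zero, one_mul, mul_assoc]
    have : o = 1 := one_of_odd (hC.oddO ho) (k := 2) (by
      have := c'.mul_pow (2 ^ 2)
      rw [h4, one_mul, ← e] at this
      rw [← this, show 2 ^ 2 = 2 * 2 from rfl, pow_mul, pow_two (g * w * g⁻¹), vv, one_pow])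
    rw [this, mul_one] at e
    obtain ⟨a, -, ea⟩ := invol_coset tt h.dbl.comm (h.dbl.inf_bot tt) hw' (e ▸ vv)
    refine h.tnW hC hD (g⁻¹ * a) ?_
    have : g⁻¹ * a * t * (g⁻¹ * a)⁻¹ = w := by
      calc _ = g⁻¹ * (a * t * a⁻¹) * g := by group
        _ = w := by rw [ea, ← e]; group
    rw [this]; exact hw

theorem fus3 (hC : Cen t L O E) (hD : Dat L S E E' f) (h : St1 t L O E E₁) :
    ∃ g ∈ nor (E₁ ⊔ cj t E₁), g * t * g⁻¹ = t * f := by
  set W := E₁ ⊔ cj t E₁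
  have tt := hC.tt
  have fL : f ∈ L := hD.syl.le hD.fS
  have fN : f ∈ L ⊓ nor E := ⟨fL, hD.SN hD.fS⟩
  have ft := hC.cL fL
  have hy : t * f ∈ nor W := mul_mem (t_mem_nor tt E₁) (h.N_le hC fN)
  set B := W ⊓ cen1 (t * f)
  have hBc : Nat.card E ≤ Nat.card B := by
    rw [← h.dbl.card_E₁]
    have hm : ∀ a ∈ E₁, f * a * f⁻¹ ∈ E₁ := fun a ha => conj_mem_of_mem_normalizer (h.norN fN) ha
    refine Nat.card_le_card_of_injective (fun a : E₁ => (⟨a * (t * (f * a * f⁻¹) * t⁻¹),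
      h.dbl.mem_W.2 ⟨_, a.2, _, hm _ a.2, rfl⟩, mem_cen1.2 ?_⟩ : B)) fun a b e => ?_
    · have yy : t * f * (t * f) = 1 := by
        rw [mul_assoc, ← mul_assoc f, ft, mul_assoc, hD.ff, mul_one, tt]
      have e1 : t * (f * a * f⁻¹) * t⁻¹ = t * f * a * (t * f) := by
        nth_rewrite 2 [← inv_of_sq yy]; group
      nth_rewrite 2 [h.dbl.c' a.2 (hm _ a.2)]
      rw [e1]
      calc _ = a * (t * f) * a * (t * f * (t * f)) := by group
        _ = t * f * (t * f) * (a * (t * f) * a) := by rw [yy]; group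
        _ = _ := by group
    · exact Subtype.ext (h.dbl.uniq tt a.2 (hm _ a.2) b.2 (hm _ b.2) (congrArg Subtype.val e)).1
  have key : ∀ l ∈ L, l * f * l⁻¹ ∈ E → ∃ w ∈ E₁, dg t w = l * f * l⁻¹ ∧
      w * l * (t * f) * (w * l)⁻¹ = t ∧ cj (w * l) B ≤ L := by
    intro l hl he
    obtain ⟨w, hw, e⟩ := h.dbl.sur _ he
    have e1 : w * l * (t * f) * (w * l)⁻¹ = t := by
      have e2 := h.dbl.th tt hw
      calc _ = w * ((l * t) * f * l⁻¹) * w⁻¹ := by group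
        _ = w * t * (l * f * l⁻¹ * w⁻¹) := by rw [hC.cL hl]; group
        _ = w * t * w⁻¹ * t * (t * (l * f * l⁻¹)) := by
          rw [h.dbl.elW.comm (h.dbl.E_le he) (mem_sup_left (inv_mem hw))]
          calc _ = w * t * w⁻¹ * 1 * (l * f * l⁻¹) := by group
            _ = _ := by rw [← tt]; group
        _ = t := by rw [e2, e, ← hC.cL (hD.EL he), ← mul_assoc, hD.el _ he, one_mul]
    refine ⟨w, hw, e, e1, ?_⟩
    set g := w * l
    have hel : El (cj g B) := (h.dbl.elW.mono inf_le_left).cj g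
    have hc : cj g B ≤ cen1 t := by
      rintro _ ⟨b, hb, rfl⟩
      rw [mem_cen1, ← e1]
      change g * b * g⁻¹ * _ = _ * (g * b * g⁻¹)
      calc _ = g * (b * (t * f)) * g⁻¹ := by group
        _ = _ := by rw [mem_cen1.1 hb.2]; group
    have htB : t ∉ cj g B := fun ht => h.tnW hC hD g⁻¹ (by simpa using (mem_cj.1 ht).1)
    have hs := (hC.split (A := cj g B ⊔ zpowers t)
      (sup_le hc (zpowers_le_of_mem (mem_cen1.2 rfl)))
      (hel.sup (el_zpowers tt) fun a ha b hb => by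
        rcases (mem_zpowers_sq tt).1 hb with rfl | rfl
        · simp
        · exact mem_cen1.1 (hc ha))
      (mem_sup_right (mem_zpowers t)) ((by rw [card_cj]; omega : _ ≤ 2 * Nat.card (cj g B)).trans
        (two_card_le le_sup_left (mem_sup_right (mem_zpowers t)) htB))).1
    intro b hb
    rcases hs b (mem_sup_left hb) with h1 | h1
    · exact h1
    · exfalso
      obtain ⟨c, hc'⟩ := conj_t_mul hC hD h h1 (by
        rw [mul_assoc, ← mul_assoc b, mem_cen1.1 (hc hb), mul_assoc, hel b hb, mul_one, tt])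
      rw [← mul_assoc, tt, one_mul] at hc'
      refine h.tnW hC hD (g⁻¹ * c) ?_
      have : g⁻¹ * c * t * (g⁻¹ * c)⁻¹ = g⁻¹ * b * g := by rw [← hc']; group
      rw [this]; exact (mem_cj.1 hb).1
  have fin : ∀ g : G, g * (t * f) * g⁻¹ = t → (∃ x ∈ L, cj g B = cj x E) →
      ∃ g ∈ nor W, g * t * g⁻¹ = t * f := by
    rintro g hg ⟨x, hx, e⟩
    have e1 : x⁻¹ * g * (t * f) * (x⁻¹ * g)⁻¹ = t := by
      calc _ = x⁻¹ * (g * (t * f) * g⁻¹) * x := by group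
        _ = t := by rw [hg, hC.cL (inv_mem hx)]; group
    refine ⟨(x⁻¹ * g)⁻¹, inv_mem (nor_of_cj hC hD h hy e1 (by rw [← cj_cj, e, cj_inv_cj])), ?_⟩
    calc _ = (x⁻¹ * g)⁻¹ * (x⁻¹ * g * (t * f) * (x⁻¹ * g)⁻¹) * (x⁻¹ * g) := by rw [e1]; group
      _ = _ := by group
  have hel : ∀ g, El (cj g B) := fun g => (h.dbl.elW.mono inf_le_left).cj g
  rcases hD.fus3 with h3 | ⟨l, hl, ⟨he, heS⟩, hlS, h3⟩
  · obtain ⟨l, hl, he⟩ := hD.inv f fL hD.ff
    obtain ⟨w, -, -, e1, e2⟩ := key l hl he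
    exact fin _ e1 (h3 _ e2 (hel _) (by rwa [card_cj]))
  · obtain ⟨w, hw, e, e1, e2⟩ := key l hl he
    have wS : ∀ s ∈ S, s * w = w * s := fun s hs =>
      h.conj_eq hC ⟨hD.syl.le hs, hD.SN hs⟩ hw (by rw [e]; exact mem_cen.1 heS s hs)
    have wc : ∀ A ≤ S, cj w A = A := fun A hA => by
      ext a
      constructor
      · rintro ⟨b, hb, rfl⟩
        change w * b * w⁻¹ ∈ A
        rwa [cj_of_comm (wS b (hA hb)).symm]
      · exact fun ha => ⟨a, ha, cj_of_comm (wS a (hA ha)).symm⟩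
    refine fin _ e1 ?_
    rcases h3 _ e2 (hel _) (by rwa [card_cj]) (by
      rw [← wc _ hlS, cj_cj]
      refine cj_mono _ fun x hx => ⟨h.dbl.E_le hx.1, mem_cen1.2 ?_⟩
      rw [← mul_assoc, hC.cL (hD.EL hx.1), mul_assoc, mem_cen1.1 hx.2, mul_assoc]) with
      h4 | ⟨h4, h5⟩
    · exact h4
    · have h6 : cj (w * l) B = B := by
        have h7 : cj (w * l) (cj (w * l) B) = cj (w * l) B := by
          rw [← cj_cj, cj_eq_self h5, wc _ h4]
        exact cj_inj.1 h7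
      refine ⟨1, one_mem _, ?_⟩
      rw [cj_one, h6]
      exact eq_of_le_of_card_ge (fun b hb => h.dbl.fix tt hb.1 (hC.cL (e2 (h6.symm ▸ hb)))) hBc

theorem not_fus (hC : Cen t L O E) (hD : Dat L S E E' f) (h : St1 t L O E E₁) {g n : G}
    (hg : g ∈ nor (E₁ ⊔ cj t E₁)) (hn : n ∈ L ⊓ nor E)
    (hc : g * t * g⁻¹ * n⁻¹ ∈ cen (E₁ ⊔ cj t E₁)) : False := by
  set W := E₁ ⊔ cj t E₁
  have tt := hC.tt
  have nC : cen W ≤ nor W := le_normalizer_of_le_centralizer le_rfl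
  have cC : ∀ a ∈ nor W, ∀ c ∈ cen W, a * c * a⁻¹ ∈ cen W := fun a ha c hc => by
    have := conj_mem_cj (g := a) hc
    rwa [cj_centralizer, cj_eq_self ha] at this
  have yy : g * t * g⁻¹ * (g * t * g⁻¹) = 1 := by
    calc _ = g * (t * t) * g⁻¹ := by group
      _ = 1 := by rw [tt]; group
  have hy : g * t * g⁻¹ ∈ nor W := mul_mem (mul_mem hg (t_mem_nor tt E₁)) (inv_mem hg)
  have h2 : n * n ∈ cen W := by
    have := inv_mem (mul_mem (cC _ hy _ hc) hc)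
    convert this using 1
    calc n * n = (g * t * g⁻¹ * (g * t * g⁻¹) * n⁻¹ * (1 * n⁻¹))⁻¹ := by rw [yy]; simp
      _ = _ := by rw [← yy]; simp only [inv_of_sq yy]; group
  wlog hE : n * n ∈ E generalizing n
  · obtain ⟨e, he, h3⟩ := hD.cenE _ (mul_mem hn.1 hn.1) (centralizer_anti h.dbl.E_le h2)
    have h4 := hC.zL ⟨mul_mem (mul_mem hn.1 hn.1) (hD.EL he), h3⟩
    obtain ⟨k, hk⟩ := hC.odd
    have h5 : n ^ (2 * k + 1) * n ^ (2 * k + 1) ∈ E := by
      have c : Commute (n * n * e) e := mem_cen.1 h3 e (hD.EL he) |>.symm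
      have e1 : n * n = n * n * e * e := by rw [mul_assoc _ e, hD.el e he, mul_one]
      rw [← (Commute.refl n).mul_pow, e1, c.mul_pow, ← hk]
      have : (n * n * e) ^ Nat.card O = 1 := by
        exact congrArg Subtype.val (pow_card_eq_one' (G := O) (x := ⟨_, h4⟩))
      rw [this, one_mul]
      exact pow_mem he _
    refine this (pow_mem hn _) ?_ (centralizer_anti ?_ (h.dbl.elW.le_cen (h.dbl.E_le h5))) h5
    · convert mul_mem hc (inv_mem (pow_mem h2 k)) using 1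
      rw [← pow_two, ← pow_mul]; group
    · exact le_rfl
  have hnC : n ∉ cen W := fun h3 => h.tn_cen hC hD (by
    have := cC _ (inv_mem hg) _ (mul_mem hc h3)
    convert this using 1; group)
  obtain ⟨c, hc1, hw⟩ := h.conj_coset (h.N_le hC hn) (h.dbl.E_le hE) hnC hc (k := 1)
    (by rw [pow_one, pow_two, yy])
  obtain ⟨a, ha, b, hb, ew⟩ := h.dbl.mem_W.1 hw
  obtain ⟨d, hd, ed⟩ := h.dbl.sur _ hE
  obtain ⟨y, hy'⟩ : ∃ y, y = c * (g * t * g⁻¹) * c⁻¹ := ⟨_, rfl⟩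
  rw [← hy'] at ew hw
  have yy' : y * y = 1 := by
    rw [hy']
    calc _ = c * (g * t * g⁻¹ * (g * t * g⁻¹)) * c⁻¹ := by group
      _ = 1 := by rw [yy]; group
  have nt := hC.cL hn.1
  have na := conj_mem_of_mem_normalizer (h.norN hn) ha
  have nb := conj_mem_of_mem_normalizer (h.norN hn) hb
  have e1 : a * (n * a * n⁻¹) * d * (t * (b * (n * b * n⁻¹) * d) * t⁻¹) = 1 * (t * 1 * t⁻¹) := by
    have e2 : y = a * (t * b * t⁻¹) * n := by rw [← ew]; group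
    have e3 : n * (t * b * t⁻¹) * n⁻¹ = t * (n * b * n⁻¹) * t⁻¹ := by
      calc _ = n * t * b * (n * t)⁻¹ := by group
        _ = _ := by rw [nt]; group
    calc _ = a * (n * a * n⁻¹ * d * (t * b * t⁻¹)) * (t * (n * b * n⁻¹) * t⁻¹) * (t * d * t⁻¹) := by
          group
      _ = a * (t * b * t⁻¹) * (n * a * n⁻¹) * (d * (t * (n * b * n⁻¹) * t⁻¹)) * (t * d * t⁻¹) := by
          rw [h.dbl.c' (mul_mem na hd) hb]; group
      _ = a * (t * b * t⁻¹) * (n * a * n⁻¹) * (n * (t * b * t⁻¹) * n⁻¹) * dg t d := by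
          rw [h.dbl.c' hd nb, e3, dg]; group
      _ = y * y := by rw [ed, e2]; group
      _ = _ := by rw [yy']; group
  have e4 := (h.dbl.uniq tt (mul_mem (mul_mem ha na) hd) (mul_mem (mul_mem hb nb) hd) (one_mem _)
    (one_mem _) e1).1
  have e5 : dg t a * n * (dg t a * n) = 1 := by
    calc _ = dg t a * (n * dg t a * n⁻¹) * (n * n) := by group
      _ = 1 := by
        rw [← dg_conj nt, ← ed, ← h.dbl.dg_mul ha na, ← h.dbl.dg_mul (mul_mem ha na) hd, e4, dg_one]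
  have hda := h.dbl.mem a ha
  have hb' : y * n⁻¹ * (dg t a)⁻¹ ∈ W := mul_mem hw (inv_mem (h.dbl.E_le hda))
  obtain ⟨b', eb'⟩ : ∃ b', b' = y * n⁻¹ * (dg t a)⁻¹ := ⟨_, rfl⟩
  rw [← eb'] at hb'
  have e6 : y = b' * (dg t a * n) := by rw [eb']; group
  have bb := h.dbl.elW b' hb'
  have e7 : b' * y = y * b' := by
    rw [← inv_of_sq yy', e6, mul_inv_rev, inv_of_sq e5, inv_of_sq bb]
    nth_rewrite 1 [← inv_of_sq e5]
    nth_rewrite 1 [← inv_of_sq bb]
    have : b' * (dg t a * n) = dg t a * n * b' := by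
      rw [← e6, ← inv_of_sq yy', e6, mul_inv_rev, inv_of_sq e5, inv_of_sq bb]
    rw [inv_of_sq e5, inv_of_sq bb, ← this, mul_assoc b' _ b', ← this]
  have hγ : c * g ∈ nor W := mul_mem (nC hc1) hg
  have ey : y = c * g * t * (c * g)⁻¹ := by rw [hy']; group
  have hE' : (c * g)⁻¹ * b' * (c * g) ∈ E :=
    h.dbl.fix tt (conj_mem_of_mem_normalizer' hγ hb') (by
      calc _ = (c * g)⁻¹ * (b' * (c * g * t * (c * g)⁻¹)) * (c * g) := by group
        _ = _ := by rw [← ey, e7, ey]; group)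
  obtain ⟨a', -, ea'⟩ := h.dbl.trans tt hE'
  refine hC.nconj (c * g * a') ?_
  convert mul_mem (hD.EL hda) hn.1 using 1
  calc _ = c * g * (a' * t * a'⁻¹) * (c * g)⁻¹ := by group
    _ = b' * (c * g * t * (c * g)⁻¹) := by rw [ea']; group
    _ = _ := by rw [← ey, e6, ← mul_assoc, bb, one_mul]

theorem job3 : Job3.{u} := by
  intro G _ _ t f L O S E E' E₁ hC hD h
  have tt := hC.tt
  have hf := fus3 hC hD h
  refine ⟨hf, ?_⟩
  have fN : f ∈ L ⊓ nor E := ⟨hD.syl.le hD.fS, hD.SN hD.fS⟩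
  obtain ⟨η, hη⟩ := exists_aut fN.2
  have hpr : ∀ n (hn : n ∈ L ⊓ nor E) (α : MulAut E), (∀ e : E, (α e : G) = n * e * n⁻¹) →
      h.dbl.act tt ⟨n, h.N_le hC hn⟩ = pr α α := fun n hn α hα =>
    h.dbl.act_pr tt _ (hC.cL hn.1) (hC.cL hn.1) (h.norN hn) (h.norN hn) hα hα (fun _ _ => rfl)
      fun _ _ => rfl
  have hsw : h.dbl.act tt ⟨t, t_mem_nor tt E₁⟩ = sw E := h.dbl.act_t tt _ rfl
  obtain ⟨a, ha, u, hu⟩ := hD.wr η hη (h.dbl.act tt).range ⟨_, hsw⟩
    (by rintro α ⟨n, hn, hα⟩; exact ⟨_, hpr n hn α hα⟩)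
    (by
      rintro _ ⟨g, rfl⟩ hc
      have h1 : h.dbl.act tt (g * ⟨t, t_mem_nor tt E₁⟩ * g⁻¹ * ⟨t, t_mem_nor tt E₁⟩⁻¹) = 1 := by
        simp only [map_mul, map_inv, hsw]
        rw [hc]; group
      obtain ⟨n, hn, h2⟩ := h.cen_lift hC hD g.2 ((h.dbl.act_eq_one tt _).1 h1)
      obtain ⟨α, hα⟩ := exists_aut hn.2
      refine ⟨α, ⟨n, hn, hα⟩, ?_⟩
      rcases h2 with h2 | h2
      · have := (h.dbl.act_eq_one tt (g * ⟨n, h.N_le hC hn⟩⁻¹)).2 h2
        rw [map_mul, map_inv, hpr n hn α hα, mul_inv_eq_one] at this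
        exact Or.inl this
      · have := (h.dbl.act_eq_one tt (g * ⟨n, h.N_le hC hn⟩⁻¹ * ⟨t, t_mem_nor tt E₁⟩)).2 h2
        rw [map_mul, map_mul, map_inv, hpr n hn α hα, hsw, mul_eq_one_iff_eq_inv,
          inv_of_sq sw_sw, mul_inv_eq_iff_eq_mul] at this
        exact Or.inr this)
    (by
      rintro _ ⟨g, rfl⟩ α ⟨n, hn, hα⟩ e
      refine not_fus hC hD h g.2 hn ((h.dbl.act_eq_one tt
        (g * ⟨t, t_mem_nor tt E₁⟩ * g⁻¹ * ⟨n, h.N_le hC hn⟩⁻¹)).1 ?_)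
      simp only [map_mul, map_inv, hsw, hpr n hn α hα, e, mul_inv_cancel])
    (by
      obtain ⟨g, hg, e⟩ := hf
      refine ⟨_, ⟨⟨g, hg⟩, rfl⟩, ?_⟩
      rw [← hsw, ← hpr f fN η hη, ← map_inv, ← map_mul, ← map_mul, ← map_mul]
      exact congrArg _ (Subtype.ext e))
  have h2 : (u : G) ∈ cen (cj t E₁) := by
    rw [mem_cen]
    rintro _ ⟨b, hb, rfl⟩
    have := h.dbl.ψ_act tt u (h.dbl.δ 1, h.dbl.δ ⟨b, hb⟩)
    rw [hu, pr_apply, map_one, map_one, ← map_one h.dbl.δ, MulAut.one_apply, h.dbl.ψ_apply] at this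
    simp only [coe_one, one_mul] at this
    exact (comm_of_cj this.symm).symm
  refine ⟨u, h.dbl.nor_of_act tt u fun v => by rw [hu]; rfl, h2, fun h3 => ha ?_⟩
  have h4 : (u : G) ∈ cen (E₁ ⊔ cj t E₁) := by
    rw [mem_cen]
    intro x hx
    obtain ⟨p, hp, q, hq, rfl⟩ := h.dbl.mem_W.1 hx
    rw [mul_assoc, mem_cen.1 h2 _ (conj_mem_cj hq), ← mul_assoc, mem_cen.1 h3 p hp, mul_assoc]
  have h5 := (h.dbl.act_eq_one tt u).2 h4
  rw [hu] at h5
  ext v
  exact congrArg (fun γ : MulAut (E × E) => ((γ (v, 1)).1 : G)) h5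

end H67.Wr
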