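import Cfsg.Agent.H99.WrT

/-! STD-H, the extraspecial case: `C_L(z)` normalises the first component of `R`. -/

set_option autoImplicit false
open Subgroup Cfsg H98 H1.Gold H99.Wr

universe u

namespace H67.Wr

variable {G : Type u} [Group G] [Finite G]

theorem le_of_index_two {G₀ L : Subgroup G} (h : G₀.index = 2) (h' : ¬ 2 ∣ G₀.relIndex L) :
    L ≤ G₀ := by
  haveI := normal_of_index_eq_two h
  have h1 := relIndex_dvd_index_of_normal G₀ L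
  rw [h] at h1
  rcases (Nat.dvd_prime Nat.prime_two).1 h1 with e | e
  · exact relIndex_eq_one.1 e
  · exact absurd (e ▸ dvd_rfl) h'

omit [Finite G] in
theorem one_of_two_mul {q o : G} (ho : Odd (orderOf o)) (hc : q * o = o * q)
    (hq : ∃ k, q ^ 2 ^ k = 1) (hqo : ∃ k, (q * o) ^ 2 ^ k = 1) : o = 1 := by
  obtain ⟨k, hk⟩ := hq
  obtain ⟨m, hm⟩ := hqo
  refine one_of_odd ho (k := k + m) ?_
  have := (show Commute q o from hc).mul_pow (2 ^ (k + m))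
  rw [pow_add, pow_mul q, hk, one_pow, one_mul, mul_comm (2 ^ k), pow_mul (q * o), hm,
    one_pow] at this
  rw [pow_add, mul_comm, ← this]

theorem jobEs : JobEs.{u} := by
  intro G _ _ t f z ρ L O S E E' E₁ Y₁ S₁ G₀ X R hC hF hD h1 h4 h5 hX hR
  have tt := hC.tt
  have hW := h4.wp hC
  have RS := hX.RS
  set R₁ := half t S₁ R with hR₁
  have hW₁ : Wp t R₁ R := hW.half_wp RS
  have R₁S : R₁ ≤ S₁ := inf_le_left
  haveI := normal_of_index_eq_two h5.idx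
  have SL : S ≤ L := hD.syl.le
  have LG : L ≤ G₀ := le_of_index_two h5.idx fun h => hD.syl.not_dvd_relIndex
    (h.trans (relIndex_dvd_of_le_left L (hW.B_le.trans h5.syl.le)))
  have OG : O ≤ G₀ := le_of_index_two h5.idx fun h =>
    (Nat.not_even_iff_odd.2 hC.odd) (even_iff_two_dvd.2 (h.trans (relIndex_dvd_card G₀ O)))
  obtain ⟨z₁, hz₁, ez⟩ := h1.dbl.sur z hR.zE
  have z₁S : z₁ ∈ S₁ := h4.ES hz₁
  have z₁R : z₁ ∈ R₁ := (hW.mem_half RS).2 ⟨z₁S, ez ▸ hR.zR⟩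
  have zz₁ : z₁ * z₁ = 1 := h1.dbl.el _ hz₁
  have zz : z * z = 1 := hD.el _ hR.zE
  have z₁1 : z₁ ≠ 1 := fun e => hR.z1 (by rw [← ez, e, dg_one])
  have Xz : ∀ x ∈ X, x * z = z * x := fun x hx => mem_cen1.1 (hR.cz ▸ hx).2
  have Xt : ∀ x ∈ X, x * t = t * x := fun x hx => hC.cL (hX.XL hx)
  have cS₁ : ∀ a ∈ S₁, a * z₁ = z₁ * a := fun a ha => hW.dg_inj (mul_mem ha z₁S) (mul_mem z₁S ha)
    (by rw [hW.dg_mul ha z₁S, hW.dg_mul z₁S ha, ez]; exact Xz _ (hX.SX (hW.dg_mem ha)))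
  have cT : ∀ a ∈ S₁ ⊔ cj t S₁, a * z₁ = z₁ * a := fun a ha => by
    obtain ⟨p, hp, q, hq, rfl⟩ := hW.mem_T.1 ha
    rw [mul_assoc, ← hW.c' z₁S hq, ← mul_assoc, cS₁ p hp, mul_assoc]
  have cO : ∀ o ∈ O, ∀ a ∈ S₁ ⊔ cj t S₁, o * a = a * o := fun o ho a ha => by
    obtain ⟨p, hp, q, hq, rfl⟩ := hW.mem_T.1 ha
    have c1 : Commute o t := hC.cO ho
    have c2 : ∀ p ∈ S₁, Commute o p := fun p hp => mem_cen.1 (h4.cenO hp) o ho
    exact (c2 p hp).mul_right ((c1.mul_right (c2 q hq)).mul_right c1.inv_right)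
  have dg1 : ∀ a ∈ S₁, dg t a = 1 ∨ dg t a = z → a = 1 ∨ a = z₁ := fun a ha h =>
    h.imp (fun e => hW.dg_inj ha (one_mem _) (by rw [e, dg_one]))
      fun e => hW.dg_inj ha z₁S (by rw [e, ez])
  set Z := zpowers z₁ ⊔ cj t (zpowers z₁) with hZ
  have ZS : zpowers z₁ ≤ S₁ := zpowers_le_of_mem z₁S
  have fixZ : ∀ x ∈ Z, x * t = t * x → x = 1 ∨ x = z := fun x hx hc => by
    obtain ⟨a, ha, b, hb, rfl⟩ := (hW.mem_pair ZS ZS).1 hx
    obtain ⟨c, hc', e⟩ := (hW.diag _).1 (hW.fix (hW.mem_T.2 ⟨a, ZS ha, b, ZS hb, rfl⟩) hc)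
    obtain ⟨rfl, -⟩ := hW.uniq hc' hc' (ZS ha) (ZS hb) e
    rw [← e]
    rcases (mem_zpowers_sq zz₁).1 ha with rfl | rfl
    · exact Or.inl (dg_one t)
    · exact Or.inr ez
  have elZ : El Z := hW.el_pair ZS ZS (el_zpowers zz₁) (el_zpowers zz₁)
  have ZT : Z ≤ S₁ ⊔ cj t S₁ := sup_le_sup ZS (cj_mono _ ZS)
  have z₁Z : z₁ ∈ Z := mem_sup_left (mem_zpowers _)
  have z₂Z : t * z₁ * t⁻¹ ∈ Z := mem_sup_right (conj_mem_cj (mem_zpowers _))
  have zZ : z ∈ Z := ez ▸ mul_mem z₁Z z₂Z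
  -- elements of `C(t) ∩ G₀` acting trivially on `R` modulo `Z`
  have self : ∀ k ∈ G₀, k * t = t * k → k * z = z * k → (∀ r ∈ R, k * r * k⁻¹ * r⁻¹ ∈ Z) →
      ∃ r ∈ R, ∃ o ∈ O, k = r * o := by
    intro k hk kt kz kr
    obtain ⟨o, ho, l, hl, e | e⟩ := hF k (mem_cen1.2 kt)
    · have oz := hC.cOL ho (SL (RS hR.zR))
      have lX : l ∈ X := by
        rw [hR.cz]
        refine ⟨hl, mem_cen1.2 (mul_left_cancel (a := o) ?_)⟩
        rw [← mul_assoc, ← e, kz, e, ← mul_assoc, ← mul_assoc, oz]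
      obtain ⟨r, hr, h2⟩ := hR.self l lX fun r hr => by
        have rL := SL (RS hr)
        have m : l * r * l⁻¹ ∈ L := mul_mem (mul_mem hl rL) (inv_mem hl)
        have e1 : k * r * k⁻¹ = l * r * l⁻¹ := by
          rw [e]
          calc _ = o * (l * r * l⁻¹) * o⁻¹ := by group
            _ = _ := cj_of_comm (hC.cOL ho m)
        have := kr r hr
        rw [e1] at this
        rcases fixZ _ this (hC.cL (mul_mem m (inv_mem rL))) with e2 | e2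
        · exact Or.inl (mul_inv_eq_one.1 e2)
        · exact Or.inr (by rw [mul_inv_eq_iff_eq_mul.1 e2, Xz r (hX.SX (RS hr))])
      have h3 := hC.zL ⟨mul_mem hl (SL (RS hr)), h2⟩
      refine ⟨r⁻¹, inv_mem hr, o * (l * r), mul_mem ho h3, ?_⟩
      rw [← hC.cOL (mul_mem ho h3) (inv_mem (SL (RS hr))), e]; group
    · exact absurd (by
        have := mul_mem hk (inv_mem (mul_mem (OG ho) (LG hl)))
        rwa [e, mul_inv_cancel_right] at this) h5.tG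
  have th₁ : z₁ * t * z₁⁻¹ = z * t := by
    rw [← ez, ← h1.dbl.th tt hz₁, mul_assoc _ t t, tt, mul_one]
  -- `X` centralises `z₁`
  have stepA : ∀ c ∈ X, c * z₁ * c⁻¹ = z₁ ∨ c * z₁ * c⁻¹ = z₁ * z := by
    intro c hc
    have e0 : c * z₁ * c⁻¹ * t * (c * z₁ * c⁻¹)⁻¹ = z * t := by
      calc _ = c * z₁ * (c⁻¹ * t * c) * z₁⁻¹ * c⁻¹ := by group
        _ = c * (z₁ * t * z₁⁻¹) * c⁻¹ := by rw [mul_assoc c⁻¹, ← Xt c hc]; group
        _ = _ := by rw [th₁, ← mul_assoc, Xz c hc, mul_assoc z, Xt c hc]; group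
    have cR : ∀ r ∈ R, c * z₁ * c⁻¹ * r = r * (c * z₁ * c⁻¹) := fun r hr => by
      have := cT _ (hW.B_le (RS (conj_mem_of_mem_normalizer' (hX.XR hc) hr)))
      calc _ = c * (z₁ * (c⁻¹ * r * c)) * c⁻¹ := by group
        _ = _ := by rw [← this]; group
    have kR : ∀ r ∈ R, z₁⁻¹ * (c * z₁ * c⁻¹) * r = r * (z₁⁻¹ * (c * z₁ * c⁻¹)) := fun r hr => by
      rw [mul_assoc, cR r hr, inv_of_sq zz₁, ← mul_assoc, ← cT _ (hW.B_le (RS hr)), mul_assoc]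
    obtain ⟨r, hr, o, ho, e⟩ := self (z₁⁻¹ * (c * z₁ * c⁻¹))
      (by simp only [mul_mem_iff_of_index_two h5.idx, inv_mem_iff]; tauto)
      (comm_of_cj (by
        calc _ = z₁⁻¹ * (c * z₁ * c⁻¹ * t * (c * z₁ * c⁻¹)⁻¹) * z₁ := by group
          _ = t := by rw [e0, ← th₁]; group))
      (kR z hR.zR) fun r hr => by
        rw [kR r hr, mul_inv_cancel_right, mul_inv_cancel]; exact one_mem Z
    have oR : ∀ r ∈ R, o * r = r * o := fun r hr => hC.cOL ho (SL (RS hr))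
    have hr' : r ∈ cen R := mem_cen.2 fun s hs => mul_right_cancel (b := o) (by
      rw [mul_assoc, ← e, ← kR s hs, e, mul_assoc, mul_assoc, oR s hs])
    have rr : r * r = 1 := by
      rcases hR.cenR r hr hr' with rfl | rfl
      exacts [one_mul 1, zz]
    have vv : c * z₁ * c⁻¹ * (c * z₁ * c⁻¹) = 1 := by
      calc _ = c * (z₁ * z₁) * c⁻¹ := by group
        _ = 1 := by rw [zz₁]; group
    have e' : c * z₁ * c⁻¹ = z₁ * r * o := by rw [mul_assoc z₁, ← e]; group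
    have o1 : o = 1 := one_of_two_mul (q := z₁ * r) (hC.oddO ho)
      (cO o ho _ (mul_mem (mem_sup_left z₁S) (hW.B_le (RS hr)))).symm
      ⟨1, by rw [pow_one, pow_two, mul_assoc, ← mul_assoc r, cT _ (hW.B_le (RS hr)), mul_assoc, rr,
        mul_one, zz₁]⟩ ⟨1, by rw [pow_one, pow_two, ← e', vv]⟩
    rw [o1, mul_one] at e'
    rcases hR.cenR r hr hr' with rfl | rfl
    · exact Or.inl (by rw [e', mul_one])
    · exact Or.inr e'
  have Xz₁ : ∀ x ∈ X, x * z₁ = z₁ * x := by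
    have := hX.gen (X ⊓ cen1 z₁) inf_le_left (fun x hx => mem_normalizer_of_cj_le (by
      rintro _ ⟨c, hc, rfl⟩
      refine ⟨X.mul_mem (X.mul_mem hx hc.1) (X.inv_mem hx), mem_cen1.2 ?_⟩
      change x * c * x⁻¹ * z₁ = z₁ * (x * c * x⁻¹)
      have e1 : c * (x⁻¹ * z₁ * x⁻¹⁻¹) = x⁻¹ * z₁ * x⁻¹⁻¹ * c := by
        rcases stepA _ (inv_mem hx) with e | e
        · rw [e]; exact mem_cen1.1 hc.2
        · rw [e, ← mul_assoc, mem_cen1.1 hc.2, mul_assoc, Xz c hc.1, mul_assoc]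
      calc _ = x * (c * (x⁻¹ * z₁ * x⁻¹⁻¹)) * x⁻¹ := by group
        _ = _ := by rw [e1]; group))
      fun s hs => ⟨hX.SX hs, mem_cen1.2 (cT s (hW.B_le hs))⟩
    intro x hx
    refine mem_cen1.1 ((sup_le inf_le_right fun o ho => ?_ : _ ≤ cen1 z₁) (this hx))
    exact mem_cen1.2 (cO o (hC.zL ho) _ (mem_sup_left z₁S))
  have XZ : ∀ x ∈ X, ∀ y ∈ Z, x * y = y * x := fun x hx y hy => by
    obtain ⟨a, ha, b, hb, rfl⟩ := (hW.mem_pair ZS ZS).1 hy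
    have c1 : Commute x t := Xt x hx
    have c2 : ∀ p ∈ zpowers z₁, Commute x p := fun p hp => by
      obtain ⟨n, rfl⟩ := mem_zpowers_iff.1 hp
      exact (show Commute x z₁ from Xz₁ x hx).zpow_right n
    exact (c2 a ha).mul_right ((c1.mul_right (c2 b hb)).mul_right c1.inv_right)
  have TZ : ∀ x ∈ S₁, ∀ y ∈ Z, x * y = y * x := fun x hx y hy => by
    obtain ⟨a, ha, b, hb, rfl⟩ := (hW.mem_pair ZS ZS).1 hy
    obtain ⟨n, rfl⟩ := mem_zpowers_iff.1 ha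
    exact ((show Commute x z₁ from cS₁ x hx).zpow_right n).mul_right (hW.c' hx (ZS hb))
  have sq₁ : ∀ a ∈ R₁, a * a ∈ zpowers z₁ := fun a ha => (mem_zpowers_sq zz₁).2
    (dg1 _ (R₁S (mul_mem ha ha)) (by rw [hW₁.dg_mul ha ha]; exact hR.sq _ (hW₁.dg_mem ha)))
  have cm₁ : ∀ a ∈ R₁, ∀ d ∈ R₁, a * d * a⁻¹ * d⁻¹ ∈ zpowers z₁ := fun a ha d hd =>
    (mem_zpowers_sq zz₁).2 (dg1 _ (R₁S (mul_mem (mul_mem (mul_mem ha hd) (inv_mem ha)) (inv_mem hd)))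
      (by
        rw [hW₁.dg_mul (mul_mem (mul_mem ha hd) (inv_mem ha)) (inv_mem hd), hW₁.dg_cj ha hd,
          hW₁.dg_inv hd]
        rcases hR.comm _ (hW₁.dg_mem ha) _ (hW₁.dg_mem hd) with e | e
        · left; rw [e]; group
        · right
          rw [e, mul_assoc (dg t d), Xz _ (hX.SX (RS (hW₁.dg_mem ha))), ← mul_assoc,
            Xz _ (hX.SX (RS (hW₁.dg_mem hd)))]
          group))
  have cm₂ : ∀ a ∈ R₁, ∀ w ∈ R₁ ⊔ cj t R₁, a * w * a⁻¹ * w⁻¹ ∈ zpowers z₁ := fun a ha w hw => by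
    obtain ⟨p, hp, q, hq, rfl⟩ := hW₁.mem_T.1 hw
    have : a * (p * (t * q * t⁻¹)) * a⁻¹ * (p * (t * q * t⁻¹))⁻¹ = a * p * a⁻¹ * p⁻¹ := by
      calc _ = a * p * (t * q * t⁻¹ * a⁻¹) * (t * q * t⁻¹)⁻¹ * p⁻¹ := by group
        _ = _ := by rw [← hW₁.c' (inv_mem ha) hq]; group
    rw [this]; exact cm₁ a ha p hp
  have QT : R₁ ⊔ cj t R₁ ≤ S₁ ⊔ cj t S₁ := sup_le_sup R₁S (cj_mono _ R₁S)
  have two : ∀ q ∈ S₁ ⊔ cj t S₁, ∃ k, q ^ 2 ^ k = 1 := isPGroup_iff_forall.1 (hW.two h4.two)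
  -- `X` normalises `R₁ R₂`
  have stepB : ∀ x ∈ X, ∀ a ∈ R₁, x * a * x⁻¹ ∈ R₁ ⊔ cj t R₁ := by
    intro x hx a ha
    obtain ⟨g, hg⟩ : ∃ g, g = x * a * x⁻¹ := ⟨_, rfl⟩
    rw [← hg]
    obtain ⟨b, hb, eb⟩ := (hW₁.diag _).1
      (conj_mem_of_mem_normalizer (hX.XR hx) (hW₁.dg_mem ha))
    have gZ : ∀ y ∈ Z, g * y = y * g := fun y hy => by
      have c1 : Commute x y := XZ x hx y hy
      rw [hg]
      exact (c1.mul_left (TZ a (R₁S ha) y hy)).mul_left c1.inv_left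
    have gR : ∀ r ∈ R, g * r * g⁻¹ * r⁻¹ ∈ zpowers z₁ := fun r hr => by
      have := cm₂ a ha _ (hW₁.B_le (conj_mem_of_mem_normalizer' (hX.XR hx) hr))
      have e : g * r * g⁻¹ * r⁻¹ = x * (a * (x⁻¹ * r * x) * a⁻¹ * (x⁻¹ * r * x)⁻¹) * x⁻¹ := by
        rw [hg]; group
      rw [e, cj_of_comm (XZ x hx _ (mem_sup_left this))]
      exact this
    have thZ : b⁻¹ * g * t * (b⁻¹ * g)⁻¹ * t ∈ Z := by
      have m : t * (a * a)⁻¹ * t⁻¹ ∈ Z := mem_sup_right (conj_mem_cj (inv_mem (sq₁ a ha)))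
      have e1 : g * t * g⁻¹ * t = dg t b * (t * (a * a)⁻¹ * t⁻¹) := by
        rw [eb, ← cj_of_comm (XZ x hx _ m), hg, dg, hC.tinv]
        calc _ = x * a * (x⁻¹ * t) * x * a⁻¹ * (x⁻¹ * t) := by group
          _ = x * (a * t * a⁻¹ * t) * x⁻¹ := by rw [Xt _ (inv_mem hx)]; group
          _ = x * (a * t * a * (t * t) * (a * a)⁻¹ * t) * x⁻¹ := by rw [tt]; group
          _ = _ := by group
      have e2 : b⁻¹ * g * t * (b⁻¹ * g)⁻¹ * t =
          t * (a * a)⁻¹ * t⁻¹ * (t * (b * b) * t⁻¹) := by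
        calc _ = b⁻¹ * (g * t * g⁻¹ * t) * (t * b * t⁻¹) := by
              rw [hC.tinv]
              calc _ = b⁻¹ * g * t * g⁻¹ * 1 * b * t := by group
                _ = _ := by rw [← tt]; group
          _ = t * b * t⁻¹ * (t * (a * a)⁻¹ * t⁻¹) * (t * b * t⁻¹) := by rw [e1, dg]; group
          _ = t * (b * (a * a)⁻¹ * b) * t⁻¹ := by group
          _ = _ := by rw [TZ b (R₁S hb) _ (mem_sup_left (inv_mem (sq₁ a ha)))]; group
      rw [e2]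
      exact mul_mem m (mem_sup_right (conj_mem_cj (sq₁ b hb)))
    obtain ⟨y, hy, hyt⟩ : ∃ y ∈ zpowers z₁, y * (b⁻¹ * g) * t = t * (y * (b⁻¹ * g)) := by
      have inv : b⁻¹ * g * t * (b⁻¹ * g)⁻¹ * t * t = t * (b⁻¹ * g * t * (b⁻¹ * g)⁻¹ * t) := by
        nth_rewrite 2 [← inv_of_sq (elZ _ thZ)]
        simp only [mul_inv_rev, inv_inv, hC.tinv, mul_assoc, tt, mul_one]
        rw [← mul_assoc t t, tt, one_mul]
      rcases fixZ _ thZ inv with e | e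
      · exact ⟨1, one_mem _, by rw [one_mul]; exact comm_of_cj (by
          rw [← hC.tinv, ← mul_eq_one_iff_eq_inv, hC.tinv]; exact e)⟩
      · refine ⟨z₁, mem_zpowers _, comm_of_cj ?_⟩
        calc _ = z₁ * (b⁻¹ * g * t * (b⁻¹ * g)⁻¹ * t) * z₁⁻¹ * (z₁ * t⁻¹ * z₁⁻¹) := by group
          _ = t := by
            rw [e, hC.tinv, th₁, cj_of_comm (TZ _ z₁S _ zZ), ← mul_assoc, zz, one_mul]
    have yR : y ∈ R₁ := zpowers_le_of_mem z₁R hy
    have gG : g ∈ G₀ := hg ▸ Normal.conj_mem inferInstance _ (h5.syl.le (mem_sup_left (R₁S ha))) x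
    obtain ⟨r, hr, o, ho, e⟩ := self (y * (b⁻¹ * g))
      (mul_mem (h5.syl.le (mem_sup_left (R₁S yR)))
        (mul_mem (h5.syl.le (mem_sup_left (R₁S (inv_mem hb)))) gG)) hyt
      (((show Commute y z from TZ _ (R₁S yR) _ zZ).mul_left
        ((show Commute b⁻¹ z from TZ _ (R₁S (inv_mem hb)) _ zZ).mul_left (gZ z zZ))))
      fun r hr => by
        have m1 := gR r hr
        have m2 := cm₂ _ (mul_mem yR (inv_mem hb)) _ (hW₁.B_le hr)
        have e : y * (b⁻¹ * g) * r * (y * (b⁻¹ * g))⁻¹ * r⁻¹ = y * b⁻¹ * (g * r * g⁻¹ * r⁻¹) *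
            (y * b⁻¹)⁻¹ * (y * b⁻¹ * r * (y * b⁻¹)⁻¹ * r⁻¹) := by group
        rw [e, cj_of_comm (TZ _ (R₁S (mul_mem yR (inv_mem hb))) _ (mem_sup_left m1))]
        exact mem_sup_left (mul_mem m1 m2)
    have q : b * y⁻¹ * r ∈ R₁ ⊔ cj t R₁ :=
      mul_mem (mem_sup_left (mul_mem hb (inv_mem yR))) (hW₁.B_le hr)
    have e' : g = b * y⁻¹ * r * o := by rw [mul_assoc _ r, ← e]; group
    have o1 : o = 1 := one_of_two_mul (hC.oddO ho) (cO o ho _ (QT q)).symm (two _ (QT q)) (by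
      obtain ⟨k, hk⟩ := two a (mem_sup_left (R₁S ha))
      exact ⟨k, by rw [← e', hg, conj_pow, hk]; group⟩)
    rw [e', o1, mul_one]; exact q
  have XQ : X ≤ nor (R₁ ⊔ cj t R₁) := fun x hx => mem_normalizer_of_cj_le (by
    rintro _ ⟨w, hw, rfl⟩
    obtain ⟨p, hp, q, hq, rfl⟩ := hW₁.mem_T.1 hw
    change x * (p * (t * q * t⁻¹)) * x⁻¹ ∈ _
    have : x * (p * (t * q * t⁻¹)) * x⁻¹ = x * p * x⁻¹ * (t * (x * q * x⁻¹) * t⁻¹) := by
      calc _ = x * p * x⁻¹ * (x * t * q * (x * t)⁻¹) := by group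
        _ = _ := by rw [Xt x hx]; group
    rw [this]
    exact mul_mem (stepB x hx p hp) (conj_mem_of_mem_normalizer (t_mem_nor tt R₁) (stepB x hx q hq)))
  have stepC : ∀ x ∈ X, ∀ a ∈ R₁, ∃ p ∈ R₁, ∃ q ∈ zpowers z₁,
      x * a * x⁻¹ = p * (t * q * t⁻¹) := by
    intro x hx a ha
    obtain ⟨p, hp, q, hq, e⟩ := hW₁.mem_T.1 (stepB x hx a ha)
    refine ⟨p, hp, q, (mem_zpowers_sq zz₁).2 (dg1 q (R₁S hq) (hR.cenR _ (hW₁.dg_mem hq) ?_)), e⟩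
    rw [mem_cen]
    intro r hr
    obtain ⟨d, hd, rfl⟩ := (hW₁.diag r).1 hr
    rw [← hW₁.dg_mul hd hq, ← hW₁.dg_mul hq hd]
    congr 1
    have m := cm₂ a ha _ (conj_mem_of_mem_normalizer' (XQ hx) (mem_sup_right (conj_mem_cj hd)))
    have e1 : t * (q * d * q⁻¹ * d⁻¹) * t⁻¹ = a * (x⁻¹ * (t * d * t⁻¹) * x) * a⁻¹ *
        (x⁻¹ * (t * d * t⁻¹) * x)⁻¹ := by
      rw [← cj_of_comm (XZ x hx _ (mem_sup_left m))]
      calc _ = p⁻¹ * (p * (t * (q * d * q⁻¹) * t⁻¹)) * (t * d * t⁻¹)⁻¹ := by group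
        _ = p * (t * (q * d * q⁻¹) * t⁻¹) * p⁻¹ * (t * d * t⁻¹)⁻¹ := by
          rw [hW₁.c' hp (mul_mem (mul_mem hq hd) (inv_mem hq)), ← mul_assoc p⁻¹,
            hW₁.c' (inv_mem hp) (mul_mem (mul_mem hq hd) (inv_mem hq))]
          group
        _ = p * (t * q * t⁻¹) * (t * d * t⁻¹) * (p * (t * q * t⁻¹))⁻¹ * (t * d * t⁻¹)⁻¹ := by group
        _ = _ := by rw [← e]; group
    have m2 : t * (q * d * q⁻¹ * d⁻¹) * t⁻¹ ∈ S₁ ⊓ cj t S₁ :=
      ⟨e1 ▸ ZS m, conj_mem_cj (ZS (cm₁ q hq d hd))⟩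
    rw [hW.bot, mem_bot, conj_eq_one_iff, mul_inv_eq_one, mul_inv_eq_iff_eq_mul] at m2
    exact m2.symm
  have BR : X ⊓ nor E ≤ nor R₁ := fun c hc => mem_normalizer_of_cj_le (by
    rintro _ ⟨a, ha, rfl⟩
    change c * a * c⁻¹ ∈ R₁
    obtain ⟨p, hp, q, hq, e⟩ := stepC c hc.1 a ha
    obtain ⟨y, hy, o, ho, ec⟩ := h4.dblN c ⟨hX.XL hc.1, hc.2⟩
    have aY := h4.SY (R₁S ha)
    have m : c * a * c⁻¹ ∈ Y₁ := by
      have : c * a * c⁻¹ = y * a * y⁻¹ := by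
        calc _ = y * (t * y * t⁻¹ * (o * a * o⁻¹) * (t * y * t⁻¹)⁻¹) * y⁻¹ := by rw [ec, dg]; group
          _ = _ := by
            rw [cj_of_comm (cO o ho a (mem_sup_left (R₁S ha))),
              cj_of_comm (h4.comm a aY _ (conj_mem_cj hy)).symm]
      rw [this]; exact mul_mem (mul_mem hy aY) (inv_mem hy)
    have m2 : t * q * t⁻¹ ∈ Y₁ := by
      have := mul_mem (inv_mem (h4.SY (R₁S hp))) m
      rwa [e, inv_mul_cancel_left] at this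
    have := one_of_odd_sq (h4.inter _ m2 (conj_mem_cj (h4.SY (ZS hq))))
      (elZ _ (mem_sup_right (conj_mem_cj hq)))
    rw [e, this, mul_one]; exact hp)
  have gen : R₁ ≤ ⁅R₁, zpowers ρ⁆ := by
    have hle : ⁅R₁, zpowers ρ⁆ ≤ R₁ := commutator_le.2 fun a ha g hg => by
      rw [commutatorElement_def, mul_assoc, mul_assoc, ← mul_assoc g]
      exact mul_mem ha (conj_mem_of_mem_normalizer (BR (zpowers_le_of_mem hR.ρX hg)) (inv_mem ha))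
    obtain ⟨D, -, -, hD'⟩ := hW₁.exists_diag hle
    have : R ≤ D := hR.ρgen.trans (commutator_le.2 fun r hr g hg => by
      obtain ⟨a, ha, rfl⟩ := (hW₁.diag r).1 hr
      have gB := zpowers_le_of_mem hR.ρX hg
      refine (hD' _).2 ⟨_, commutator_mem_commutator ha hg, ?_⟩
      rw [commutatorElement_def, commutatorElement_def, mul_assoc, mul_assoc, ← mul_assoc g,
        hW₁.dg_mul ha (conj_mem_of_mem_normalizer (BR gB) (inv_mem ha)), dg_conj (Xt g gB.1),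
        hW₁.dg_inv ha]
      group)
    intro a ha
    obtain ⟨b, hb, e⟩ := (hD' _).1 (this (hW₁.dg_mem ha))
    exact hW₁.dg_inj (hle hb) ha e ▸ hb
  have RB : R ⊔ zpowers ρ ≤ X ⊓ nor E :=
    sup_le (fun r hr => ⟨hX.SX (RS hr), hD.SN (RS hr)⟩) (zpowers_le_of_mem hR.ρX)
  intro x hx
  refine mem_normalizer_of_cj_le ((cj_mono x gen).trans ?_)
  rw [cj_commutator, commutator_le]
  rintro _ ⟨a, ha, rfl⟩ g hg
  have gB := RB (cj_le_of_le le_sup_right (hR.ρnor hx) hg)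
  obtain ⟨p, hp, q, hq, e⟩ := stepC x hx a ha
  change x * a * x⁻¹ * g * (x * a * x⁻¹)⁻¹ * g⁻¹ ∈ R₁
  have : x * a * x⁻¹ * g * (x * a * x⁻¹)⁻¹ * g⁻¹ = p * (g * p⁻¹ * g⁻¹) := by
    calc _ = p * (t * q * t⁻¹ * g * (t * q * t⁻¹)⁻¹) * p⁻¹ * g⁻¹ := by rw [e]; group
      _ = _ := by
        rw [cj_of_comm (XZ g gB.1 _ (mem_sup_right (conj_mem_cj hq))).symm]; group
  rw [this]
  exact mul_mem hp (conj_mem_of_mem_normalizer (BR gB) (inv_mem hp))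

end H67.Wr
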