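import Cfsg.Agent.H67.SPSpec
import Cfsg.Agent.H86.WRNU

/-! STD-SP (row S3129), the wreath endgame: spec.  Proof notes: `blueprints/STDSPW.md`.
The ambient slots are type-free: they only use the record `WG`. -/

set_option autoImplicit false
set_option linter.unusedSectionVars false

namespace H67.SW

open H64.SG (O2 Syl Cz Cs Ns Is2 Inv2 UF IsO2 fx)
open H67.SA (St cI cm)
open H59.SO (NS AutOn Ind B1 CE CW EB W0 two G12)
open H86.WR (FD GW)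
open Subgroup

universe u

export H64.SG (cjs)

section Rec

variable {X : Type} [Group X] (U D A : Subgroup X)

/-- `U` is generated by involutions in invariant subgroups of class at most `2`. -/
def CL : Prop :=
  U ≤ closure {x | x * x = 1 ∧ ∃ N ≤ U, x ∈ N ∧ St U ≤ St N ∧ ⁅⁅N, N⁆, N⁆ = ⊥}

/-- `U` and `[U, β]`, `β` not induced by `U`, have class at least `3`. -/
def UB : Prop := ⁅⁅U, U⁆, U⁆ ≠ ⊥ ∧ ∀ β ∈ St U, Is2 β → β ∉ cI U → ∀ N : Subgroup X,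
  (∀ u ∈ U, β u * u⁻¹ ∈ N) → ⁅⁅N, N⁆, N⁆ ≠ ⊥

def TOP : Prop := closure {g | ∃ u ∈ U, ∃ p, (p ∈ Ns D ∨ p ∈ Ns A) ∧ g = p * u * p⁻¹} = ⊤

/-- Inner involutions centralise large `2`-subgroups. -/
def SZ : Prop := ∀ g : X, g * g = 1 → ∃ P ≤ Cz g, IsPGroup 2 P ∧
  (2 * Nat.card (Cfsg.Out X)) ^ 2 * Nat.card U < Nat.card P ^ 2

/-- Outer involutions. -/
def FT : Prop := ∀ β : MulAut X, β * β = 1 → (∀ g, β ≠ MulAut.conj g) →
  fx β ≤ ⁅fx β, fx β⁆ ∧ ∃ P ≤ fx β, IsPGroup 2 P ∧ Nat.card U ≤ Nat.card P ^ 2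

variable (X) in
def OC : Prop := ∀ y : X, Inv2 y → ∀ O ≤ Cz y, Odd (Nat.card O) → Cz y ≤ Ns O → O = ⊥

/-- `U` has no automorphism of odd order. -/
def NO : Prop := ∀ (θ : X → X) (m : ℕ), AutOn U θ → Odd m → (∀ u ∈ U, θ^[m] u = u) → ∀ u ∈ U, θ u = u

/-- Torus elements that move a given central element. -/
def TO : Prop := ∀ z ∈ U ⊓ Cs U, z ≠ 1 → ∃ h ∈ Ns U, Odd (orderOf h) ∧ h * z ≠ z * h ∧
  ∀ θ, AutOn U θ → ∀ β : MulAut X, (∀ y ∈ U ⊓ Cs U, h * y = y * h → β (θ y) = θ y) →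
    ∃ g, β = MulAut.conj g

/-- `R` is characteristic in `U`. -/
def Ch (R : Subgroup X) : Prop := ∀ θ, AutOn U θ → ∀ u ∈ R, θ u ∈ R

/-- The elementary facts. -/
structure WA : Prop where
  le : D ≤ U ∧ A ≤ U
  sq : ∀ u ∈ D, u * u = 1
  big : 2 < Nat.card D
  zd : U ⊓ Cs U ≤ ⁅U, U⁆
  zc : Nat.card ↥(U ⊓ Cs U) ^ 2 < Nat.card U
  ct : ∀ R, R = D ∨ R = A → ∀ β : MulAut X, (∀ u ∈ R, β u = u) →
    ∃ ζ ∈ R, ζ * ζ = 1 ∧ β = MulAut.conj ζ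

/-- All facts on `X`. -/
structure WG : Prop extends WA U D A where
  ns : NS X
  syl : Syl U ⊤
  a3 : ∀ α : MulAut X, Is2 α → α ∈ O2 (⊤ : Subgroup (MulAut X)) → ∃ g, α = MulAut.conj g
  chD : Ch U D
  chA : Ch U A
  cl : CL U
  ub : UB U
  top : TOP U D A
  sz : SZ U
  ft : FT U
  ind : FD U
  oc : OC X
  tor : NO U ∨ TO U

variable {G : Type u} [Group G]

/-- The stabiliser of the chain `U* > Z* > 1` lies in `M`; its elements of odd order centralise `U*`. -/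
def N2 (e₁ e₂ : X →* G) : Prop := ∀ g, (∀ x ∈ two e₁ e₂ U, cm g x ∈ two e₁ e₂ (U ⊓ Cs U)) →
  g ∈ Cs (two e₁ e₂ (U ⊓ Cs U)) → g ∈ Ns (G12 e₁ e₂) ∧ (Odd (orderOf g) → g ∈ Cs (two e₁ e₂ U))

/-- An element of odd order that normalises `U₁ Z₂` and `U₂ Z₁` normalises `U₁` and `U₂`. -/
def NK (e₁ e₂ : X →* G) : Prop := ∀ n ∈ Ns (two e₁ e₂ U), Odd (orderOf n) →
  cjs n (U.map e₁) ≤ H86.WR.EE U e₁ e₂ → cjs n (U.map e₂) ≤ H86.WR.EE U e₂ e₁ →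
    n ∈ Ns (U.map e₁) ∧ n ∈ Ns (U.map e₂)

end Rec

section WG

variable {X : Type} [Group X] [Finite X] {U D A R : Subgroup X} (h : WG U D A)
include h

theorem WG.leU (hR : R = D ∨ R = A) : R ≤ U := by
  rcases hR with rfl | rfl
  exacts [h.le.1, h.le.2]

theorem WG.invR (hR : R = D ∨ R = A) {θ : X → X} (a : AutOn U θ) : ∀ u ∈ R, θ u ∈ R := by
  rcases hR with rfl | rfl
  exacts [h.chD θ a, h.chA θ a]

theorem WG.nor (hR : R = D ∨ R = A) : Ns U ≤ Ns R := fun _ hu => H98.mem_normalizer_of_cj_le (by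
  rintro _ ⟨a, ha, rfl⟩; exact h.invR hR (H86.WR.autOn_conj hu) a ha)

theorem WG.st (hR : R = D ∨ R = A) : St U ≤ St R := fun _ hβ =>
  H67.SA.mem_St_of_finite (h.invR hR (H86.WR.autOn_St hβ))

theorem WG.exD : ∃ y ∈ D, Inv2 y := by
  by_contra! k
  have := h.big
  rw [(eq_bot_iff_forall _).2 fun y hy => by_contra fun e => k y hy ⟨h.sq y hy, e⟩, card_bot] at this
  omega

theorem WG.abD : D ≤ Cs D := fun a ha b hb => by
  rw [← inv_eq_of_mul_eq_one_right (h.sq _ (mul_mem hb ha)), mul_inv_rev,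
    inv_eq_of_mul_eq_one_right (h.sq a ha), inv_eq_of_mul_eq_one_right (h.sq b hb)]

theorem WG.cenR (hR : R = D ∨ R = A) {z : X} (h2 : z ∈ Cs U) : z ∈ R := by
  obtain ⟨ζ, h3, -, h4⟩ := h.ct R hR (MulAut.conj z) fun u hu => by
    rw [MulAut.conj_apply, ← h2 u (h.leU hR hu), mul_inv_cancel_right]
  rwa [h.ns.conj_inj h4]

theorem WG.exZ : ∃ z ∈ U, z ≠ 1 ∧ z ∈ Cs U := by
  obtain ⟨y, y1, y2⟩ := h.exD
  have : Nontrivial U := ⟨⟨⟨y, h.le.1 y1⟩, 1, fun e => y2.2 (congrArg Subtype.val e)⟩⟩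
  obtain ⟨⟨z, hz⟩, h2⟩ := (nontrivial_iff_exists_ne 1).1 h.syl.2.1.center_nontrivial
  exact ⟨z, z.2, fun e => h2 (Subtype.ext (Subtype.ext e)), fun a ha =>
    congrArg Subtype.val (mem_center_iff.1 hz ⟨a, ha⟩)⟩

end WG

/-- A statement in the wreath case. -/
def AllW (P : ∀ (X : Type) [Group X] (G : Type u) [Group G],
    Subgroup X → Subgroup X → Subgroup X → (X →* G) → G → (X →* G) → (X →* G) → Prop) : Prop :=
  ∀ (X : Type) [Group X] [Finite X] (U D A : Subgroup X), WG U D A →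
    ∀ (G : Type u) [Group G] [Finite G] (e : X →* G) (t : G), CE e t →
      ∀ e₁ e₂ : X →* G, CW e t e₁ e₂ → P X G U D A e t e₁ e₂

theorem w0 : AllW.{u} fun _ _ _ _ _ _ _ _ t e₁ e₂ => W0 t e₁ e₂ := by
  intro X _ _ U D A w G _ _ e t h e₁ e₂ c
  obtain ⟨y, -, y2⟩ := w.exD
  refine H86.WR.w0 w.ns ⟨y, y2⟩ c h fun g f hf => ?_
  rw [← H59.SO.range_cje]
  refine H4.SFAB.pf0 w.a3 (h.cje g).b0 hf ?_
  rw [MonoidHom.range_eq_map, ← map_commutator]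
  exact map_mono w.ns.perfect

/-- The elements of `T ∩ M` swap. -/
def JobSW : Prop := AllW.{u} fun _ _ _ _ _ _ _ _ t e₁ e₂ =>
  ∀ s ∈ Ns (G12 e₁ e₂), IsConj t s → cjs s e₁.range = e₂.range

def JobWU : Prop := JobSW.{u} → AllW.{u} fun _ _ _ _ _ D A e t e₁ e₂ => GW D A e t e₁ e₂

/-- Case I: `U* ≤ W`. -/
def JobW1 : Prop := AllW.{u} fun _ _ G _ U D A e t e₁ e₂ => GW D A e t e₁ e₂ → ∀ W : Subgroup G,
  IsPGroup 2 W → W ≤ Ns (G12 e₁ e₂) → two e₁ e₂ U ≤ W → Ns W ≤ Ns (two e₁ e₂ U)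

def JobN2 : Prop := AllW.{u} fun _ _ _ _ U D A e t e₁ e₂ => GW D A e t e₁ e₂ → N2 U e₁ e₂

def JobNK : Prop := AllW.{u} fun _ _ _ _ U D A e t e₁ e₂ => GW D A e t e₁ e₂ → N2 U e₁ e₂ →
  NK U e₁ e₂

def JobNU : Prop := AllW.{u} fun _ _ _ _ U D A e t e₁ e₂ => GW D A e t e₁ e₂ → NK U e₁ e₂ →
  Ns (two e₁ e₂ U) ≤ Ns (G12 e₁ e₂)

/-- Case II: the centraliser of `d = y t`. -/
def JobW3 : Prop := AllW.{u} fun _ _ _ _ _ D A e t e₁ e₂ => GW D A e t e₁ e₂ →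
  ∀ y ∈ D, y ≠ 1 → Cz (e₁ y * t) ≤ Ns (G12 e₁ e₂)

def JobWE : Prop := JobSW.{u} → JobWU.{u} → JobW1.{u} → JobN2.{u} → JobNK.{u} → JobNU.{u} →
  JobW3.{u} → AllW.{u} fun _ _ _ _ _ _ _ _ _ e₁ e₂ => Ns (G12 e₁ e₂) = ⊤

/-! ### `X = Sp_(2k)(q)` -/

open H67.SP H67.UA

section Sp

variable (n : ℕ) (F : Type) [Field F] [StarRing F] [TrivialStar F] [CharP F 2] [Finite F]

/-- `D = M_k` -/
abbrev DD : Subgroup (XU n F) := Mk n F (kk n)
/-- `A = Q_(k-1)` -/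
abbrev AA : Subgroup (XU n F) := Qk n F (kk n - 1)

/-- `Z_l`, `Z_s`, `M₂` are characteristic. -/
def C2 : Prop := Ch (UU n F) (ZL n F) ∧ Ch (UU n F) (ZS n F) ∧ Ch (UU n F) (Mk n F 2)
/-- All `M_j` are characteristic. -/
def CM : Prop := ∀ j, 2 ≤ j → j ≤ kk n → Ch (UU n F) (Mk n F j)

end Sp

/-- A statement that may use `Base`, `FC`, `FO`. -/
def AllX (P : ∀ (_ : ℕ) (F : Type) [Field F] [StarRing F] [TrivialStar F] [CharP F 2] [Finite F],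
    Prop) : Prop :=
  AllB fun n F _ _ _ _ _ => FC n F → FO n F → P n F

def JobWA : Prop := AllX fun n F _ _ _ _ _ => WA (UU n F) (DD n F) (AA n F)
def JobCL : Prop := AllX fun n F _ _ _ _ _ => CL (UU n F)
def JobUB : Prop := AllX fun n F _ _ _ _ _ => UB (UU n F)
def JobTP : Prop := AllX fun n F _ _ _ _ _ => TOP (UU n F) (DD n F) (AA n F)
def JobSZ : Prop := AllX fun n F _ _ _ _ _ => SZ (UU n F)
def JobFT : Prop := AllX fun n F _ _ _ _ _ => FT (UU n F)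
def JobFD : Prop := AllX fun n F _ _ _ _ _ => FD (UU n F)
def JobOC : Prop := AllX fun n F _ _ _ _ _ => OC (XU n F)
def JobCZ : Prop := AllX fun n F _ _ _ _ _ => Ch (UU n F) (ZL n F)
def JobC2 : Prop := AllX fun n F _ _ _ _ _ => Ch (UU n F) (ZL n F) → C2 n F
def JobCM : Prop := AllX fun n F _ _ _ _ _ => C2 n F → CM n F
def JobCA : Prop := AllX fun n F _ _ _ _ _ => CM n F → Ch (UU n F) (AA n F)
def JobNO : Prop := AllX fun n F _ _ _ _ _ => C2 n F → CM n F → Nat.card F = 2 → NO (UU n F)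
def JobTO : Prop := AllX fun n F _ _ _ _ _ => C2 n F → Nat.card F ≠ 2 → TO (UU n F)

/-- The wreath endgame. -/
def JobWR : Prop := AllA.{u} fun n F _ _ _ _ _ G _ e t => FO n F → CE e t →
  ∀ e₁ e₂ : XU n F →* G, CW e t e₁ e₂ → Ns (G12 e₁ e₂) = ⊤

/-- The slots. -/
structure Sl : Prop where
  sw : JobSW.{u}
  wu : JobWU.{u}
  w1 : JobW1.{u}
  n2 : JobN2.{u}
  nk : JobNK.{u}
  nu : JobNU.{u}
  w3 : JobW3.{u}
  we : JobWE.{u}
  wa : JobWA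
  cl : JobCL
  ub : JobUB
  tp : JobTP
  sz : JobSZ
  ft : JobFT
  fd : JobFD
  oc : JobOC
  cz : JobCZ
  c2 : JobC2
  cm : JobCM
  ca : JobCA
  no : JobNO
  tr : JobTO

theorem Sl.jobWR (S : Sl.{u}) : JobWR.{u} := by
  intro n F _ _ _ _ _ p G _ _ e t b c o h e₁ e₂ w
  have : Finite (XU n F) := Finite.of_injective _ h.inj
  have c2 := S.c2 n F b c o (S.cz n F b c o)
  have cm := S.cm n F b c o c2
  have k3 : 2 ≤ kk n := by have := p.five; unfold kk; omega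
  refine S.we S.sw S.wu S.w1 S.n2 S.nk S.nu S.w3 _ _ _ _ ⟨S.wa n F b c o, FA.ns, FW.sylU, FA.a3,
    cm _ k3 le_rfl, S.ca n F b c o cm, S.cl n F b c o, S.ub n F b c o, S.tp n F b c o,
    S.sz n F b c o, S.ft n F b c o, S.fd n F b c o, S.oc n F b c o, ?_⟩ G e t h e₁ e₂ w
  by_cases h2 : Nat.card F = 2
  exacts [Or.inl (S.no n F b c o c2 cm h2), Or.inr (S.tr n F b c o c2 h2)]

end H67.SW
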