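/- Graded rigidity for the centralizer of a central involution in the large Ree groups. -/
import Cfsg.Agent.H63.OcSpec
import Cfsg.Agent.H85.OddAut

set_option autoImplicit false
set_option linter.unusedSectionVars false
set_option linter.unusedSimpArgs false

open Subgroup H63.Oc

universe u v

namespace H67.Oc

variable {K : Type v} [Field K] [CharP K 2] {T : TF K}

theorem mem_R {F : Subgroup (Co T)} {c : Co T} (hc : c ∈ sR T) (h2 : x2 T c.a2 ∈ F)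
    (h3 : x3 T c.a3 ∈ F) (hy : y4 T c.b4 ∈ F) (h4 : x4 T c.a4 ∈ F) (h5 : x5 T c.a5 ∈ F)
    (h6 : x6 T c.a6 ∈ F) : c ∈ F := by
  have : c = x2 T c.a2 * x3 T c.a3 * y4 T c.b4 * x4 T c.a4 * x5 T c.a5 * x6 T c.a6 := by
    obtain ⟨a, b, d, e, f, g⟩ := hc
    ext <;> simp [x2, x3, y4, x4, x5, x6, *]
  rw [this]
  exact mul_mem (mul_mem (mul_mem (mul_mem (mul_mem h2 h3) hy) h4) h5) h6

theorem conjV {c v w : Co T} (h : c * v = w * c) (hv : v ∈ sV T) (hw : w ∈ sV T) :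
    w.a2 = v.a2 ∧ w.a3 = v.a3 + c.b8 * v.a2 ∧
    w.a5 = v.a5 + c.a8 * v.a2 + T.σ c.b8 * v.a3 + c.b8 * T.σ c.b8 * v.a2 ∧
    (v.a2 = 0 → w.a6 = v.a6 + c.a8 * v.a3 + c.b8 * v.a5) := by
  have h2 := congrArg Co.a2 h
  have h3 := congrArg Co.a3 h
  have h5 := congrArg Co.a5 h
  have h6 := congrArg Co.a6 h
  obtain ⟨a1, a2, a3, a4, a5, a6, a7⟩ := hv
  obtain ⟨b1, b2, b3, b4, b5, b6, b7⟩ := hw
  simp only [Co.mul_a2, Co.mul_a3, Co.mul_a5, Co.mul_a6, a1, a2, a3, a4, a5, a6, a7, b1, b2, b3, b4,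
    b5, b6, b7, map_zero, mul_zero, zero_mul, add_zero, ne_eq, OfNat.ofNat_ne_zero,
    not_false_eq_true, zero_pow] at h2 h3 h5 h6
  refine ⟨by linear_combination -h2, by linear_combination -h3, by linear_combination -h5,
    fun e => ?_⟩
  rw [e] at h6
  linear_combination -h6

theorem mulV {v w : Co T} (hv : v ∈ sR T) (hw : w ∈ sV T) : (v * w).a2 = v.a2 + w.a2 ∧
    (v * w).a3 = v.a3 + w.a3 ∧ (v * w).a5 = v.a5 + w.a5 ∧ (v * w).a6 = v.a6 + w.a6 := by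
  obtain ⟨a1, a2, a4, a5, a6, a7⟩ := hv
  obtain ⟨b1, b2, b3, b4, b5, b6, b7⟩ := hw
  simp [*]

theorem V_le_R : sV T ≤ sR T := fun _ ⟨a, b, _, d, e, f, g⟩ => ⟨a, b, d, e, f, g⟩

theorem cenV {c : Co T} (h : ∀ v ∈ sV T, c * v = v * c) : c ∈ sR T := by
  have h6 := congrArg Co.a4 (h (x6 T 1) (by simp [mem_sV, x6]))
  have h5 := h (x5 T 1) (by simp [mem_sV, x5])
  have h3 := h (x3 T 1) (by simp [mem_sV, x3])
  have h2 := congrArg Co.a4 (h (x2 T 1) (by simp [mem_sV, x2]))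
  have h54 := congrArg Co.a4 h5
  have h56 := congrArg Co.a6 h5
  have h34 := congrArg Co.a4 h3
  have h36 := congrArg Co.a6 h3
  simp [x6, x5] at h6 h54 h56
  simp [x3, h6, h54, h56] at h36
  simp [x3, x2, h6, h54, h56, h36] at h34 h2
  exact ⟨h6, h54, h34, h2, h56, h36⟩

theorem V_conj (y : Co T) {v : Co T} (hv : v ∈ sV T) : y * v * y⁻¹ ∈ sV T := by
  obtain ⟨b1, b2, b3, b4, b5, b6, b7⟩ := hv
  refine ⟨?_, ?_, ?_, ?_, ?_, ?_, ?_⟩ <;> simp [*, T.sq] <;> grind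

theorem R_pow {c : Co T} (hc : c ∈ sR T) : c ^ 2 ^ 2 = 1 := by
  have : c * c = x4 T (c.b4 * T.σ c.b4) := by
    obtain ⟨a, b, d, e, f, g⟩ := hc
    ext <;> simp [x4, *, CharTwo.add_self_eq_zero]
  rw [show 2 ^ 2 = 2 * 2 by rfl, pow_mul, sq c, this, sq]
  ext <;> simp [x4, CharTwo.add_self_eq_zero]

set_option maxHeartbeats 800000 in
theorem core (f : Co T →* Co T) (hf : ∀ y, y⁻¹ * f y ∈ sR T → f (y⁻¹ * f y) = y⁻¹ * f y → f y = y)
    (h4 : ∀ t, f (x4 T t) = x4 T t) (h6 : ∀ t, ∃ r, f (x6 T t) = ww T t r)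
    (hV : ∀ c ∈ sV T, f c ∈ sV T) (hR : ∀ c ∈ sR T, f c ∈ sR T) (y : Co T) : f y = y := by
  let F := f.eqLocus (MonoidHom.id _)
  have z : ∀ {c : Co T}, c = 1 → c ∈ F := fun e => e ▸ one_mem F
  have g6 : ∀ t, f (x6 T t) = x6 T t := fun t => by
    obtain ⟨r, e⟩ := h6 t
    have : (x6 T t)⁻¹ * f (x6 T t) = x4 T r := by
      rw [e]; ext <;> simp [x4, x6, ww, CharTwo.add_self_eq_zero]
    exact hf _ (this ▸ by simp [mem_sR, x4]) (by rw [this, h4])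
  have m2 : ∀ t, f (x2 T t) ∈ sV T := fun t => hV _ (by simp [mem_sV, x2])
  have m3 : ∀ t, f (x3 T t) ∈ sV T := fun t => hV _ (by simp [mem_sV, x3])
  have m5 : ∀ t, f (x5 T t) ∈ sV T := fun t => hV _ (by simp [mem_sV, x5])
  have m4 : ∀ t, x4 T t ∈ sV T := fun t => by simp [mem_sV, x4]
  have m6 : ∀ t, x6 T t ∈ sV T := fun t => by simp [mem_sV, x6]
  have my : ∀ t, f (y4 T t) ∈ sR T := fun t => hR _ (by simp [mem_sR, y4])
  have e1 : (f (x1 T 1)).a1 = 1 := by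
    have : x6 T 1 * x1 T 1 = x1 T 1 * (x4 T 1 * x6 T 1) := by ext <;> simp [x1, x4, x6]
    have := congrArg (fun c => (f c).a4) this
    simp only [map_mul, g6, h4] at this
    simpa [x4, x6] using this
  have e4 : ∀ t, (f (y4 T t)).b4 = t := fun t => by
    have : y4 T t * y4 T t = x4 T (t * T.σ t) := by
      ext <;> simp [x4, y4, CharTwo.add_self_eq_zero]
    have h := congrArg (fun c => (f c).a4) this
    obtain ⟨a, b, d, e, f', g⟩ := my t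
    simp only [map_mul, h4] at h
    simp [x4, a, b, d, e, f', g, CharTwo.add_self_eq_zero] at h
    by_cases t0 : t = 0
    · subst t0; simpa using h
    have s0 : (f (y4 T t)).b4 ≠ 0 := fun k => t0 (by simpa [k] using h.symm)
    refine (div_eq_one_iff_eq t0).1 (eq_one_of_pw (T := T) (div_ne_zero s0 t0) (i := 1) (j := 1) 0
      rfl ?_)
    rw [zpow_one, zpow_one, map_div₀, div_mul_div_comm, h, div_self (by simpa using t0)]
  have e2 : ∀ t, (f (x2 T t)).a2 = t := fun t => by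
    have : x1 T 1 * y4 T t = y4 T t * x2 T t * x1 T 1 := by
      ext <;> simp [x1, x2, y4, CharTwo.add_self_eq_zero]
    have h := congrArg (fun c => (f c).a2) this
    have k := (mulV (my t) (m2 t)).1
    obtain ⟨a, b, d, e, f', g⟩ := my t
    obtain ⟨b1, b2, b3, b4, b5, b6, b7⟩ := m2 t
    simp only [map_mul] at h
    rw [Co.mul_a2 (_ * _), k] at h
    simp [a, b, d, e, f', g, b1, b2, b3, b4, b5, b6, b7, e1, e4] at h
    grind
  obtain ⟨c, hc⟩ : ∃ c, f (y8 T 1) = c := ⟨_, rfl⟩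
  have e5 : ∀ t, (f (x3 T t)).a2 = 0 ∧ (f (x5 T t)).a2 = 0 ∧ (f (x5 T t)).a3 = 0 ∧
      (f (x3 T t)).a3 = c.b8 * t ∧ (f (x5 T t)).a5 = T.σ c.b8 * (c.b8 * t) ∧
      c.b8 * (f (x5 T t)).a5 = t := fun t => by
    have r2 : y8 T 1 * x2 T t = x2 T t * (x3 T t * (x5 T t * x6 T t)) * y8 T 1 := by
      ext <;> simp [x2, x3, x5, x6, y8]
    have r3 : y8 T 1 * x3 T t = x3 T t * (x5 T t * x4 T (T.σ t)) * y8 T 1 := by
      ext <;> simp [x3, x5, x4, y8]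
    have r5 : y8 T 1 * x5 T t = x5 T t * x6 T t * y8 T 1 := by
      ext <;> simp [x5, x6, y8]
    replace r2 := congrArg f r2
    replace r3 := congrArg f r3
    replace r5 := congrArg f r5
    simp only [map_mul, hc, g6, h4] at r2 r3 r5
    have k1 := mulV (V_le_R (m5 t)) (m6 t)
    have k2 := mulV (V_le_R (m3 t)) (mul_mem (m5 t) (m6 t))
    have k3 := mulV (V_le_R (m2 t)) (mul_mem (m3 t) (mul_mem (m5 t) (m6 t)))
    have k4 := mulV (V_le_R (m5 t)) (m4 (T.σ t))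
    have k5 := mulV (V_le_R (m3 t)) (mul_mem (m5 t) (m4 (T.σ t)))
    have l2 := conjV r2 (m2 t) (mul_mem (m2 t) (mul_mem (m3 t) (mul_mem (m5 t) (m6 t))))
    have l3 := conjV r3 (m3 t) (mul_mem (m3 t) (mul_mem (m5 t) (m4 (T.σ t))))
    have l5 := (conjV r5 (m5 t) (mul_mem (m5 t) (m6 t))).2.2.2
    rw [k3.1, k3.2.1, k2.1, k2.2.1, k1.1, k1.2.1, e2] at l2
    rw [k5.1, k5.2.1, k5.2.2.1, k4.1, k4.2.1, k4.2.2.1] at l3
    rw [k1.2.2.2] at l5
    simp only [x4, x6, add_zero] at l2 l3 l5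
    have n1 : (f (x5 T t)).a2 = 0 := by linear_combination l3.1
    have n2 : (f (x3 T t)).a2 = 0 := by linear_combination l2.1 - n1
    have n3 : (f (x5 T t)).a3 = 0 := by linear_combination l3.2.1 + c.b8 * n2
    have n4 : (f (x3 T t)).a3 = c.b8 * t := by linear_combination l2.2.1 - n3
    refine ⟨n2, n1, n3, n4, ?_, ?_⟩
    · linear_combination l3.2.2.1 + (c.a8 + c.b8 * T.σ c.b8) * n2 + T.σ c.b8 * n4
    · linear_combination -l5 n1 - c.a8 * n3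
  have e8 : c.b8 = 1 := by
    obtain ⟨-, -, -, -, k1, k2⟩ := e5 1
    refine eq_one_of_pw (T := T) (fun k => by simp [k] at k2) (i := 2) (j := 1) 1 rfl ?_
    rw [zpow_one, zpow_two]
    linear_combination k2 - c.b8 * k1
  simp only [e8, map_one, one_mul] at e5
  have g5 : ∀ t, f (x5 T t) = x5 T t := fun t => by
    obtain ⟨b1, b2, b3, b4, b5, b6, b7⟩ := m5 t
    obtain ⟨-, k1, k2, -, k3, -⟩ := e5 t
    have m : (x5 T t)⁻¹ * f (x5 T t) ∈ sR T := mul_mem (inv_mem (by simp [mem_sR, x5])) (V_le_R (m5 t))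
    refine hf _ m (mem_R (F := F) m (z ?_) (z ?_) (z ?_) (h4 _) (z ?_) (g6 _)) <;>
      generalize f (x5 T t) = w at * <;> ext <;>
      simp [x2, x3, y4, x5, b1, b2, b3, b4, b5, b6, b7, k1, k2, k3, CharTwo.add_self_eq_zero]
  have g3 : ∀ t, f (x3 T t) = x3 T t := fun t => by
    obtain ⟨b1, b2, b3, b4, b5, b6, b7⟩ := m3 t
    obtain ⟨k1, -, -, k2, -, -⟩ := e5 t
    have m : (x3 T t)⁻¹ * f (x3 T t) ∈ sR T := mul_mem (inv_mem (by simp [mem_sR, x3])) (V_le_R (m3 t))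
    refine hf _ m (mem_R (F := F) m (z ?_) (z ?_) (z ?_) (h4 _) (g5 _) (g6 _)) <;>
      generalize f (x3 T t) = w at * <;> ext <;>
      simp [x2, x3, y4, b1, b2, b3, b4, b5, b6, b7, k1, k2, CharTwo.add_self_eq_zero]
  have g2 : ∀ t, f (x2 T t) = x2 T t := fun t => by
    obtain ⟨b1, b2, b3, b4, b5, b6, b7⟩ := m2 t
    have k := e2 t
    have m : (x2 T t)⁻¹ * f (x2 T t) ∈ sR T := mul_mem (inv_mem (by simp [mem_sR, x2])) (V_le_R (m2 t))
    refine hf _ m (mem_R (F := F) m (z ?_) (g3 _) (z ?_) (h4 _) (g5 _) (g6 _)) <;>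
      generalize f (x2 T t) = w at * <;> ext <;>
      simp [x2, y4, b1, b2, b3, b4, b5, b6, b7, k, CharTwo.add_self_eq_zero]
  have gy : ∀ t, f (y4 T t) = y4 T t := fun t => by
    obtain ⟨b1, b2, b4, b5, b6, b7⟩ := my t
    have k := e4 t
    have m : (y4 T t)⁻¹ * f (y4 T t) ∈ sR T := mul_mem (inv_mem (by simp [mem_sR, y4])) (my t)
    refine hf _ m (mem_R (F := F) m (g2 _) (g3 _) (z ?_) (h4 _) (g5 _) (g6 _))
    generalize f (y4 T t) = w at *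
    ext <;> simp [y4, b1, b2, b4, b5, b6, b7, k, CharTwo.add_self_eq_zero]
  have gR : ∀ c ∈ sR T, f c = c := fun c m =>
    mem_R (F := F) m (g2 _) (g3 _) (gy _) (h4 _) (g5 _) (g6 _)
  have m : y⁻¹ * f y ∈ sR T := cenV fun v hv => by
    have := gR _ (V_le_R (V_conj y hv))
    rw [map_mul, map_mul, map_inv, gR v (V_le_R hv)] at this
    calc _ = y⁻¹ * (f y * v * (f y)⁻¹) * f y := by group
      _ = _ := by rw [this]; group
  exact hf y m (gR _ m)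

variable {G : Type u} [Group G] [Finite G] {D : CS T G}

theorem ιC_inj : Function.Injective D.ιC := fun _ _ e => D.inj (congrArg Subtype.val e)

theorem rig (bc : BC D) : Rig D := by
  intro θ h0 h4 h6
  obtain ⟨k, m, hm, e⟩ := Nat.exists_eq_two_pow_mul_odd (orderOf_pos θ).ne'
  refine ⟨k, ?_⟩
  have ho : Odd (orderOf (θ ^ 2 ^ k)) :=
    hm.of_dvd_nat (orderOf_dvd_of_pow_eq_one (by rw [← pow_mul, ← e, pow_orderOf_eq_one]))
  have k0 : ∀ n : ℕ, (∀ c, ∃ c', (θ ^ n) (D.ιC c) = D.ιC c') ∧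
      (∀ t, (θ ^ n) (D.ιC (x4 T t)) = D.ιC (x4 T t)) ∧
      ∀ t, ∃ r, (θ ^ n) (D.ιC (x6 T t)) = D.ιC (ww T t r) := fun n => by
    induction n with
    | zero => exact ⟨fun c => ⟨c, rfl⟩, fun _ => rfl, fun _ => ⟨0, rfl⟩⟩
    | succ n ih =>
      simp only [pow_succ', MulAut.mul_apply]
      refine ⟨fun c => ?_, fun t => by rw [ih.2.1, h4], fun t => ?_⟩
      · obtain ⟨c', e⟩ := ih.1 c
        exact e ▸ h0 c'
      · obtain ⟨r, e⟩ := ih.2.2 t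
        obtain ⟨r', e'⟩ := h6 t
        refine ⟨r' + r, ?_⟩
        rw [e, show ww T t r = x6 T t * x4 T r by ext <;> simp [ww, x4, x6], map_mul, map_mul, e', h4,
          ← map_mul]
        exact congrArg _ (by ext <;> simp [ww, x4])
  obtain ⟨k1, k4, k6⟩ := k0 (2 ^ k)
  generalize θ ^ 2 ^ k = ψ at *
  choose f0 hf using k1
  let f : Co T →* Co T := MonoidHom.mk' f0 fun a b => ιC_inj (D := D) (by
    rw [← hf, map_mul, map_mul, hf, hf, map_mul])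
  have inv : ∀ X ∈ [sZ T, sV T, sR T, sQ T], ∀ c ∈ X, f c ∈ X := fun X hX c hc => by
    obtain ⟨c', h1, h2⟩ := bc.aut ψ X hX c hc
    exact (ιC_inj ((hf c).symm.trans h2) : f c = c') ▸ h1
  have fix : ∀ c, ψ (D.ιC c) = D.ιC c := fun c => (hf c).trans (congrArg _ (core f (fun y h1 h2 => by
    have e1 : (D.ιC y)⁻¹ * ψ (D.ιC y) = D.ιC (y⁻¹ * f y) := by rw [hf, map_mul, map_inv]; rfl
    exact ιC_inj ((hf y).symm.trans (H85.aut_fix_of_fix_comm ψ ho (k := 2)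
      (by rw [e1, ← map_pow, R_pow h1, map_one]) (by rw [e1, hf]; exact congrArg _ h2))))
    (fun t => ιC_inj ((hf _).symm.trans (k4 t)))
    (fun t => (k6 t).imp fun r e => ιC_inj ((hf _).symm.trans e))
    (inv _ (by simp)) (inv _ (by simp)) c))
  ext1 g
  obtain ⟨z, hz, ez⟩ := bc.cenQ _ (g⁻¹ * ψ g).2 fun c hc => by
    obtain ⟨c', -, e'⟩ := (mem_normalizer_iff.1 (bc.nor (sQ T) (by simp) g.2) _).1 ⟨c, hc, rfl⟩
    have e1 : g * D.ιC c * g⁻¹ = D.ιC c' := Subtype.ext e'.symm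
    have e2 := fix c'
    rw [← e1, map_mul, map_mul, map_inv, fix] at e2
    refine congrArg Subtype.val (?_ : g⁻¹ * ψ g * D.ιC c = D.ιC c * (g⁻¹ * ψ g))
    calc _ = g⁻¹ * (ψ g * D.ιC c * (ψ g)⁻¹) * ψ g := by group
      _ = _ := by rw [e2]; group
  have e3 : g⁻¹ * ψ g = D.ιC z := Subtype.ext ez.symm
  exact H85.aut_fix_of_fix_comm ψ ho (k := 2) (by
    obtain ⟨a, b, -, -, -, -, c, -, d, e, f⟩ := hz
    rw [e3, ← map_pow, R_pow ⟨a, b, c, d, e, f⟩, map_one]) (by rw [e3, fix])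

theorem cw (bc : BC D) (ty : TY D) (hy : Hy D) (bh : BH D) : CW D := by
  intro g hg
  have m4 : ∀ t, x4 T t ∈ sW T := fun t => by simp [mem_sW, x4]
  have m6 : ∀ t, x6 T t ∈ sW T := fun t => by simp [mem_sW, x6]
  have hn := hy.nrm g (hg _ (m4 1))
  have ap : ∀ (n : normalizer (D.C : Set G)) (x : D.C),
      (D.C.normalizerMonoidHom n x : G) = n * x * (n : G)⁻¹ := fun _ _ => rfl
  have fx : ∀ c ∈ sW T, D.C.normalizerMonoidHom ⟨g, hn⟩ (D.ιC c) = D.ιC c := fun c hc =>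
    Subtype.ext ((ap _ _).trans (mul_inv_eq_iff_eq_mul.2 (hg c hc)))
  obtain ⟨k, hk⟩ := rig bc (D.C.normalizerMonoidHom ⟨g, hn⟩) (fun c => by
    obtain ⟨c1, -, e1⟩ := bc.aut (D.C.normalizerMonoidHom ⟨g, hn⟩) (sQ T) (by simp) (x1 T c.a1)
      (by simp [mem_sQ, x1])
    have h1 : (x1 T c.a1)⁻¹ * c ∈ sQ1 T := by simp [mem_sQ1, x1, CharTwo.add_self_eq_zero]
    have h2 : D.ιC ((x1 T c.a1)⁻¹ * c) * D.ιC (x6 T 1) = D.ιC (x6 T 1) * D.ιC ((x1 T c.a1)⁻¹ * c) :=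
      Subtype.ext ((ty.c6 _ (D.ι_mem _)).2 ⟨_, h1, rfl⟩)
    have h3 := congrArg (D.C.normalizerMonoidHom ⟨g, hn⟩) h2
    rw [map_mul _ (D.ιC _), map_mul _ (D.ιC _), fx _ (m6 1)] at h3
    obtain ⟨c2, -, e2⟩ := (ty.c6 _ (Subtype.prop _)).1 (congrArg Subtype.val h3)
    refine ⟨c1 * c2, ?_⟩
    conv_lhs => rw [← mul_inv_cancel_left (x1 T c.a1) c, map_mul, map_mul, e1]
    rw [map_mul D.ιC c1]
    exact congrArg _ (Subtype.ext e2.symm)) (fun t => fx _ (m4 t)) fun t => ⟨0, fx _ (m6 t)⟩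
  rw [← map_pow] at hk
  obtain ⟨z, hz, ez⟩ := bh.cenQ (g ^ 2 ^ k) fun c _ => mul_inv_eq_iff_eq_mul.1
    ((ap (⟨g, hn⟩ ^ 2 ^ k) (D.ιC c)).symm.trans (by rw [hk]; rfl))
  obtain ⟨a, b, -, -, -, -, c, -, d, e, f⟩ := hz
  exact (ty.c6 g (bh.two g hn ⟨k + 2, by
    rw [pow_add, pow_mul, ← ez, ← map_pow, R_pow ⟨a, b, c, d, e, f⟩, map_one]⟩)).1 (hg _ (m6 1))

theorem jobRig : JobRig.{u, v} := fun _ _ _ _ _ _ _ _ _ bc ty => ⟨rig bc, cw bc ty⟩

end H67.Oc
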