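import Cfsg.Agent.H63.CUJ
import Cfsg.Agent.H64.Stein

/-! Weakly closed unipotent subgroups are unipotent radicals. -/

set_option autoImplicit false
open Cfsg Cfsg.Lie H63 H64

namespace H67

universe u

theorem exists_ab_fun {G : Type u} [Group G] {Q M : Subgroup G} (hM : ⁅Q, Q⁆ ≤ M)
    (hn : ∀ q ∈ Q, ∀ m ∈ M, q * m * q⁻¹ ∈ M) :
    ∃ (A : Type u) (_ : AddCommGroup A) (π : G → A),
      (∀ a ∈ Q, ∀ b ∈ Q, π (a * b) = π a + π b) ∧ ∀ a ∈ Q, π a = 0 ↔ a ∈ M := by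
  classical
  haveI : (M.subgroupOf Q).Normal := ⟨fun m hm q => hn q q.2 m hm⟩
  have hc : ∀ a b : Q ⧸ M.subgroupOf Q, a * b = b * a := by
    intro a b
    obtain ⟨a, rfl⟩ := QuotientGroup.mk_surjective a
    obtain ⟨b, rfl⟩ := QuotientGroup.mk_surjective b
    rw [← QuotientGroup.mk_mul, ← QuotientGroup.mk_mul, QuotientGroup.eq, Subgroup.mem_subgroupOf]
    have := hM (Subgroup.commutator_mem_commutator (Q.inv_mem b.2) (Q.inv_mem a.2))
    convert this using 1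
    simp [commutatorElement_def, mul_assoc]
  letI : CommGroup (Q ⧸ M.subgroupOf Q) := { (inferInstance : Group _) with mul_comm := hc }
  refine ⟨Additive (Q ⧸ M.subgroupOf Q), inferInstance,
    fun g => if hg : g ∈ Q then Additive.ofMul (QuotientGroup.mk ⟨g, hg⟩) else 0, ?_, ?_⟩
  · intro a ha b hb
    simp only [dif_pos ha, dif_pos hb, dif_pos (Q.mul_mem ha hb)]
    rfl
  · intro a ha
    simp only [dif_pos ha, ofMul_eq_zero, QuotientGroup.eq_one_iff, Subgroup.mem_subgroupOf]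

theorem le_of_le_sup_comm {G : Type*} [Group G] {X Q U : Subgroup G} (hU : Group.IsNilpotent U)
    (hX : X ≤ U) (hQ : Q ≤ U) (hn : ∀ u ∈ U, ∀ x ∈ X, u * x * u⁻¹ ∈ X)
    (h : Q ≤ X ⊔ ⁅Q, U⁆) : Q ≤ X := by
  haveI : (X.subgroupOf U).Normal := ⟨fun m hm q => hn q q.2 m hm⟩
  let φ := QuotientGroup.mk' (X.subgroupOf U)
  have h1 : Q.subgroupOf U ≤ X.subgroupOf U ⊔ ⁅Q.subgroupOf U, ⊤⁆ := by
    rw [← Subgroup.map_le_map_iff_of_injective U.subtype_injective, Subgroup.map_sup,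
      Subgroup.map_commutator, Subgroup.map_subgroupOf_eq_of_le hQ,
      Subgroup.map_subgroupOf_eq_of_le hX, ← MonoidHom.range_eq_map, Subgroup.range_subtype]
    exact h
  have h2 : (Q.subgroupOf U).map φ ≤ ⁅(Q.subgroupOf U).map φ, ⊤⁆ := by
    refine (Subgroup.map_mono h1).trans ?_
    rw [Subgroup.map_sup, Subgroup.map_commutator]
    refine sup_le ?_ (Subgroup.commutator_mono le_rfl le_top)
    rw [(Subgroup.map_eq_bot_iff _).2 (by rw [QuotientGroup.ker_mk'])]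
    exact bot_le
  have h3 : ∀ n, (Q.subgroupOf U).map φ ≤
      (⊤ : Subgroup (U ⧸ X.subgroupOf U)).lowerCentralSeries n := by
    intro n
    induction n with
    | zero => exact le_top
    | succ n ih => exact h2.trans (Subgroup.commutator_mono ih le_rfl)
  obtain ⟨n, hn'⟩ := nilpotent_iff_lowerCentralSeries.1
    (inferInstance : Group.IsNilpotent (U ⧸ X.subgroupOf U))
  have h4 := h3 n
  rw [hn', le_bot_iff, Subgroup.map_eq_bot_iff, QuotientGroup.ker_mk'] at h4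
  intro q hq
  exact h4 (show (⟨q, hQ hq⟩ : U) ∈ Q.subgroupOf U from hq)

section vdm
variable {F A : Type*} [Field F] [AddCommGroup A]

theorem vdm1 (f : F →+ A) {c : F} (hc : c ≠ 0) (h : ∀ t u, f (c * t ^ 1 * u ^ 1) = 0) (s : F) :
    f s = 0 := by
  have := h 1 (s / c)
  rwa [show c * 1 ^ 1 * (s / c) ^ 1 = s by field_simp] at this

theorem vdm2 (f g : F →+ A) {c d : F} (hd : d ≠ 0)
    (h : ∀ t u, f (c * t ^ 1 * u ^ 1) + g (d * t ^ 2 * u ^ 1) = 0) {a : F} (h0 : a ≠ 0)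
    (h1 : a ≠ 1) (s : F) : g s = 0 := by
  have h1' : a - 1 ≠ 0 := sub_ne_zero.2 h1
  have e := congrArg₂ (· + ·) (h 1 (- s / (d * (a - 1)))) (h a (s / (d * a * (a - 1))))
  simp only [add_zero] at e
  rw [add_add_add_comm, ← map_add, ← map_add] at e
  rwa [show c * 1 ^ 1 * (- s / (d * (a - 1))) ^ 1 + c * a ^ 1 * (s / (d * a * (a - 1))) ^ 1 = 0 by
    field_simp; ring, map_zero, zero_add,
    show d * 1 ^ 2 * (- s / (d * (a - 1))) ^ 1 + d * a ^ 2 * (s / (d * a * (a - 1))) ^ 1 = s by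
    field_simp; ring] at e

theorem vdm3 (f g k : F →+ A) {c d e : F} (he : e ≠ 0)
    (h : ∀ t u, f (c * t ^ 1 * u ^ 1) + (g (d * t ^ 2 * u ^ 1) + k (e * t ^ 3 * u ^ 1)) = 0)
    {a b : F} (a0 : a ≠ 0) (a1 : a ≠ 1) (b0 : b ≠ 0) (b1 : b ≠ 1) (ab : a ≠ b) (s : F) :
    k s = 0 := by
  have h1 : a - 1 ≠ 0 := sub_ne_zero.2 a1
  have h2 : b - 1 ≠ 0 := sub_ne_zero.2 b1
  have h3 : a - b ≠ 0 := sub_ne_zero.2 ab
  obtain ⟨u, hu⟩ : ∃ u, u = s / (e * (a - 1) * (b - 1)) := ⟨_, rfl⟩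
  obtain ⟨v, hv⟩ : ∃ v, v = s / (e * a * (a - 1) * (a - b)) := ⟨_, rfl⟩
  obtain ⟨w, hw⟩ : ∃ w, w = - s / (e * b * (b - 1) * (a - b)) := ⟨_, rfl⟩
  have e1 : f (c * 1 ^ 1 * u ^ 1) + f (c * a ^ 1 * v ^ 1) + f (c * b ^ 1 * w ^ 1) = 0 := by
    rw [← map_add, ← map_add, ← map_zero f]; congr 1; subst hu hv hw; field_simp; ring
  have e2 : g (d * 1 ^ 2 * u ^ 1) + g (d * a ^ 2 * v ^ 1) + g (d * b ^ 2 * w ^ 1) = 0 := by
    rw [← map_add, ← map_add, ← map_zero g]; congr 1; subst hu hv hw; field_simp; ring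
  have e3 : k (e * 1 ^ 3 * u ^ 1) + k (e * a ^ 3 * v ^ 1) + k (e * b ^ 3 * w ^ 1) = k s := by
    rw [← map_add, ← map_add]; congr 1; subst hu hv hw; field_simp; ring
  have e4 := congrArg₂ (· + ·) (congrArg₂ (· + ·) (h 1 u) (h a v)) (h b w)
  simp only [add_zero] at e4
  rw [← e3, ← e4, ← zero_add (_ + _ + k _), ← zero_add (0 + _)]
  nth_rewrite 1 [← e1]
  nth_rewrite 1 [← e2]
  abel

end vdm

theorem single_mem_of_inv {ι F : Type*} [Fintype ι] [DecidableEq ι] [Field F] [Finite F]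
    (V : AddSubgroup (ι → F)) (L : Set (ι → ℤ))
    (hV : ∀ l ∈ L, ∀ c : Fˣ, ∀ v ∈ V, (fun k => ((c ^ l k : Fˣ) : F) * v k) ∈ V) (i : ι)
    (hsep : ∀ j, j ≠ i → ∃ l ∈ L, ∃ c : Fˣ, l j = 0 ∧ c ^ l i ≠ 1)
    (h2 : ∃ l ∈ L, l i = 2) {v : ι → F} (hv : v ∈ V) (hi : v i ≠ 0) (s : F) :
    Pi.single i s ∈ V := by
  have h1 : ∀ S : Finset ι, i ∉ S → ∃ v ∈ V, v i ≠ 0 ∧ ∀ j ∈ S, v j = 0 := by
    intro S
    induction S using Finset.induction_on with
    | empty => exact fun _ => ⟨v, hv, hi, by simp⟩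
    | insert j S hj ih =>
      intro hS
      rw [Finset.mem_insert, not_or] at hS
      obtain ⟨w, hw, hwi, hwS⟩ := ih hS.2
      obtain ⟨l, hl, c, hlj, hc⟩ := hsep j (Ne.symm hS.1)
      refine ⟨_, V.sub_mem (hV l hl c w hw) hw, ?_, ?_⟩
      · simp only [Pi.sub_apply]
        rw [← sub_one_mul]
        exact mul_ne_zero (sub_ne_zero.2 fun e => hc (Units.ext e)) hwi
      · intro k hk
        rcases Finset.mem_insert.1 hk with rfl | hk
        · simp [hlj]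
        · simp [hwS k hk]
  obtain ⟨w, hw, hwi, hwS⟩ := h1 (Finset.univ.erase i) (by simp)
  obtain ⟨l, hl, hli⟩ := h2
  have h3 : ∀ c : F, Pi.single i (c * c * w i) ∈ V := by
    intro c
    rcases eq_or_ne c 0 with rfl | hc
    · simpa using V.zero_mem
    · convert hV l hl (Units.mk0 c hc) w hw using 1
      funext k
      rcases eq_or_ne k i with rfl | hk
      · simp [hli, zpow_ofNat, sq]
      · simp [hk, hwS k (by simp [hk])]
  haveI := Fintype.ofFinite F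
  by_cases hF : ringChar F = 2
  · obtain ⟨c, hc⟩ := FiniteField.isSquare_of_char_two hF (s / w i)
    have := h3 c
    rwa [← hc, div_mul_cancel₀ _ hwi] at this
  · have h4 : (2 : F) ≠ 0 := Ring.two_ne_zero hF
    have := V.sub_mem (h3 ((s / w i + 1) / 2)) (h3 ((s / w i - 1) / 2))
    rwa [← Pi.single_sub, show (s / w i + 1) / 2 * ((s / w i + 1) / 2) * w i -
      (s / w i - 1) / 2 * ((s / w i - 1) / 2) * w i = s by field_simp; ring] at this

/-- certificate check for one nonsimple positive root -/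
def wcOne (D : ChevalleyDatum) (big : Bool) (b : ℕ) (p : ℕ × ℕ) : Bool :=
  decide (D.IsPosRoot p.1) && decide (D.IsPosRoot p.2) && decide (p.2 ≠ p.1) &&
  match (D.commTerms p.1 p.2).filter (fun c => decide (c.1 ≤ b)) with
  | [(r, c, 1, 1)] => decide (r = b) && decide (c * c = 1)
  | [(_, _, 1, 1), (r, c, 2, 1)] => decide (r = b) && decide (c * c = 1)
  | [(_, _, 1, 1), (_, _, 2, 1), (r, c, 3, 1)] => decide (r = b) && decide (c * c = 1) && big
  | _ => false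

def wcA (D : ChevalleyDatum) (big : Bool) (L : List (ℕ × ℕ × ℕ)) : Bool :=
  L.all (fun p => wcOne D big p.1 p.2) &&
  (List.range D.nroots).all fun b => !decide (D.IsPosRoot b) ||
    (List.range D.rank).any (fun i => decide (D.simple i = b)) || L.any fun p => decide (p.1 = b)

def wcVal (D : ChevalleyDatum) (l : List ℤ) (k : ℕ) : ℤ :=
  ∑ m : Fin D.rank, l.getD m 0 * D.cartan m (D.simple k)

def wcB (D : ChevalleyDatum) (big : Bool) (L : List (List (List ℤ))) : Bool :=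
  (List.range D.rank).all fun i => (List.range D.rank).all fun j => decide (j = i) ||
    (decide (wcVal D ((L.getD i []).getD j []) j = 0) &&
      (decide (wcVal D ((L.getD i []).getD j []) i = 1) ||
        (big && decide (wcVal D ((L.getD i []).getD j []) i = 2))))

variable {D : ChevalleyDatum} [RS D] {F : Type*} [Field F] {G : Type u} [Group G] {x : ℕ → F → G}

theorem psi_of_comb {J : Set (Fin D.rank)} {r s c : Rt D} (hr : Pos r) (hs : Pos s) {i j : ℤ}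
    (hi : 1 ≤ i) (hj : 1 ≤ j) (h : rt c = i • rt r + j • rt s) :
    c ∉ (H64.wdata D).PhiJ J ↔ (r ∉ (H64.wdata D).PhiJ J ∨ s ∉ (H64.wdata D).PhiJ J) := by
  rw [← not_and_or, not_iff_not]
  simp only [H64.mem_PhiJ_iff]
  constructor
  · intro hc
    have key : ∀ k, k ∉ J → rt r k = 0 ∧ rt s k = 0 := by
      intro k hk
      have h1 := hc k hk
      rw [h] at h1
      simp only [Pi.add_apply, Pi.smul_apply, smul_eq_mul] at h1
      have := hr k; have := hs k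
      constructor <;> nlinarith
    exact ⟨fun k hk => (key k hk).1, fun k hk => (key k hk).2⟩
  · rintro ⟨h1, h2⟩ k hk
    rw [h]; simp [h1 k hk, h2 k hk]

theorem not_simple_of_comb {r s c : Rt D} (hr : Pos r) (hs : Pos s) {i j : ℤ}
    (hi : 1 ≤ i) (hj : 1 ≤ j) (h : rt c = i • rt r + j • rt s) (k : Fin D.rank) :
    c ≠ simpleR k := by
  rintro rfl
  have h1 := ht_of_eq h
  rw [ht_simpleR] at h1
  have := pos_iff_ht.1 hr; have := pos_iff_ht.1 hs
  nlinarith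

/-- In an abelian quotient of `U_J` killing `[U_J, U]` the nonsimple root subgroups die. -/
theorem wc_nonsimple (h : StB D x) {big : Bool} {L : List (ℕ × ℕ × ℕ)} (hA : wcA D big L = true)
    (h2 : ∃ a : F, a ≠ 0 ∧ a ≠ 1)
    (h3 : big = true → ∃ a b : F, a ≠ 0 ∧ a ≠ 1 ∧ b ≠ 0 ∧ b ≠ 1 ∧ a ≠ b)
    (J : Set (Fin D.rank)) {A : Type*} [AddCommGroup A] (π : G → A)
    (hπ : ∀ a ∈ h.rgd.UJ J, ∀ b ∈ h.rgd.UJ J, π (a * b) = π a + π b)
    (hM : ∀ a ∈ ⁅h.rgd.UJ J, h.rgd.U⁆, π a = 0) (b : Rt D) (hb : Pos b)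
    (hbJ : b ∉ (H64.wdata D).PhiJ J) (hbs : ∀ k, b ≠ simpleR k) (s : F) : π (x b s) = 0 := by
  have hx : ∀ r : Rt D, Pos r → r ∉ (H64.wdata D).PhiJ J → ∀ t, x r t ∈ h.rgd.UJ J :=
    fun r h1 h2 t => le_gen (XR D x) (S := {r | Pos r ∧ r ∉ (H64.wdata D).PhiJ J}) ⟨h1, h2⟩
      (x_mem_XR D x r t)
  have hxU : ∀ r : Rt D, Pos r → ∀ t, x r t ∈ h.rgd.U :=
    fun r h1 t => le_gen (XR D x) (S := {r | Pos r}) h1 (x_mem_XR D x r t)
  have hπ1 : π 1 = 0 := by
    have := hπ 1 (one_mem _) 1 (one_mem _)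
    rw [one_mul] at this; exact left_eq_add.1 this
  let f : ∀ r : Rt D, Pos r → r ∉ (H64.wdata D).PhiJ J → F →+ A := fun r h1 h2 =>
    AddMonoidHom.mk' (fun t => π (x r t)) fun t u => by
      rw [← hπ _ (hx r h1 h2 t) _ (hx r h1 h2 u), h.add r r.2]
  induction hn : D.nroots - b using Nat.strong_induction_on generalizing b s with
  | _ n ih =>
  simp only [wcA, Bool.and_eq_true, List.all_eq_true, List.mem_range, Bool.or_eq_true,
    Bool.not_eq_true', decide_eq_false_iff_not, List.any_eq_true, decide_eq_true_eq] at hA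
  obtain ⟨p, hp, hpb⟩ : ∃ p ∈ L, p.1 = b := by
    rcases hA.2 b b.2 with (h1 | ⟨i, hi, h1⟩) | h1
    · exact absurd ((isPosRoot_iff b).2 hb) h1
    · exact absurd (Fin.ext h1.symm) (hbs ⟨i, hi⟩)
    · exact h1
  have hc := hA.1 p hp
  obtain ⟨b', r, s'⟩ := p
  simp only at hpb
  subst hpb
  simp only [wcOne, Bool.and_eq_true, decide_eq_true_eq] at hc
  obtain ⟨⟨⟨hr, hs⟩, hrs⟩, hc⟩ := hc
  obtain ⟨r, rfl⟩ : ∃ r' : Rt D, (r' : ℕ) = r := ⟨⟨r, hr.1⟩, rfl⟩
  obtain ⟨s', rfl⟩ : ∃ r' : Rt D, (r' : ℕ) = s' := ⟨⟨s', hs.1⟩, rfl⟩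
  rw [isPosRoot_iff] at hr hs
  have hbm : ∃ c ∈ D.commTerms r s', c.1 = b := by
    split at hc
    all_goals first
      | (rename_i e; simp only [Bool.and_eq_true, decide_eq_true_eq] at hc
         have := List.mem_of_mem_filter (e ▸ (List.mem_cons_self) : _ ∈ _)
         exact ⟨_, this, hc.1⟩)
      | (rename_i e; simp only [Bool.and_eq_true, decide_eq_true_eq] at hc
         have := List.mem_of_mem_filter (e ▸ (List.mem_cons_of_mem _ List.mem_cons_self) : _ ∈ _)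
         exact ⟨_, this, hc.1⟩)
      | (rename_i e; simp only [Bool.and_eq_true, decide_eq_true_eq] at hc
         have := List.mem_of_mem_filter
          (e ▸ (List.mem_cons_of_mem _ (List.mem_cons_of_mem _ List.mem_cons_self)) : _ ∈ _)
         exact ⟨_, this, hc.1.1⟩)
      | simp at hc
  have hrs' : r ∉ (H64.wdata D).PhiJ J ∨ s' ∉ (H64.wdata D).PhiJ J := by
    obtain ⟨c, hc1, hc2⟩ := hbm
    obtain ⟨h1, h2, h3, h4⟩ := commTerms_spec hc1
    rw [show (⟨c.1, h1⟩ : Rt D) = b from Fin.ext hc2] at h4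
    exact (psi_of_comb hr hs (by exact_mod_cast h2) (by exact_mod_cast h3) h4).1 hbJ
  have hterm : ∀ c ∈ D.commTerms r s', ∃ h1 : c.1 < D.nroots, Pos (⟨c.1, h1⟩ : Rt D) ∧
      (⟨c.1, h1⟩ : Rt D) ∉ (H64.wdata D).PhiJ J ∧ ∀ k, (⟨c.1, h1⟩ : Rt D) ≠ simpleR k := by
    intro c hc1
    obtain ⟨h1, h2, h3, h4⟩ := commTerms_spec hc1
    exact ⟨h1, pos_of_comb hr hs (by exact_mod_cast h2) (by exact_mod_cast h3) h4,
      (psi_of_comb hr hs (by exact_mod_cast h2) (by exact_mod_cast h3) h4).2 hrs',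
      not_simple_of_comb hr hs (by exact_mod_cast h2) (by exact_mod_cast h3) h4⟩
  have hsum : ∀ (t u : F) (M : List (ℕ × ℤ × ℕ × ℕ)), (∀ c ∈ M, c ∈ D.commTerms r s') →
      wd x (M.map fun c => (c.1, (c.2.1 : F) * (-t) ^ c.2.2.1 * u ^ c.2.2.2)) ∈ h.rgd.UJ J ∧
      π (wd x (M.map fun c => (c.1, (c.2.1 : F) * (-t) ^ c.2.2.1 * u ^ c.2.2.2))) =
        ((M.filter (fun c => decide (c.1 ≤ (b : ℕ)))).map fun c =>
          π (x c.1 ((c.2.1 : F) * (-t) ^ c.2.2.1 * u ^ c.2.2.2))).sum := by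
    intro t u M hM'
    induction M with
    | nil => exact ⟨one_mem _, by simpa using hπ1⟩
    | cons c M ihM =>
      obtain ⟨i1, i2⟩ := ihM fun c hc => hM' c (List.mem_cons_of_mem _ hc)
      obtain ⟨h1, h2, h3, h4⟩ := hterm c (hM' c List.mem_cons_self)
      have h5 := hx _ h2 h3 ((c.2.1 : F) * (-t) ^ c.2.2.1 * u ^ c.2.2.2)
      simp only [List.map_cons, wd_cons]
      refine ⟨mul_mem h5 i1, ?_⟩
      rw [hπ _ h5 _ i1, i2]
      by_cases hcb : c.1 ≤ b
      · rw [List.filter_cons_of_pos (by simpa using hcb)]; simp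
      · rw [List.filter_cons_of_neg (by simpa using hcb),
          ih (D.nroots - c.1) (by have := b.2; omega) ⟨c.1, h1⟩ h2 h3 h4 _ rfl, zero_add]
  have hrel : ∀ t u : F, (((D.commTerms r s').filter (fun c => decide (c.1 ≤ (b : ℕ)))).map fun c =>
      π (x c.1 ((c.2.1 : F) * t ^ c.2.2.1 * u ^ c.2.2.2))).sum = 0 := by
    intro t u
    have := (hsum (-t) u _ fun c hc => hc).2
    rw [neg_neg] at this
    rw [← this]
    apply hM
    have e := h.toSt.commutator_eq (r := r) (s := s') (fun e => hrs (congrArg _ e))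
      (fun e => by rw [e, pos_negR] at hs; exact hs hr) (-t) u
    unfold ChevalleyDatum.commWord at e
    rw [neg_neg] at e
    rw [← e]
    rcases hrs' with h1 | h1
    · rw [Subgroup.commutator_comm]
      exact Subgroup.commutator_mem_commutator (hxU _ hs _) (hx _ hr h1 _)
    · exact Subgroup.commutator_mem_commutator (hx _ hs h1 _) (hxU _ hr _)
  have hne : ∀ c : ℤ, c * c = 1 → (c : F) ≠ 0 := fun c hc e => by
    have : ((c * c : ℤ) : F) = 1 := by rw [hc, Int.cast_one]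
    rw [Int.cast_mul, e, zero_mul] at this; exact zero_ne_one this
  have hmem : ∀ c, c ∈ (D.commTerms r s').filter (fun c => decide (c.1 ≤ (b : ℕ))) →
      ∃ g : F →+ A, ∀ t, π (x c.1 t) = g t := by
    intro c hc
    obtain ⟨h1, h2, h3, -⟩ := hterm c (List.mem_of_mem_filter hc)
    exact ⟨f _ h2 h3, fun t => rfl⟩
  split at hc
  · rename_i r0 c0 e
    simp only [Bool.and_eq_true, decide_eq_true_eq] at hc
    obtain ⟨rfl, hc⟩ := hc
    simp only [e, List.map_cons, List.map_nil, List.sum_cons, List.sum_nil, add_zero] at hrel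
    exact vdm1 (f b hb hbJ) (hne _ hc) hrel s
  · rename_i r1 c1 r0 c0 e
    simp only [Bool.and_eq_true, decide_eq_true_eq] at hc
    obtain ⟨rfl, hc⟩ := hc
    obtain ⟨g1, hg1⟩ := hmem (r1, c1, 1, 1) (by rw [e]; simp)
    simp only at hg1
    simp only [e, List.map_cons, List.map_nil, List.sum_cons, List.sum_nil, add_zero, hg1] at hrel
    obtain ⟨a, a0, a1⟩ := h2
    exact vdm2 g1 (f b hb hbJ) (hne _ hc) hrel a0 a1 s
  · rename_i r1 c1 r2 c2 r0 c0 e
    simp only [Bool.and_eq_true, decide_eq_true_eq] at hc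
    obtain ⟨⟨rfl, hc⟩, hbig⟩ := hc
    obtain ⟨g1, hg1⟩ := hmem (r1, c1, 1, 1) (by rw [e]; simp)
    obtain ⟨g2, hg2⟩ := hmem (r2, c2, 2, 1) (by rw [e]; simp)
    simp only at hg1 hg2
    simp only [e, List.map_cons, List.map_nil, List.sum_cons, List.sum_nil, add_zero, hg1,
      hg2] at hrel
    obtain ⟨a, b', a0, a1, b0, b1, ab⟩ := h3 hbig
    exact vdm3 g1 g2 (f b hb hbJ) (hne _ hc) hrel a0 a1 b0 b1 ab s
  · simp at hc

theorem conj_mem_of_map_eq {X : Subgroup G} {g : G} (e : X.map (MulAut.conj g).toMonoidHom = X) :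
    g ∈ Subgroup.normalizer (X : Set G) := by
  rw [Subgroup.mem_normalizer_iff]
  intro y
  constructor
  · intro hy; rw [← e]; exact ⟨y, hy, rfl⟩
  · intro hy
    rw [← e] at hy
    obtain ⟨z, hz, e'⟩ := hy
    have : z = y := (MulAut.conj g).injective e'
    exact this ▸ hz

theorem weakly_closed [Finite F] (h : StB D x)
    (hH : ∀ d : Fin D.rank → Fˣ, ∃ g ∈ HH D x, ∀ (s : Rt D) t,
      g * x s t * g⁻¹ = x s (((∏ i : Fin D.rank, d i ^ D.cartan i s : Fˣ) : F) * t))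
    {big : Bool} {L : List (ℕ × ℕ × ℕ)} (hA : wcA D big L = true)
    {L' : List (List (List ℤ))} (hB : wcB D big L' = true)
    (h2 : ∃ a : F, a ≠ 0 ∧ a ≠ 1)
    (h3 : big = true → ∃ a b : F, a ≠ 0 ∧ a ≠ 1 ∧ b ≠ 0 ∧ b ≠ 1 ∧ a ≠ b)
    {X : Subgroup G} (hXU : X ≤ h.rgd.U)
    (hwc : ∀ g ∈ h.rgd.Gp, X.map (MulAut.conj g).toMonoidHom ≤ h.rgd.U →
      X.map (MulAut.conj g).toMonoidHom = X) : ∃ J, X = h.rgd.UJ J := by
  classical
  set T := h.rgd with hT
  let J : Set (Fin D.rank) := {i | X ≤ T.Up i}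
  have hnorm : ∀ g ∈ T.Gp, (∀ z ∈ X, g * z * g⁻¹ ∈ T.U) → g ∈ Subgroup.normalizer (X : Set G) :=
    fun g hg h1 => conj_mem_of_map_eq (hwc g hg (by rintro _ ⟨z, hz, rfl⟩; exact h1 z hz))
  have hP : T.PJ J ≤ Subgroup.normalizer (X : Set G) := by
    refine sup_le (fun b hb => hnorm b (T.B_le_Gp hb) fun z hz => T.B_conj_U hb (hXU hz)) ?_
    rw [Subgroup.closure_le]
    rintro _ ⟨j, hj, rfl⟩
    exact hnorm _ (T.n_mem_Gp j) fun z hz => T.Up_le_U j (T.n_conj_Up j (hj hz))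
  have hXn : ∀ g ∈ T.PJ J, ∀ z ∈ X, g * z * g⁻¹ ∈ X := fun g hg z hz =>
    (Subgroup.mem_normalizer_iff.1 (hP hg) z).1 hz
  have hXQ : X ≤ T.UJ J := fun z hz => mem_UJ_of_conj T fun y hy => hXU (hXn y hy z hz)
  refine ⟨J, le_antisymm hXQ ?_⟩
  have hQn : ∀ g ∈ T.B, ∀ z ∈ T.UJ J, g * z * g⁻¹ ∈ T.UJ J := fun g hg z hz =>
    (Subgroup.mem_normalizer_iff.1 (T.PJ_le_normalizer_UJ J (T.B_le_PJ J hg)) z).1 hz
  refine le_of_le_sup_comm (T.isNilpotent_U ?_) hXU (T.UJ_le_U J)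
    (fun u hu => hXn u (T.B_le_PJ J (T.U_le_B hu))) ?_
  · intro a _ y hy z hz
    obtain ⟨t, rfl⟩ := h.toSt.mem_XR.1 hy
    obtain ⟨u, rfl⟩ := h.toSt.mem_XR.1 hz
    exact h.toSt.x_comm a t u
  set M := X ⊔ ⁅T.UJ J, T.U⁆ with hM
  have hMn : ∀ g ∈ T.B, ∀ z ∈ M, g * z * g⁻¹ ∈ M := by
    intro g hg z hz
    have : M.map (MulAut.conj g).toMonoidHom ≤ M := by
      rw [hM, Subgroup.map_sup, Subgroup.map_commutator]
      refine sup_le_sup ?_ (Subgroup.commutator_mono ?_ ?_)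
      · rintro _ ⟨y, hy, rfl⟩; exact hXn g (T.B_le_PJ J hg) y hy
      · rintro _ ⟨y, hy, rfl⟩; exact hQn g hg y hy
      · rintro _ ⟨y, hy, rfl⟩; exact T.B_conj_U hg hy
    exact this ⟨z, hz, rfl⟩
  obtain ⟨A, _, π, hπ, hπ0⟩ := exists_ab_fun (Q := T.UJ J) (M := M)
    ((Subgroup.commutator_mono le_rfl (T.UJ_le_U J)).trans le_sup_right)
    fun q hq => hMn q (T.U_le_B (T.UJ_le_U J hq))
  have hCQ : ⁅T.UJ J, T.U⁆ ≤ T.UJ J := by
    rw [Subgroup.commutator_le]
    intro a ha b hb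
    rw [commutatorElement_def, mul_assoc, mul_assoc, ← mul_assoc b]
    exact mul_mem ha (hQn b (T.U_le_B hb) _ (inv_mem ha))
  have hns := wc_nonsimple h hA h2 h3 J π hπ fun a ha =>
    (hπ0 a (hCQ ha)).2 (Subgroup.mem_sup_right ha)
  have hx : ∀ r : Rt D, Pos r → r ∉ (H64.wdata D).PhiJ J → ∀ t, x r t ∈ T.UJ J :=
    fun r h1 h2 t => le_gen (XR D x) (S := {r | Pos r ∧ r ∉ (H64.wdata D).PhiJ J}) ⟨h1, h2⟩
      (x_mem_XR D x r t)
  have hπ1 : π 1 = 0 := (hπ0 1 (one_mem _)).2 (one_mem _)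
  have hxs : ∀ (i : Fin D.rank) (t : F), (i ∈ J → t = 0) → x (D.simple i) t ∈ T.UJ J := by
    intro i t ht
    by_cases hi : i ∈ J
    · rw [ht hi, show x (D.simple i) 0 = 1 from h.toSt.x_zero (simpleR i)]; exact one_mem _
    · exact hx (simpleR i) (pos_simpleR i) (fun e => hi ((WData.p_mem_PhiJ_iff _).1 e)) t
  have hadd : ∀ (i : Fin D.rank) (t u : F), (i ∈ J → t = 0) → (i ∈ J → u = 0) →
      π (x (D.simple i) (t + u)) = π (x (D.simple i) t) + π (x (D.simple i) u) := by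
    intro i t u ht hu
    rw [← hπ _ (hxs i t ht) _ (hxs i u hu), h.add _ (RS.simple_lt i)]
  have hx0 : ∀ i : Fin D.rank, π (x (D.simple i) 0) = 0 := fun i => by
    rw [show x (D.simple i) 0 = 1 from h.toSt.x_zero (simpleR i), hπ1]
  let V : AddSubgroup (Fin D.rank → F) :=
    { carrier := {v | (∀ i ∈ J, v i = 0) ∧ ∑ i : Fin D.rank, π (x (D.simple i) (v i)) = 0}
      zero_mem' := ⟨fun _ _ => rfl, by simp [hx0]⟩
      add_mem' := by
        rintro a b ⟨a1, a2⟩ ⟨b1, b2⟩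
        refine ⟨fun i hi => by simp [a1 i hi, b1 i hi], ?_⟩
        simp only [Pi.add_apply]
        rw [Finset.sum_congr rfl fun i _ => hadd i _ _ (a1 i) (b1 i), Finset.sum_add_distrib, a2, b2,
          add_zero]
      neg_mem' := by
        rintro a ⟨a1, a2⟩
        refine ⟨fun i hi => by simp [a1 i hi], ?_⟩
        have : ∀ i : Fin D.rank, π (x (D.simple i) ((-a) i)) = - π (x (D.simple i) (a i)) := by
          intro i
          rw [eq_neg_iff_add_eq_zero, ← hadd i _ _ (fun hi => by simp [a1 i hi]) (a1 i)]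
          simp [hx0]
        rw [Finset.sum_congr rfl fun i _ => this i, Finset.sum_neg_distrib, a2, neg_zero] }
  have hlist : ∀ (v : Fin D.rank → F), (∀ i ∈ J, v i = 0) → ∀ l : List (Fin D.rank),
      (l.map fun i : Fin D.rank => x (D.simple i) (v i)).prod ∈ T.UJ J ∧
      π (l.map fun i : Fin D.rank => x (D.simple i) (v i)).prod =
        (l.map fun i : Fin D.rank => π (x (D.simple i) (v i))).sum := by
    intro v hv l
    induction l with
    | nil => exact ⟨one_mem _, hπ1⟩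
    | cons a l ih =>
      simp only [List.map_cons, List.prod_cons, List.sum_cons]
      exact ⟨mul_mem (hxs a _ (hv a)) ih.1, by rw [hπ _ (hxs a _ (hv a)) _ ih.1, ih.2]⟩
  have hVmem : ∀ (v : Fin D.rank → F), (∀ i ∈ J, v i = 0) → (v ∈ V ↔
      ((List.finRange D.rank).map fun i : Fin D.rank => x (D.simple i) (v i)).prod ∈ M) := by
    intro v hv
    rw [← hπ0 _ (hlist v hv _).1, (hlist v hv _).2, ← List.ofFn_eq_map, List.sum_ofFn]
    exact ⟨fun h => h.2, fun h => ⟨hv, h⟩⟩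
  have hcoord : ∀ z ∈ T.UJ J, ∃ v : Fin D.rank → F, (∀ i ∈ J, v i = 0) ∧
      π z = ∑ i : Fin D.rank, π (x (D.simple i) (v i)) ∧
      ∀ i : Fin D.rank, (x (D.simple i) (v i))⁻¹ * z ∈ T.Up i := by
    intro z hz
    refine gen_induction_right (p := fun z => ∃ v : Fin D.rank → F, (∀ i ∈ J, v i = 0) ∧
      π z = ∑ i : Fin D.rank, π (x (D.simple i) (v i)) ∧
      ∀ i : Fin D.rank, (x (D.simple i) (v i))⁻¹ * z ∈ T.Up i) ?_ ?_ hz
    · refine ⟨0, fun _ _ => rfl, by simp [hx0, hπ1], fun i => ?_⟩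
      rw [show x (D.simple i) ((0 : Fin D.rank → F) i) = 1 from h.toSt.x_zero (simpleR i)]
      simpa using one_mem _
    · rintro g hg c ⟨hc1, hc2⟩ y hy ⟨v, v1, v2, v3⟩
      obtain ⟨t, rfl⟩ := h.toSt.mem_XR.1 hy
      have hUp : ∀ i : Fin D.rank, c ≠ simpleR i → x c t ∈ T.Up i := fun i hi =>
        le_gen (XR D x) (S := {r | Pos r ∧ r ≠ simpleR i}) ⟨hc1, hi⟩ (x_mem_XR D x c t)
      by_cases hcs : ∀ k, c ≠ simpleR k
      · refine ⟨v, v1, by rw [hπ _ hg _ (hx c hc1 hc2 t), hns c hc1 hc2 hcs, add_zero, v2],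
          fun i => ?_⟩
        rw [← mul_assoc]; exact mul_mem (v3 i) (hUp i (hcs i))
      · push Not at hcs
        obtain ⟨k, rfl⟩ := hcs
        have hk : k ∉ J := fun e => hc2 (WData.p_mem_PhiJ _ e)
        have hs : ∀ i ∈ J, (Pi.single k t : Fin D.rank → F) i = 0 := fun i hi =>
          Pi.single_eq_of_ne (by rintro rfl; exact hk hi) _
        refine ⟨v + Pi.single k t, fun i hi => by simp [v1 i hi, hs i hi], ?_, fun i => ?_⟩
        · rw [hπ _ hg _ (hx _ hc1 hc2 t), v2]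
          simp only [Pi.add_apply]
          rw [Finset.sum_congr rfl fun i _ => hadd i _ _ (v1 i) (hs i), Finset.sum_add_distrib]
          congr 1
          rw [Finset.sum_eq_single k (fun i _ hi => by rw [Pi.single_eq_of_ne hi, hx0]) (by simp)]
          simp
        · rcases eq_or_ne i k with rfl | hi
          · simp only [Pi.add_apply, Pi.single_eq_same, simpleR_val]
            rw [← h.add _ (RS.simple_lt i)]
            have := T.X_conj_Up (inv_mem (x_mem_XR D x (simpleR i) t)) (v3 i)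
            convert this using 1
            simp [mul_assoc]
          · simp only [Pi.add_apply, Pi.single_eq_of_ne hi, add_zero]
            rw [← mul_assoc]; exact mul_mem (v3 i) (hUp i (by simpa using hi.symm))
  let L0 : Set (Fin D.rank → ℤ) :=
    {l | ∃ a : Fin D.rank → ℤ, l =
      fun k : Fin D.rank => ∑ m : Fin D.rank, a m * D.cartan m (D.simple k)}
  have hV : ∀ l ∈ L0, ∀ c : Fˣ, ∀ v ∈ V, (fun k => ((c ^ l k : Fˣ) : F) * v k) ∈ V := by
    rintro _ ⟨a, rfl⟩ c v hv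
    obtain ⟨g, hg, hg'⟩ := hH fun i => c ^ a i
    rw [hVmem _ (fun i hi => by simp [hv.1 i hi])]
    have := hMn g (T.H_le_B hg) _ ((hVmem v hv.1).1 hv)
    rw [RGD.list_prod_conj] at this
    convert this using 3
    funext i
    rw [show g * x (D.simple i) (v i) * g⁻¹ = _ from hg' (simpleR i) (v i), zpow_finset_sum]
    simp only [simpleR_val, zpow_mul]
  have hsimp : ∀ i, i ∉ J → ∀ s, π (x (D.simple i) s) = 0 := by
    intro i hi s
    obtain ⟨z, hz, hzi⟩ := SetLike.not_le_iff_exists.1 (show ¬ X ≤ T.Up i from hi)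
    obtain ⟨v, v1, v2, v3⟩ := hcoord z (hXQ hz)
    have hv : v ∈ V := ⟨v1, v2 ▸ (hπ0 z (hXQ hz)).2 (Subgroup.mem_sup_left hz)⟩
    have hvi : v i ≠ 0 := fun e => hzi (by
      have := v3 i
      rwa [e, show x (D.simple i) 0 = 1 from h.toSt.x_zero (simpleR i), inv_one, one_mul] at this)
    have := (single_mem_of_inv V L0 hV i ?_ ⟨_, ⟨Pi.single i 1, rfl⟩, ?_⟩ hv hvi s).2
    · rwa [Finset.sum_eq_single i (fun j _ hj => by rw [Pi.single_eq_of_ne hj, hx0]) (by simp),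
        Pi.single_eq_same] at this
    · intro j hj
      simp only [wcB, List.all_eq_true, List.mem_range, Bool.or_eq_true, decide_eq_true_eq,
        Bool.and_eq_true] at hB
      obtain e | ⟨e1, e2⟩ := hB i i.2 j j.2
      · exact absurd (Fin.ext e) hj
      refine ⟨_, ⟨fun m => ((L'.getD i []).getD j []).getD m 0, rfl⟩, ?_⟩
      rcases e2 with e2 | ⟨hbig, e2⟩
      · obtain ⟨a, a0, a1⟩ := h2
        refine ⟨Units.mk0 a a0, e1, ?_⟩
        rw [show (∑ m : Fin D.rank, _) = (1 : ℤ) from e2, zpow_one]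
        exact fun e => a1 (congrArg Units.val e)
      · obtain ⟨a, b, a0, a1, b0, b1, ab⟩ := h3 hbig
        obtain ⟨c, c0, c1, c2⟩ : ∃ c : F, c ≠ 0 ∧ c ≠ 1 ∧ c ≠ -1 := by
          by_cases ha : a = -1
          · exact ⟨b, b0, b1, fun e => ab (ha.trans e.symm)⟩
          · exact ⟨a, a0, a1, ha⟩
        refine ⟨Units.mk0 c c0, e1, ?_⟩
        rw [show (∑ m : Fin D.rank, _) = (2 : ℤ) from e2]
        intro e
        have : c ^ 2 = 1 := by simpa [zpow_ofNat] using congrArg Units.val e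
        rcases sq_eq_one_iff.1 this with e | e
        exacts [c1 e, c2 e]
    · rw [Finset.sum_eq_single i (fun j _ hj => by simp [hj]) (by simp)]
      simp [cartan_simple_self]
  refine gen_le ?_
  rintro c ⟨hc1, hc2⟩ y hy
  obtain ⟨t, rfl⟩ := h.toSt.mem_XR.1 hy
  rw [← hπ0 _ (hx c hc1 hc2 t)]
  by_cases hcs : ∀ k, c ≠ simpleR k
  · exact hns c hc1 hc2 hcs t
  · push Not at hcs
    obtain ⟨k, rfl⟩ := hcs
    exact hsimp k (fun e => hc2 (WData.p_mem_PhiJ _ e)) t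

end H67
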