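import Cfsg.Agent.H63.KgvSpec
import Cfsg.Agent.H28.GenChar

/-! Tower KGV, slot JI0: linear characters. -/

set_option autoImplicit false

namespace H67.KgvI0

open Finset Cfsg H63.Kgv _root_.H28

universe u

theorem sum_one {ι : Type} (s : Finset ι) (m : ι → ℕ) (h : ∑ x ∈ s, m x = 1) :
    ∃ w ∈ s, m w = 1 ∧ ∀ x ∈ s, x ≠ w → m x = 0 := by
  classical
  obtain ⟨w, hw, h0⟩ := Finset.exists_ne_zero_of_sum_ne_zero (h ▸ one_ne_zero)
  rw [← Finset.add_sum_erase s m hw] at h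
  refine ⟨w, hw, by omega, fun x hx hn => ?_⟩
  exact Finset.sum_eq_zero_iff.1 (by omega) x (Finset.mem_erase.2 ⟨hn, hx⟩)

theorem job : JI0.{u} := by
  intro gc eg p _ M K _ _ θ a H hs E _ _ hE d χ hd hχ h1 hq
  obtain ⟨g1, -, g3, g4, -, g6, -, g8⟩ := gc p E
  have hc : IsCharacter E χ := hχ.isCharacter
  have key : ∀ t, t ≠ 0 → ∀ y, gam θ H d χ t y =
      ((-1 : ℤ) : ℂ) * ∑ j ∈ range (p ^ d - 1), ee p (t * a d j) * (χ ^ j) y := by
    intro t ht y
    have hy : y ^ (Fintype.card K - 1) = 1 := by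
      rw [hs.card, ← orderOf_dvd_iff_pow_eq_one]
      exact (orderOf_dvd_natCard y).trans hE
    have h := (eg K θ E hs.inj).2 χ y hc hy
    have h0 := h 0
    simp only [pow_zero, mul_one, h1] at h0
    obtain ⟨w, -, w1, w0⟩ := sum_one _ (em θ χ y) (by exact_mod_cast h0.symm)
    have hj : ∀ j : ℕ, χ (y ^ j) = (θ w : ℂ) ^ j := fun j => by
      rw [h j, Finset.sum_eq_single w (fun x hx hn => by rw [w0 x hx hn]; simp) (by simp), w1]
      simp
    have hw : χ y = θ w := by simpa using hj 1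
    have hf : w ^ p ^ d = w := hs.inj (Units.ext (by
      rw [map_pow, Units.val_pow_eq_pow_val, ← hj, hq, hw]))
    rw [gam, Finset.prod_eq_single w (fun x hx hn => by rw [w0 x hx hn]; simp) (by simp), w1,
      mul_one, hs.lin t d w ht hd hf]
    simp [hw]
  exact g1 _ _ (g3 _ _ (g6 (-1)) (g8 ℕ (range (p ^ d - 1))
    (fun j t y => ee p (t * a d j) * (χ ^ j) y)
    fun j _ => g4 _ _ (hc.pow j).isGeneralizedCharacter).1) key

end H67.KgvI0
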