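import Cfsg.Agent.H40.CSSpec

/-! S4161, coset count (backup proof of `JobU`). -/

set_option autoImplicit false

namespace H67.CsU

open Cfsg Subgroup H40.CS

universe u

open Classical in
theorem out_le {G : Type u} [Group G] [Fintype G] (U C : Subgroup G) [U.Normal] :
    U.index * (Finset.univ.filter fun g : G => g ∉ U ∧ g ∈ C).card + Nat.card C ≤
      U.index * Nat.card C := by
  have h1 : (Finset.univ.filter fun g : G => g ∉ U ∧ g ∈ C).card + Nat.card (U.subgroupOf C) =
      Nat.card C := by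
    have e1 : Nat.card C = (Finset.univ.filter fun g : G => g ∈ C).card := by
      rw [Nat.card_eq_fintype_card, Fintype.card_subtype]
    have e2 : Nat.card (U.subgroupOf C) = (Finset.univ.filter fun g : G => g ∈ U ⊓ C).card := by
      rw [← inf_subgroupOf_right, Nat.card_congr (subgroupOfEquivOfLe inf_le_right).toEquiv,
        Nat.card_eq_fintype_card, Fintype.card_subtype]
    rw [e1, e2, ← Finset.card_filter_add_card_filter_not (s := Finset.univ.filter fun g : G => g ∈ C)
      (fun g => g ∉ U), Finset.filter_filter, Finset.filter_filter]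
    congr 2 <;> ext g <;> simp [and_comm]
  have h2 : Nat.card C ≤ U.index * Nat.card (U.subgroupOf C) := by
    rw [← (U.subgroupOf C).index_mul_card]
    exact Nat.mul_le_mul_right _ (Nat.le_of_dvd (Nat.pos_of_ne_zero U.index_ne_zero_of_finite)
      (relIndex_dvd_index_of_normal U C))
  rw [← h1] at h2 ⊢
  nlinarith

theorem job : JobU.{u} := by
  intro hB G _ _ s hs U hU hne h
  classical
  haveI := Fact.mk hs
  haveI := Fintype.ofFinite G
  haveI := Fintype.ofFinite (Sylow s G)
  let C : Sylow s G → Subgroup G := fun T => centralizer ((T : Subgroup G) : Set G)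
  have f3 : ∀ g : G, ¬ s ∣ cs g ↔ ∃ T, g ∈ C T := (hB G).f3 s
  obtain ⟨k, hk⟩ : ∃ k, U.index = k + 2 := ⟨U.index - 2, by
    have h0 := U.index_ne_zero_of_finite
    have h1 : U.index ≠ 1 := fun e => hne (index_eq_one.1 e)
    omega⟩
  let W := Finset.univ.filter fun g : G => g ∉ U
  let a : Sylow s G → ℕ := fun T => (Finset.univ.filter fun g : G => g ∉ U ∧ g ∈ C T).card
  let b : G → ℕ := fun g => (Finset.univ.filter fun T => g ∈ C T).card
  have hW : W.card = (k + 1) * Nat.card U := by
    have e1 := Finset.card_filter_add_card_filter_not (s := Finset.univ) (fun g : G => g ∈ U)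
    have e2 := U.index_mul_card
    rw [← Fintype.card_subtype, Finset.card_univ, ← Nat.card_eq_fintype_card,
      ← Nat.card_eq_fintype_card, ← e2, hk] at e1
    change _ + W.card = _ at e1
    nlinarith
  have hab : ∑ T, a T = ∑ g ∈ W, b g := by
    simp only [a, b, W, Finset.card_filter, Finset.sum_filter]
    rw [Finset.sum_comm]
    refine Finset.sum_congr rfl fun g _ => ?_
    by_cases hg : g ∈ U <;> simp [hg]
  have hb : ∀ g ∈ W, 1 ≤ b g := fun g hg => by
    obtain ⟨T, hT⟩ := (f3 g).1 (h g (Finset.mem_filter.1 hg).2)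
    exact Finset.card_pos.2 ⟨T, Finset.mem_filter.2 ⟨Finset.mem_univ _, hT⟩⟩
  obtain ⟨n, hn⟩ : ∃ n, n = Nat.card (Sylow s G) := ⟨_, rfl⟩
  have hn0 : 0 < n := hn ▸ Nat.card_pos
  have hN : ∀ T : Sylow s G, n * Nat.card (normalizer ((T : Subgroup G) : Set G)) =
      (k + 2) * Nat.card U := fun T => by
    rw [hn, T.card_eq_index_normalizer, ← hk, U.index_mul_card]
    exact index_mul_card _
  have hle : ∀ T : Sylow s G, Nat.card (C T) ≤ Nat.card (normalizer ((T : Subgroup G) : Set G)) :=
    fun T => card_le_of_le (centralizer_le_normalizer _)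
  have ha0 : ∀ T, (k + 2) * a T ≤ (k + 1) * Nat.card (C T) := fun T => by
    have := out_le U (C T)
    rw [hk] at this
    have e : (k + 2) * a T + Nat.card (C T) ≤ (k + 2) * Nat.card (C T) := by convert this
    nlinarith
  have ha : ∀ T, n * a T ≤ W.card := fun T => by
    refine Nat.le_of_mul_le_mul_left ?_ (show 0 < k + 2 by omega)
    calc (k + 2) * (n * a T) = n * ((k + 2) * a T) := by ring
      _ ≤ n * ((k + 1) * Nat.card (normalizer ((T : Subgroup G) : Set G))) :=
        Nat.mul_le_mul_left _ ((ha0 T).trans (Nat.mul_le_mul_left _ (hle T)))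
      _ = (k + 1) * (n * Nat.card (normalizer ((T : Subgroup G) : Set G))) := by ring
      _ = _ := by rw [hN, hW]; ring
  have s1 : ∑ g ∈ W, 1 ≤ ∑ g ∈ W, b g := Finset.sum_le_sum hb
  have s2 : ∑ T, n * a T ≤ ∑ _T : Sylow s G, W.card := Finset.sum_le_sum fun T _ => ha T
  have s3 : ∑ _T : Sylow s G, W.card = n * W.card := by
    rw [Finset.sum_const, Finset.card_univ, ← Nat.card_eq_fintype_card, ← hn, smul_eq_mul]
  have s4 : ∑ T, n * a T = n * ∑ g ∈ W, b g := by rw [← Finset.mul_sum, hab]
  have s5 : ∑ g ∈ W, 1 = W.card := (Finset.card_eq_sum_ones W).symm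
  have s6 : ∑ g ∈ W, b g = W.card :=
    le_antisymm (Nat.le_of_mul_le_mul_left (by rw [← s4, ← s3]; exact s2) hn0) (s5 ▸ s1)
  have b1 := (Finset.sum_eq_sum_iff_of_le hb).1 (s5.trans s6.symm)
  have a1 := (Finset.sum_eq_sum_iff_of_le fun T (_ : T ∈ Finset.univ) => ha T).1
    (by rw [s4, s3, s6])
  have hNC : ∀ T : Sylow s G, normalizer ((T : Subgroup G) : Set G) ≤ C T := fun T => by
    refine (eq_of_le_of_card_ge (centralizer_le_normalizer _) ?_).ge
    refine Nat.le_of_mul_le_mul_left ?_ (show 0 < n * (k + 1) by positivity)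
    calc n * (k + 1) * Nat.card (normalizer ((T : Subgroup G) : Set G))
        = (k + 1) * (n * Nat.card (normalizer ((T : Subgroup G) : Set G))) := by ring
      _ = (k + 2) * (n * a T) := by rw [hN, a1 T (Finset.mem_univ _), hW]; ring
      _ = n * ((k + 2) * a T) := by ring
      _ ≤ n * ((k + 1) * Nat.card (C T)) := Nat.mul_le_mul_left _ (ha0 T)
      _ = _ := by ring
  refine ⟨⟨default, _, inferInstance,
    MonoidHom.ker_transferSylow_isComplement' default (hNC default)⟩, fun g hg x hx => ?_⟩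
  obtain ⟨T, hT⟩ := (f3 g).1 (h g hg)
  refine (f3 x).2 ⟨T, hNC T (Sylow.smul_eq_iff_mem_normalizer.1 ?_)⟩
  refine Finset.card_le_one.1 (b1 g (Finset.mem_filter.2 ⟨Finset.mem_univ _, hg⟩)).ge _
    (Finset.mem_filter.2 ⟨Finset.mem_univ _, ?_⟩) _ (Finset.mem_filter.2 ⟨Finset.mem_univ _, hT⟩)
  rintro _ ⟨t, ht, rfl⟩
  change x * t * x⁻¹ * g = g * (x * t * x⁻¹)
  calc x * t * x⁻¹ * g = x * (t * g) * x⁻¹ := by rw [mul_assoc, ← hx.inv_right.eq]; group
    _ = _ := by rw [hT t ht, ← mul_assoc, ← hx.eq]; group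

end H67.CsU
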