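import Cfsg.Agent.H20.DGSpec

/-! Tower DG (S3579), slot W0. -/

set_option autoImplicit false

namespace H67.DgW0

open Subgroup MulAction Cfsg _root_.H98 H20.DG

universe u

section add

variable {M : Type u} [AddCommGroup M] {p : ℕ}

theorem nil0 (hp : p.Prime) (hM : ∀ m : M, p • m = 0) (f : AddMonoid.End M)
    (hσ : (1 + f) ^ p = 1) : f ^ p = 0 := by
  obtain ⟨r, hr⟩ := (Commute.one_left f).exists_add_pow_prime_eq hp
  have h0 : (p : AddMonoid.End M) = 0 := by
    ext m; simp [AddMonoid.End.natCast_apply, hM]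
  rw [hσ, h0] at hr
  simpa using hr

theorem nil (hp : p.Prime) (hM : ∀ m : M, p • m = 0) (f : M →+ M)
    (hσ : ∀ m, (fun m => m + f m)^[p] m = m) (m : M) : f^[p] m = 0 := by
  let g : AddMonoid.End M := f
  have h := nil0 hp hM g (DFunLike.ext _ _ fun m => by
    rw [AddMonoid.End.coe_pow]; exact hσ m)
  have h2 := DFunLike.congr_fun h m
  rw [AddMonoid.End.coe_pow] at h2
  exact h2

theorem card_pow [Finite M] (hp : p.Prime) (hM : ∀ m : M, p • m = 0) (D : AddSubgroup M) :
    ∃ k, Nat.card D = p ^ k := by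
  haveI := Fact.mk hp
  have h : IsPGroup p (Multiplicative D) := fun g => ⟨1, by
    rw [pow_one]
    exact Subtype.ext (hM (g.toAdd : D))⟩
  obtain ⟨k, hk⟩ := (IsPGroup.iff_card (G := Multiplicative D)).1 h
  exact ⟨k, hk⟩

theorem step [Finite M] (hp : p.Prime) (hM : ∀ m : M, p • m = 0) (f : M →+ M)
    (hf : ∀ m, f^[p] m = 0) {D : AddSubgroup M} (hD : D.map f ≤ D) {k : ℕ}
    (hc : Nat.card D ≤ p ^ (k + 1)) : Nat.card (D.map f) ≤ p ^ k := by
  by_cases h : D ≤ D.map f
  · have key : ∀ n : ℕ, ∀ d ∈ D, ∃ e ∈ D, d = f^[n] e := fun n => by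
      induction n with
      | zero => exact fun d hd => ⟨d, hd, rfl⟩
      | succ n ih =>
        intro d hd
        obtain ⟨e, he, rfl⟩ := ih d hd
        obtain ⟨e', he', rfl⟩ := h he
        exact ⟨e', he', rfl⟩
    have hb : D = ⊥ := eq_bot_iff.2 fun d hd => by
      obtain ⟨e, _, rfl⟩ := key p d hd
      exact AddSubgroup.mem_bot.2 (hf e)
    rw [hb, AddSubgroup.map_bot, AddSubgroup.card_bot]
    exact Nat.one_le_pow _ _ hp.pos
  · have hl : Nat.card (D.map f) < Nat.card D :=
      lt_of_not_ge fun hh => h (AddSubgroup.eq_of_le_of_card_ge hD hh).ge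
    obtain ⟨l, e1⟩ := card_pow hp hM (D.map f)
    obtain ⟨m, e2⟩ := card_pow hp hM D
    rw [e1, e2] at hl
    rw [e2] at hc
    rw [e1]
    have h1 := (Nat.pow_lt_pow_iff_right hp.one_lt).1 hl
    have h2 := (Nat.pow_le_pow_iff_right hp.one_lt).1 hc
    exact Nat.pow_le_pow_right hp.pos (by omega)

theorem cube [Finite M] (hp : p.Prime) (hM : ∀ m : M, p • m = 0) (f : M →+ M)
    (hf : ∀ m, f^[p] m = 0) (hi : f.ker.index ≤ p ^ 2) (b : M) : f (f (f b)) = 0 := by
  rw [AddSubgroup.index_ker] at hi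
  have h1 : f.range.map f ≤ f.range :=
    AddSubgroup.map_le_range _ _
  have h2 := step hp hM f hf h1 hi
  have h3 := step hp hM f hf (AddSubgroup.map_mono h1) h2
  rw [pow_zero, AddSubgroup.card_le_one_iff_eq_bot] at h3
  have h4 : f (f (f b)) ∈ ((f.range.map f).map f) :=
    ⟨_, ⟨_, ⟨b, rfl⟩, rfl⟩, rfl⟩
  rwa [h3, AddSubgroup.mem_bot] at h4

theorem sum_eq (σ : M →+ M) {b c d : M} (hb : σ b = b + c) (hc : σ c = c + d) (hd : σ d = d)
    (n : ℕ) : b + σ (n • b + n.choose 2 • c + n.choose 3 • d) =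
      (n + 1) • b + (n + 1).choose 2 • c + (n + 1).choose 3 • d := by
  rw [Nat.choose_succ_succ' n 1, Nat.choose_succ_succ' n 2, Nat.choose_one_right]
  simp only [map_add, map_nsmul, hb, hc, hd]
  module

end add

theorem jobW0 : JobW0.{u} := by
  intro G _ _ p A x hp h5 hA hx hxp hi b hb
  letI : CommGroup A :=
    { (inferInstance : Group A) with mul_comm := fun a b => Subtype.ext (hA.1 a a.2 b b.2) }
  let τ : A →* A := (A.normalizerMonoidHom ⟨x, hx⟩).toMonoidHom
  let σ : Additive A →+ Additive A := MonoidHom.toAdditive τ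
  have hs : ∀ m : Additive A, ((σ m).toMul : G) = x * m.toMul * x⁻¹ := fun m => rfl
  have hM : ∀ m : Additive A, p • m = 0 := fun m => Subtype.ext (hA.2 _ m.toMul.2)
  have hn : ∀ (n : ℕ) (m : Additive A), ((σ^[n] m).toMul : G) = x ^ n * m.toMul * (x ^ n)⁻¹ := by
    intro n
    induction n with
    | zero => intro m; simp
    | succ n ih =>
      intro m
      rw [Function.iterate_succ_apply', hs, ih, pow_succ']
      group
  obtain ⟨f, hf⟩ : ∃ f : Additive A →+ Additive A, ∀ m, f m = σ m - m :=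
    ⟨σ - AddMonoidHom.id _, fun m => rfl⟩
  have e0 : ∀ m : Additive A, σ m = m + f m := fun m => by rw [hf]; abel
  have hσ : ∀ m, (fun m => m + f m)^[p] m = m := fun m => by
    have := hn p m
    rw [hxp, one_mul, inv_one, mul_one] at this
    rw [← funext e0]
    exact Subtype.ext this
  have hk : f.ker = toAddSubgroup ((centralizer ({x} : Set G)).subgroupOf A) := by
    ext m
    change f m = 0 ↔ ((m.toMul : A) : G) ∈ centralizer ({x} : Set G)
    rw [hf, sub_eq_zero, mem_centralizer_singleton_iff]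
    constructor
    · intro e
      have := hs m
      rw [e] at this
      exact eq_mul_inv_iff_mul_eq.1 this
    · intro e
      exact Subtype.ext ((hs m).trans (mul_inv_eq_iff_eq_mul.2 e.symm))
  have h3 := cube hp hM f (nil hp hM f hσ) (by rw [hk, index_toAddSubgroup]; exact hi)
  obtain ⟨β, hβ⟩ : ∃ β : Additive A, (β.toMul : G) = b := ⟨Additive.ofMul ⟨b, hb⟩, rfl⟩
  have key : ∀ n : ℕ, (b * x) ^ n =
      ((n • β + n.choose 2 • f β + n.choose 3 • f (f β)).toMul : G) * x ^ n := by
    intro n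
    induction n with
    | zero => simp
    | succ n ih =>
      rw [← sum_eq σ (e0 β) (e0 _) (by rw [e0, h3, add_zero]) n, pow_succ', ih]
      generalize n • β + n.choose 2 • f β + n.choose 3 • f (f β) = s
      rw [toMul_add, coe_mul, hs, hβ, pow_succ']
      group
  have z : ∀ (k : ℕ) (m : Additive A), k ≠ 0 → k < p → p.choose k • m = 0 := fun k m h1 h2 => by
    obtain ⟨t, ht⟩ := hp.dvd_choose_self h1 h2
    rw [ht, mul_smul, hM]
  have h1 : (b * x) ^ p = 1 := by
    rw [key, hM, z 2 _ (by omega) (by omega), z 3 _ (by omega) (by omega), hxp]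
    simp
  have e : x * b = x * (b * x) * x⁻¹ := by group
  rw [e, conj_pow, h1]
  simp

end H67.DgW0
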