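import Cfsg.Agent.H14.FESpec
import Cfsg.Agent.H98.JoinSylow

/-! Tower FE (S1308): job CS. -/

set_option autoImplicit false
set_option linter.unusedSectionVars false

namespace H67.FeCS

open Cfsg Subgroup MulAction H14 _root_.H98 H1.Gold H31.S2 H14.GC H14.FE

universe u

variable {G : Type u} [Group G] [Finite G] {A : Subgroup G}

theorem exists_inv {P : Subgroup G} (hP : IsPGroup 2 P) (hne : P ≠ ⊥) : ∃ d ∈ P, Inv d := by
  have h2 : 2 ∣ Nat.card P := by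
    by_contra h
    exact hne ((isSyl_self hP).eq_bot_iff.2 h)
  obtain ⟨x, hx⟩ := exists_prime_orderOf_dvd_card' (G := P) 2 h2
  exact ⟨x, x.2, inv_iff.2 (by rw [orderOf_coe, hx])⟩

theorem syl_ne_bot {B T : Subgroup G} (hB : Four B) (hT : IsSyl 2 T B) : T ≠ ⊥ := fun e => by
  obtain ⟨s, hs, -, -, h1, -⟩ := hB
  refine hT.eq_bot_iff.1 e ?_
  rw [← inv_iff.1 h1]
  exact orderOf_dvd_natCard B hs

theorem vx_cj {B : Subgroup G} (h : Vx A B) (g : G) : Vx A (cj g B) := by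
  obtain ⟨x, rfl⟩ := h
  exact ⟨g * x, cj_cj _ _ _⟩

theorem cj_mem_CP {P B : Subgroup G} (h : B ∈ FE.CP A P) (g : G) : cj g B ∈ FE.CP A (cj g P) :=
  ⟨vx_cj h.1 g, by rw [← cj_inf]; exact fun e => h.2 (cj_eq_bot_iff.1 e)⟩

theorem clq (h : MC A) {P : Subgroup G} (hP : IsPGroup 2 P) : Clq A (FE.CP A P) := by
  refine ⟨fun B hB => hB.1, fun B hB B' hB' => ?_⟩
  obtain ⟨d, hd, d2⟩ := exists_inv (hP.to_inf_left (K := B)) hB.2
  obtain ⟨e, he, e2⟩ := exists_inv (hP.to_inf_left (K := B')) hB'.2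
  exact h.f3 B B' hB.1 hB'.1 d hd.2 e he.2 d2 e2 P hP hd.1 he.1

theorem sym (h : MC A) {B B' : Subgroup G} (hB : Vx A B) (hB' : Vx A B') (hn : B ≤ nor B') :
    B' ≤ nor B := by
  obtain ⟨d, hd, -, -, d2, -⟩ := h.four B hB
  obtain ⟨P, hP, hdP⟩ := exists_isSyl_le (H := nor B') d2.isPGroup (zpowers_le.2 (hn hd))
  have h1 := hP.inf_of_le_normalizer le_normalizer hP.le
  obtain ⟨e, he, e2⟩ := exists_inv h1.isPGroup (syl_ne_bot (h.four B' hB') h1)
  exact h.f3 B' B hB' hB e he.2 d hd e2 d2 P hP.isPGroup he.1 (hdP (mem_zpowers d))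

theorem part2 (h : MC A) {C : Set (Subgroup G)} (hC : Clq A C) :
    ∃ S, IsSyl 2 S ⊤ ∧ C ⊆ FE.CP A S := by
  obtain ⟨T, hT⟩ := exists_isSyl 2 (⨅ B ∈ C, nor B)
  obtain ⟨S, hS, hTS⟩ := exists_isSyl_le (H := ⊤) hT.isPGroup le_top
  refine ⟨S, hS, fun B hB => ⟨hC.1 B hB, fun e => ?_⟩⟩
  have h1 := hT.inf_of_le_normalizer (N := B) (le_iInf₂ fun B' hB' => hC.2 B hB B' hB')
    (hT.le.trans (iInf₂_le B hB))
  exact syl_ne_bot (h.four B (hC.1 B hB)) h1 (le_bot_iff.1 ((inf_le_inf_right B hTS).trans e.le))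

theorem syl (h : MC A) {S B : Subgroup G} (hS : IsSyl 2 S ⊤) (hB : B ∈ FE.CP A S) :
    IsSyl 2 (S ⊓ B) B := by
  have hc := clq h hS.isPGroup
  have hn : S ≤ nor (sSup (FE.CP A S)) := fun g hg => mem_normalizer_of_cj_le (cj_le_iff.2
    (sSup_le fun B' hB' => cj_le_iff.1 (le_sSup (by
      have := cj_mem_CP hB' g
      rwa [cj_eq_self_of_mem hg] at this))))
  have h1 := hS.inf_of_le_normalizer le_top hn
  have h2 := h1.inf_of_le_normalizer (le_sSup hB)
    (inf_le_right.trans (sSup_le fun B' hB' => hc.2 B' hB' B hB))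
  rwa [inf_assoc, inf_of_le_right (le_sSup hB)] at h2

theorem wiel (h : MC A) {S : Subgroup G} (hS : IsSyl 2 S ⊤) (C : Set (Subgroup G))
    (hC : C ⊆ FE.CP A S) : S ⊓ sSup C ≤ ⨆ B ∈ C, S ⊓ B := by
  have hc := clq h hS.isPGroup
  induction C, Set.toFinite C using Set.Finite.induction_on with
  | empty => simp
  | @insert B C _ _ ih =>
    have hB : B ∈ FE.CP A S := hC (Set.mem_insert _ _)
    have hC' : C ⊆ FE.CP A S := (Set.subset_insert _ _).trans hC
    have hn : B ≤ nor (sSup C) := by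
      rw [sSup_eq_iSup]
      exact le_normalizer_iSup fun B' => le_normalizer_iSup fun hB' => hc.2 B hB B' (hC' hB')
    have := inf_sup_le_of_normal hS.isPGroup (syl h hS hB) hn
    rw [sSup_insert, iSup_insert, inf_comm, sup_comm B]
    refine this.trans (sup_le ?_ ?_)
    · rw [inf_comm]
      exact (ih hC').trans le_sup_right
    · rw [inf_comm]
      exact le_sup_left

theorem ncard_cj (P : Subgroup G) (g : G) : (FE.CP A (cj g P)).ncard ≤ (FE.CP A P).ncard := by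
  refine Set.ncard_le_ncard_of_injOn (cj g⁻¹) (fun B hB => ?_) (fun _ _ _ _ e => cj_inj.1 e)
  have := cj_mem_CP hB g⁻¹
  rwa [cj_inv_cj] at this

theorem mclq (h : MC A) {S : Subgroup G} (hS : IsSyl 2 S ⊤) : MClq A (FE.CP A S) := by
  have hc := clq h hS.isPGroup
  refine ⟨hc, fun B hB hn => ?_⟩
  have h1 : Clq A (insert B (FE.CP A S)) := by
    refine ⟨?_, ?_⟩
    · rintro X (rfl | hX)
      exacts [hB, hX.1]
    · rintro X (rfl | hX) Y (rfl | hY)
      exacts [le_normalizer, hn Y hY, sym h hB hX.1 (hn X hX), hc.2 X hX Y hY]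
  obtain ⟨S', hS', hs⟩ := part2 h h1
  obtain ⟨g, -, rfl⟩ := hS.exists_cj_eq hS'
  by_contra hno
  have h2 := (Set.ncard_le_ncard hs).trans (ncard_cj S g)
  rw [Set.ncard_insert_of_notMem hno] at h2
  omega

theorem jobCS : H14.FE.JobCS.{u} := fun _ _ _ _ h =>
  ⟨fun _ hS => ⟨mclq h hS, fun _ hB => syl h hS hB, wiel h hS _ le_rfl⟩, fun _ hC => part2 h hC⟩

end H67.FeCS
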