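import Cfsg.Agent.H14.FESpec
import Cfsg.Agent.S1137
import Cfsg.Agent.S1138
import Cfsg.Agent.S1225

/-! Tower FE (S1308): job SEM. -/

set_option autoImplicit false
set_option linter.unusedSectionVars false

namespace H67.FeSEM

open Cfsg Subgroup MulAction H14 _root_.H98 H1.Gold H31.S2 H14.GC H14.FE

universe u

theorem trans {X : Type u} [Group X] [Finite X] {M : Subgroup X} (hM : IsStronglyEmbedded M)
    {x y : X} (hx : x ∈ M) (hy : y ∈ M) (x2 : Inv x) (y2 : Inv y) : ∃ m ∈ M, m * x * m⁻¹ = y := by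
  obtain ⟨g, hg⟩ : ∃ g : X, g ∉ M := by
    by_contra h
    push Not at h
    exact hM.1 (eq_top_iff.2 fun g _ => h g)
  have hu : g * x * g⁻¹ ∉ M := fun h => by
    have h1 : g * x * g⁻¹ ∈ M ⊓ cj g M := ⟨h, conj_mem_cj hx⟩
    have h2 := orderOf_dvd_natCard _ h1
    rw [inv_iff.1 (x2.conj g)] at h2
    exact Nat.not_even_iff_odd.2 (hM.2.2 g hg) (even_iff_two_dvd.2 h2)
  obtain ⟨⟨d, hd, e⟩, -⟩ := Cfsg.Agent.S1225.result M hM _ (inv_iff.1 (x2.conj g)) hu x y
    (inv_iff.1 x2) hx (inv_iff.1 y2) hy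
  exact ⟨d, hd.1, e⟩

theorem jobSEM : H14.FE.JobSEM.{u} := by
  intro nab c1 c2 X _ _ M P N hM hO hP hPM hMP hS hN hcj hcomm
  have hWP : sSup N ≤ P := sSup_le fun U hU => (hN U hU).1
  have hMW : M ≤ normalizer ((sSup N : Subgroup X) : Set X) := fun m hm =>
    mem_normalizer_of_cj_le (cj_le_iff.2 (sSup_le fun U hU => cj_le_iff.1 (le_sSup (hcj m hm U hU))))
  have hZ : El (sSup N ⊓ centralizer ((sSup N : Subgroup X) : Set X)) := by
    refine nab X M hM hO _ (inf_le_left.trans (hWP.trans hPM))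
      (hP.isPGroup.to_le (inf_le_left.trans hWP)) (fun a ha b hb => ?_)
      (le_normalizer_inf hMW (le_normalizer_centralizer hMW))
    exact mem_centralizer_iff.1 hb.2 a ha.1
  have zl : ∀ U ∈ N, ∀ x ∈ U, x ∈ centralizer (U : Set X) → x * x = 1 := by
    intro U hU x hx hc
    refine hZ x ⟨le_sSup hU hx, ?_⟩
    have : sSup N ≤ centralizer ({x} : Set X) := sSup_le fun U' hU' y hy => by
      rw [mem_centralizer_singleton_iff]
      by_cases e : U' = U
      · exact mem_centralizer_iff.1 hc y (e ▸ hy)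
      · exact hcomm U' hU' U hU e y hy x hx
    exact mem_centralizer_iff.2 fun y hy => mem_centralizer_singleton_iff.1 (this hy)
  have hcen : ∀ x : P, x ∈ center P ↔ (x : X) ∈ centralizer (P : Set X) := fun x => by
    rw [mem_center_iff, mem_centralizer_iff]
    exact ⟨fun h y hy => congrArg Subtype.val (h ⟨y, hy⟩), fun h y => Subtype.ext (h y y.2)⟩
  obtain ⟨a1, a2⟩ := Cfsg.Agent.S1137.result hS
  obtain ⟨b1, -, b3, -⟩ := Cfsg.Agent.S1138.result hS
  have hF : Fam P N := by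
    refine ⟨hP.isPGroup, fun U hU => (hN U hU).1, fun U hU => (hN U hU).2, hcomm,
      fun x hx => ⟨fun h => ?_, fun h => ?_⟩, fun x hx => (hcen _).1 (b1 ⟨x, hx⟩), zl⟩
    · by_cases e : x = 1
      · exact e ▸ one_mem _
      · exact (hcen ⟨x, hx⟩).1 ((a1 ⟨x, hx⟩).1 ⟨fun h => e (congrArg Subtype.val h), Subtype.ext h⟩).1
    · exact congrArg Subtype.val (a2 ⟨x, hx⟩ ((hcen _).2 h))
  refine ⟨fun U hU hab => (hN U hU).2 fun x hx => zl U hU x hx
    (mem_centralizer_iff.2 fun y hy => hab y hy x hx), ?_⟩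
  refine c2 c1 X M P N hF hMP hcj (fun x hx y hy x2 y2 => trans hM (hPM hx) (hPM hy) x2 y2) ?_
  have e : Nat.card ↥(P ⊓ centralizer (P : Set X)) = Nat.card (center P) := by
    rw [← map_subtype_center, card_map_of_injective P.subtype_injective]
  change Nat.card P ≤ Nat.card ↥(P ⊓ centralizer (P : Set X)) ^ 3
  rw [e]
  rcases b3 with h | h
  · rw [h]
    exact Nat.pow_le_pow_right Nat.card_pos (by norm_num)
  · exact h.le

end H67.FeSEM
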