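import Cfsg.Agent.H78.S2Fac
import Cfsg.Agent.H78.S3B
import Cfsg.Agent.H13.SPTL
import Cfsg.Agent.H35.S3GK
import Cfsg.Agent.H69.SP3Q
import Cfsg.Agent.H63.S3AW
import Cfsg.Agent.H6.Sp3T1a
import Cfsg.Agent.H74.SP3T1
import Cfsg.Agent.H23.SP3T2
import Cfsg.Agent.H7.SP3T3
import Cfsg.Agent.H74.SP3T4
import Cfsg.Agent.H94.SP3TB
import Cfsg.Agent.H83.SP3TD
import Cfsg.Agent.H4.SP3TE
import Cfsg.Agent.H81.SP3RW
import Cfsg.Agent.H25.SP3SD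
import Cfsg.Agent.H35.S3MU
import Cfsg.Agent.H37.SPPR
import Cfsg.Agent.H69.SP3GX
import Cfsg.Agent.H1.SP3RS
import Cfsg.Agent.H62.SP3PN
import Cfsg.Agent.H21.SPPP
import Cfsg.Agent.H59.S3MU1
import Cfsg.Agent.H62.SP3ML
import Cfsg.Agent.H17.SP3CU
import Cfsg.Agent.H61.SP3CL

/-! STD-SP (row S3129), chapter III: the assembly. -/

set_option autoImplicit false

namespace H67.SP

universe u

theorem jobIII : JobIII.{u} := by
  intro n F _ _ _ _ _ _ G _ _ e t h0 h1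
  have b := H78.S2.base n F
  have c := H78.S2.fc n F
  have w := H63.S3.jobAW n F G e t b c h0
  obtain ⟨τ, β, ρ, a1, a2, a3⟩ := H6.Sp3T1a.jobT1a n F G e t b c w h1
  have a4 := H74.SP3.jobT4 n F b G e τ β (H7.SP3.jobT3 n F G e t b c w τ β
    (H23.SP3T2.jobT2 n F G e t b c w τ β ρ (H74.SP3.jobT1b n F G e t b c w τ β ρ a1 a2 a3) a2 a3) a2)
  obtain ⟨rfl | rfl, δ, a5⟩ := H94.SP3.jobTB n F G e t b c w τ β a4 a2
  · have a6 := H83.SP3TD.jobTD n F G e t b c w τ δ a4 a2 a5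
    by_cases h : ∃ ε, ε ^ 2 + ε = δ
    · obtain ⟨ε, h⟩ := h
      exact Or.inr (Or.inl (H81.SPW.jobRW n F G e t b c w τ δ ε a6 a2 h))
    · obtain ⟨K, _, _, _, x, η, h5, ⟨st, h6⟩, -⟩ := H35.S3GK.jobK F δ (not_exists.1 h)
      exact Or.inl (H1.SP3RS.jobRS H35.S3GK.jobGR H37.SPPR.jobPR H69.SP3.jobGX H25.SP3.jobSD
        H35.S3MS.jobMS H69.SP3.jobQS (fun n F _ _ _ _ _ _ => H78.S2.base n F) n F b K x δ η h5 h6
        G e t τ w a6 a2)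
  · have a6 := H4.SP3TE.jobTE n F G e t b c w τ δ a4 a2 a5
    have a7 := a4.toR1.toR0.sv w.cen a2 1
    by_cases h : ∃ ε, ε ^ 2 + ε = δ
    · obtain ⟨ε, h⟩ := h
      obtain ⟨Φ, h5, h6⟩ := H78.S3.bL n F G e t b c _ δ ε h w.inj w.cen a6 a7
      obtain ⟨j, hj⟩ := H62.SP3W.jobML1 n F b ε
      exact Or.inr (Or.inr (Or.inl (H61.SP3CL.jobCL H13.SPTL.jobTL H21.SPP.jobPP H69.SP3.jobQL
        n F G e t b c ε j hj τ Φ w.inj a4 a2 h5 h6)))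
    · obtain ⟨K, _, _, _, x, η, h5, -, st, h6⟩ := H35.S3GK.jobK F δ (not_exists.1 h)
      obtain ⟨Φ, h7, h8⟩ := H78.S3.bU n F b K x δ η h5 h6 G e t _ w.inj w.cen a6 a7
      have m := H35.S3MU.jobMU n F b K x δ η h5 h6
      exact Or.inr (Or.inr (Or.inr (H17.SP3CU.jobCU H13.SPTL.jobTL H62.SP3PN.jobPN H69.SP3.jobQU
        n F b K x δ η h5 h6 m (H59.S3MU1.jobMU1 H62.SP3PN.jobPN n F b K x δ η h5 h6 m)
        G e t τ Φ w.inj a4 a2 h7 h8)))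

end H67.SP
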