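import Cfsg.Agent.H67.SPSpec

/-! STD-SP: lifting a cover of `Y / Z(Y)` to a homomorphism from `Y`. -/

set_option autoImplicit false

namespace H67.SP

open H64.SG (Cov)
open Subgroup
open H64.SF (Bl0)
open H59.SO (NS)

universe u

def JobHL : Prop := ∀ (X Y : Type) [Group X] [Group Y] [Finite Y] (G : Type u) [Group G] [Finite G]
  (ι : X →* Y) (τ : MulAut Y) (e : X →* G) (t : G) (G₁ : Subgroup G) (c : Cov (Y ⧸ center Y) G₁),
  commutator X = ⊤ → commutator Y = ⊤ → H21.multCard Y = 1 → Odd (Nat.card (center Y)) →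
  NS (Y ⧸ center Y) → Bl0 ((QuotientGroup.mk' _).comp ι) (qa τ) e t G₁ c → ∃ Φ, Hm ι τ e t Φ

end H67.SP
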