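import Cfsg.Agent.H67.SWDef
import Cfsg.Agent.H67.SPHL
import Cfsg.Agent.H64.YEMod
import Cfsg.Agent.H78.S2Fin
import Cfsg.Agent.H86.SPIFin
import Cfsg.Agent.H15.SPGNFA
import Cfsg.Agent.H20.SPGDI
import Cfsg.Agent.H73.SpNK
import Cfsg.Agent.H98.SpH
import Cfsg.Agent.H60.SpHB
import Cfsg.Agent.H69.SP3Q
import Cfsg.Agent.H59.SOFM
import Cfsg.Agent.H59.SOAsm
import Cfsg.Agent.H18.SPJB
import Cfsg.Agent.H89.SPJC
import Cfsg.Agent.H92.SpP2a
import Cfsg.Agent.H26.SPFO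
import Cfsg.Agent.H84.SpFM
import Cfsg.Agent.H34.SpZ1
import Cfsg.Agent.H61.SPZ2
import Cfsg.Agent.H20.SpZ3
import Cfsg.Agent.H34.SpQE
import Cfsg.Agent.H46.SPCF
import Cfsg.Agent.H1.SPCoc
import Cfsg.Agent.H95.SPFB
import Cfsg.Agent.H55.Transport

/-! STD-SP (row S3129): the assembly. -/

set_option autoImplicit false
set_option linter.unusedSectionVars false

namespace H67.SP

open Cfsg Subgroup H67.UA
open H64.SG (Cz Cs Ns Cov Cfg)
open H67.SA (SLn)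
open H59.SO (NS B0 CE CW G12 Om cfg_facts)
open H64.SF (Bl0)
open H64.YE (JobFin)
open H86.SPI (QD iO tO)
open H78.S2 (base fc)
open scoped commutatorElement

universe u

section

variable (n : ℕ) (F : Type) [Field F] [StarRing F] [TrivialStar F] [CharP F 2] [Fintype F]

/-- The list of the statement. -/
def Cc (H : Type u) [Group H] : Prop :=
  Nonempty (H ≃* Matrix.ProjectiveSpecialLinearGroup (Fin (n + 1)) F) ∨
    Nonempty (H ≃* Matrix.ProjectiveSpecialLinearGroup (Fin (n + 1 + 1)) F) ∨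
    (∃ (K : Type) (_ : Field K) (_ : Fintype K), Fintype.card K = Nat.card F ^ 2 ∧
      (Nonempty (H ≃* PSU (n + 1) K (Nat.card F)) ∨ Nonempty (H ≃* PSU (n + 1 + 1) K (Nat.card F)) ∨
        Nonempty (H ≃* PSp (kk n) K))) ∨
    Nonempty (H ≃* POmega F (quadFormPlus (kk n + 1) F)) ∨
    ∃ a b : F, (∀ z₁ z₂ : F, z₁ ^ 2 + a * z₁ * z₂ + b * z₂ ^ 2 = 0 → z₁ = 0 ∧ z₂ = 0) ∧
      Nonempty (H ≃* POmega F (quadFormMinus (kk n) F a b))

/-- The predicate for `JobH`. -/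
def PM (Y : Type) [Group Y] (ι : XU n F →* Y) (τ : MulAut Y) (T : XU n F → Prop) : Prop :=
  NS Y ∧ ∀ (G : Type u) [Group G] [Finite G] (e : XU n F →* G) (t : G) (G₁ F₀ : Subgroup G)
    (c : Cov Y G₁), T = Fz e t → CE e t → Bl0 ι τ e t G₁ c → Cfg F₀ e.range t → Cc n F F₀

variable {n F} [p : Par n F] [Base n F] {G : Type u} [Group G] [Finite G] {e : XU n F →* G} {t : G}

theorem res_of {Y : Type} [Group Y] {ι : XU n F →* Y} {τ : MulAut Y} {Φ : Y →* G} (q : QY Y)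
    (h : Hm ι τ e t Φ) (k : ∀ (G' : Type u) [Group G'] [Finite G'] (e' : XU n F →* G') (t' : G')
      (F₀ : Subgroup G') (Φ' : Y →* G'), Fz e t = Fz e' t' → Cfg F₀ e'.range t' → CE e' t' →
        Hm ι τ e' t' Φ' → Cc n F F₀) : Res (PM.{u} n F) e t := by
  have := q.fin
  obtain ⟨c, b, -⟩ := H60.SPH.jobHB _ Y G ι τ e t Φ q.perf q.odd h
  refine Or.inr ⟨_, _, _, _, ⟨q.ns, fun G' _ _ e' t' G₁ F₀ c' h1 h2 h3 h4 => ?_⟩, _, c, b⟩
  obtain ⟨Φ', h5⟩ := H60.SPH.jobHL _ Y G' ι τ e' t' G₁ c' (eq_top_iff.2 FA.ns.perfect) q.perf q.mult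
    q.odd q.ns h3
  exact k G' e' t' F₀ Φ' h1 h4 h2 h5

theorem nfu {G' : Type u} [Group G'] {e' : XU n F →* G'} {t' : G'} (h : Fz e t = Fz e' t')
    {z : XU n F} (hz : Rt z) (k : ¬ Fu e t z) : ¬ Fu e' t' z := fun k' =>
  k (h.ge z ⟨hz, k'⟩).2

omit p in
theorem rt_b : Rt (xb n F) := Or.inl ((FR.lr _).2 (IsConj.refl _))
omit p in
theorem rt_a : Rt (xa n F) := Or.inr (Or.inl ((FR.sr _).2 (IsConj.refl _)))

omit [Base n F] in
theorem par_K {K : Type} [Field K] (x : Qx F K) : Par n K := ⟨p.odd, p.five, fun _ => by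
  have : 1 < Nat.card F := Finite.one_lt_card
  rw [x.card]; nlinarith⟩

omit [Base n F] in
theorem upar {K : Type} [Field K] [StarRing K] [CharP K 2] [Finite K] (x : Qx F K)
    (h : ∀ a : K, star a = x.σ a) : qK K = Nat.card F ∧ UA.Par n K ∧ UA.Par (n + 1) K := by
  have h0 : Hf K := ⟨by
    by_contra! h1
    have h2 : Function.Surjective x.φ := fun a => (x.fix a).1 ((h a).symm.trans (h1 a))
    have h3 := Nat.card_le_card_of_surjective _ h2
    have : 1 < Nat.card F := Finite.one_lt_card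
    rw [x.card] at h3; nlinarith⟩
  have h1 : qK K = Nat.card F :=
    Nat.pow_left_injective two_ne_zero ((Q.card (K := K)).symm.trans x.card)
  have := p.five
  exact ⟨h1, { h0 with five := this, four := fun k => h1 ▸ p.four k },
    { h0 with five := by omega, four := by omega }⟩

omit p [Base n F] [StarRing F] [TrivialStar F] [CharP F 2] in
theorem psu {m : ℕ} {K : Type} [Field K] [StarRing K] [CharP K 2] [Finite K] [UA.Par m K]
    (h : qK K = Nat.card F) : Nonempty (XU m K ⧸ center (XU m K) ≃* PSU (m + 1) K (Nat.card F)) := by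
  have := H67.UA.jobFQ m K
  obtain ⟨-, ε, -⟩ := H81.UAX.exists_iso (n := m) (K := K)
  exact h ▸ ⟨H55.quotCenterCongr ε⟩

theorem quot_ns {Y : Type} [Group Y] (h : NS Y) : Nonempty (Y ⧸ center Y ≃* Y) :=
  ⟨(QuotientGroup.quotientMulEquivOfEq (eq_bot_iff.2 fun a ha => mem_bot.2 (h.eq_one fun c =>
    (mem_center_iff.1 ha c).symm))).trans QuotientGroup.quotientBot⟩

omit [Base n F] in
theorem ns_O (δ : F) : NS (Om (QD n F δ)) :=
  ⟨H91.SO.simple ((H86.SPI.mi n F).par δ).toPar0, H91.SO.cen ((H86.SPI.mi n F).par δ).toPar0⟩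

omit [Base n F] in
theorem qy_O (δ : F) : QY (Om (QD n F δ)) := by
  have ns := ns_O (n := n) δ
  have h := (H86.SPI.mi n F).par δ
  obtain ⟨A, _, h1, -, h2⟩ := h.toPar0.exists_mult
  obtain ⟨ε⟩ := quot_ns ns
  have hp : commutator (Om (QD n F δ)) = ⊤ := eq_top_iff.2 ns.perfect
  have := ns.simple
  refine ⟨inferInstance, hp, (H21.multCard_eq h1).trans (h2 (Or.inl h.four)), ?_,
    fun N _ => (ns.normal N).imp_left fun k => k.le.trans bot_le,
    H69.SP3.ns_of (H69.SP3.perf_quot hp _) ε.isSimpleGroup⟩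
  rw [(eq_bot_iff.2 fun a ha => mem_bot.2 (ns.eq_one fun c => (mem_center_iff.1 ha c).symm) :
    center (Om (QD n F δ)) = ⊥), card_bot]
  exact odd_one

theorem res (h3 : JobIII.{u}) (hF : JobFin.{u}) (h : CH e t) (k : CB e t ∨ CA e t) :
    Res (PM.{u} n F) e t := by
  have b : Base n F := ‹_›
  have c := fc n F
  have o := H26.SP.jobFO n F b
  have h5 := p.five
  rcases k with k | k
  · obtain ⟨κ, k1⟩ := H92.SpP.jobP2a n F G e t b c (H34.SpQE.jobQE n F b)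
      (H1.SPCoc.jobCOC n F b (H46.SPCF.jobCF n F b)) (H95.SPB.jobFB n F b) h k
    by_cases k0 : κ = 0
    · subst k0
      rcases h3 n F G e t h k1 with ⟨K, _, _, _, _, x, s, Φ, m⟩ | m | ⟨Φ, m⟩ | ⟨K, _, _, _, _, x, s, Φ, m⟩
      · have := par_K (n := n) x
        have : TrivialStar K := ⟨s⟩
        have b' := base n K
        let _ := Fintype.ofFinite K
        refine res_of (H69.SP3.jobQS n K b') m fun G' _ _ e' t' F₀ Φ' _ a1 a2 a3 => ?_
        obtain ⟨ε⟩ := hF.s n F b c o K x s G' e' t' F₀ Φ' a1 a2 a3 trivial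
        obtain ⟨ε1⟩ := quot_ns (FA.ns (n := n) (F := K))
        obtain ⟨ε2⟩ := FA.psp (n := n) (F := K)
        exact Or.inr (Or.inr (Or.inl ⟨K, _, _, Nat.card_eq_fintype_card.symm.trans x.card,
          Or.inr (Or.inr ⟨ε.trans (ε1.trans ε2)⟩)⟩))
      · exact Or.inl m
      · refine res_of (H69.SP3.jobQL (n + 1) F (by omega)) m fun G' _ _ e' t' F₀ Φ' _ a1 a2 a3 => ?_
        exact Or.inr (Or.inl (hF.l1 n F b c o G' e' t' F₀ Φ' a1 a2 a3 trivial))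
      · obtain ⟨u1, -, u2⟩ := upar (n := n) x s
        let _ := Fintype.ofFinite K
        refine res_of (H69.SP3.jobQU (n + 1) K) m fun G' _ _ e' t' F₀ Φ' _ a1 a2 a3 => ?_
        obtain ⟨ε⟩ := hF.u1 n F b c o K x s G' e' t' F₀ Φ' a1 a2 a3 trivial
        obtain ⟨ε1⟩ := psu (m := n + 1) u1
        exact Or.inr (Or.inr (Or.inl ⟨K, _, _, Nat.card_eq_fintype_card.symm.trans x.card,
          Or.inr (Or.inl ⟨ε.trans ε1⟩)⟩))
    · have r := H86.SPI.jobI n F G e t h κ k0 k1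
      have na := H15.SPG.nfa H73.SpNK.jobNK n F G e t b c h r
      obtain ⟨δ, Φ, m⟩ := r
      refine res_of (qy_O δ) m fun G' _ _ e' t' F₀ Φ' a0 a1 a2 a3 => ?_
      obtain ⟨ε⟩ := hF.o n F b c o δ G' e' t' F₀ Φ' a1 a2 a3
        (H20.SPGDI.gdI n F G' e' t' b c a2.b0 ⟨δ, Φ', a3⟩ (nfu a0 rt_a na))
      obtain ⟨ε1⟩ := quot_ns (ns_O (n := n) δ)
      refine Or.inr (Or.inr (Or.inr ((H86.SPI.mo n F δ).imp (fun ⟨ε2⟩ => ⟨ε.trans (ε1.trans ε2)⟩)
        fun ⟨a, b, h1, ⟨ε2⟩⟩ => ⟨a, b, h1, ⟨ε.trans (ε1.trans ε2)⟩⟩)))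
  · rcases H78.S2.jobII n F G e t h k with ⟨Φ, m⟩ | ⟨K, _, _, _, _, x, s, Φ, m⟩
    · refine res_of (H69.SP3.jobQL n F h5) m fun G' _ _ e' t' F₀ Φ' a0 a1 a2 a3 => ?_
      exact Or.inl (hF.l0 n F b c o G' e' t' F₀ Φ' a1 a2 a3 (nfu a0 rt_b k.2))
    · obtain ⟨u1, u2, -⟩ := upar (n := n) x s
      let _ := Fintype.ofFinite K
      refine res_of (H69.SP3.jobQU n K) m fun G' _ _ e' t' F₀ Φ' a0 a1 a2 a3 => ?_
      obtain ⟨ε⟩ := hF.u0 n F b c o K x s G' e' t' F₀ Φ' a1 a2 a3 (nfu a0 rt_b k.2)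
      obtain ⟨ε1⟩ := psu (m := n) u1
      exact Or.inr (Or.inr (Or.inl ⟨K, _, _, Nat.card_eq_fintype_card.symm.trans x.card,
        Or.inl ⟨ε.trans ε1⟩⟩))

theorem core (h3 : JobIII.{u}) (hW : SW.JobWR.{u}) (hF : JobFin.{u}) {F₀ : Subgroup G}
    (hk : Function.Injective e) (h : Cfg F₀ e.range t) : Cc n F F₀ := by
  have b : Base n F := ‹_›
  have c := fc n F
  have o := H26.SP.jobFO n F b
  have hX : NS (XU n F) := FA.ns
  obtain ⟨b0, h1, -⟩ := cfg_facts hX hk h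
  have mv := H89.SP.jobMV n F G e t b c b0
  have jc := H89.SP.jobJC n F G e t b c (H84.SpFM.jobFM n F b) b0
  obtain ⟨z, z1, z2⟩ := H18.SPJB.jobJB n F G e t b c o
    (jz H34.SpQE.jobZ1 H61.SPZ.jobZ2 H20.SpZ.jobZ3 n F b) b0 h1
  have fu : ∀ x : XU n F, IsConj x z → Fu e t x := fun x hx => by
    obtain ⟨g, rfl⟩ := isConj_iff.1 hx
    refine z2.trans (isConj_iff.2 ⟨(e g)⁻¹, ?_⟩)
    rw [map_mul, map_mul, map_inv, ← mul_assoc, ← mul_assoc, ← mul_assoc, ← map_inv, ← b0.toB1.comm,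
      map_inv]
    group
  have k : Fu e t (xb n F) ∨ Fu e t (xa n F) := by
    rcases z1 with k | k | k
    · exact Or.inl (fu _ ((FR.lr z).1 k))
    · exact Or.inr (fu _ ((FR.sr z).1 k))
    · exact jc.1 (mv _ (Or.inr (Or.inr ((FR.cr _).2 (IsConj.refl _)))) (fu _ ((FR.cr z).1 k)))
  have k1 : CB e t ∨ CA e t := by
    by_cases k2 : Fu e t (xb n F)
    exacts [Or.inl (mv _ rt_b k2), Or.inr ⟨mv _ rt_a (k.resolve_left k2), k2⟩]
  have ce := jc.2 (k1.imp_right And.left)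
  rcases H98.SpH.jobH H89.SP.jobMV n F G e t b c (PM.{u} n F) (fun _ _ _ _ _ k => k.1)
    (fun _ _ _ _ _ => res h3 hF) ce k1 with ⟨e₁, e₂, w⟩ | ⟨Y, _, ι, τ, m, G₁, c', b'⟩
  · exfalso
    have : (G12 e₁ e₂).Normal := normalizer_eq_top_iff.1 (hW n F G e t b c o ce e₁ e₂ w)
    have h5 : F₀ ≤ G12 e₁ e₂ := hX.F0_le h hk w.range_le
    have h6 := hX.range_le_F0 h e₁
    obtain ⟨a, ha⟩ := hX.exists_ne
    rcases h.simple.eq_bot_or_eq_top_of_normal (e₁.range.subgroupOf F₀)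
      ((normal_subgroupOf_iff_le_normalizer h6).2 (h5.trans w.G12_le_Ns)) with h7 | h7
    · exact ha (w.inj ((mem_bot.1 ((subgroupOf_eq_bot.1 h7).eq_bot ▸
        (⟨⟨a, rfl⟩, h6 ⟨a, rfl⟩⟩ : _ ∈ e₁.range ⊓ F₀))).trans e₁.map_one.symm))
    · exact w.ne hX ((hX.range_le_F0 h e₂).trans (subgroupOf_eq_top.1 h7))
  · exact m.2 G e t G₁ F₀ c' rfl ce b' h

omit p in
theorem exists_e {L : Subgroup G} (c : Cov (XU n F) L) (hp : L ≤ ⁅L, L⁆) :
    ∃ e : XU n F →* G, Function.Injective e ∧ e.range = L := by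
  have hX : NS (XU n F) := FA.ns
  have hz : c.piH.ker ≤ center L := fun l hl =>
    mem_center_iff.2 fun a => Subtype.ext (c.ker_cen l l.2 hl a a.2)
  obtain ⟨j, hj⟩ := H21.exists_lift_of_perfect (eq_top_iff.2 hX.perfect) FA.mult (MonoidHom.id _)
    c.piH_surjective hz
  have h1 : ∀ l : L, ∃ a, ∃ z ∈ center L, l = j a * z := fun l =>
    ⟨c.piH l, (j (c.piH l))⁻¹ * l, hz (by
      rw [MonoidHom.mem_ker, map_mul, map_inv, hj]; exact inv_mul_cancel _), by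
      rw [mul_inv_cancel_left]⟩
  have h2 : (⊤ : Subgroup L) ≤ ⁅(⊤ : Subgroup L), (⊤ : Subgroup L)⁆ := by
    rw [← map_le_map_iff_of_injective L.subtype_injective, map_commutator, ← MonoidHom.range_eq_map,
      range_subtype]; exact hp
  have h3 : j.range = ⊤ := eq_top_iff.2 (h2.trans (commutator_le.2 fun a _ b _ => by
    obtain ⟨a, z, z1, rfl⟩ := h1 a
    obtain ⟨b, w, w1, rfl⟩ := h1 b
    refine ⟨⁅a, b⁆, ?_⟩
    have k : ∀ z ∈ center L, ∀ g, z * g * z⁻¹ = g := fun z h g => by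
      rw [← mem_center_iff.1 h, mul_inv_cancel_right]
    rw [map_commutatorElement, commutatorElement_def, commutatorElement_def]
    calc _ = j a * j b * (w * (j a)⁻¹ * w⁻¹) * (j b)⁻¹ := by rw [k w w1]
      _ = j a * (z * (j b * w) * z⁻¹) * (j a)⁻¹ * (w⁻¹ * (j b)⁻¹) := by rw [k z z1]; group
      _ = _ := by group))
  refine ⟨L.subtype.comp j, L.subtype_injective.comp fun a b k =>
    (hj a).symm.trans ((congrArg c.piH k).trans (hj b)), ?_⟩
  rw [← MonoidHom.map_range, h3, ← MonoidHom.range_eq_map, range_subtype]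

end

theorem main (h3 : JobIII.{u}) (hW : SW.JobWR.{u}) (hE : JobFin.{u}) {G : Type u} [Group G] [Finite G]
    (hF : IsSimpleGroup ↥(generalizedFittingSubgroup G))
    (hF' : ¬ IsMulCommutative ↥(generalizedFittingSubgroup G)) (L : Subgroup G)
    (hL : IsStandardSubgroup L)
    (hR : ∀ R : Sylow 2 ↥(Subgroup.centralizer (L : Set G)),
      IsCyclic ↥(R : Subgroup ↥(Subgroup.centralizer (L : Set G))))
    (k n : ℕ) (hk : 3 ≤ k) (hn : 1 ≤ n) (hex : ¬ (k = 3 ∧ n = 1))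
    {F : Type*} [Field F] [Fintype F] (hFq : Fintype.card F = 2 ^ n)
    (hLX : Nonempty ((↥L ⧸ oddCore ↥L) ≃* PSp k F)) :
    Nonempty (↥(generalizedFittingSubgroup G) ≃*
        Matrix.ProjectiveSpecialLinearGroup (Fin (2 * k)) F) ∨
      Nonempty (↥(generalizedFittingSubgroup G) ≃*
        Matrix.ProjectiveSpecialLinearGroup (Fin (2 * k + 1)) F) ∨
      (∃ (K : Type) (_ : Field K) (_ : Fintype K), Fintype.card K = (2 ^ n) ^ 2 ∧
        (Nonempty (↥(generalizedFittingSubgroup G) ≃* PSU (2 * k) K (2 ^ n)) ∨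
          Nonempty (↥(generalizedFittingSubgroup G) ≃* PSU (2 * k + 1) K (2 ^ n)) ∨
          Nonempty (↥(generalizedFittingSubgroup G) ≃* PSp k K))) ∨
      Nonempty (↥(generalizedFittingSubgroup G) ≃* POmega F (quadFormPlus (k + 1) F)) ∨
      (∃ a b : F, (∀ z₁ z₂ : F, z₁ ^ 2 + a * z₁ * z₂ + b * z₂ ^ 2 = 0 → z₁ = 0 ∧ z₂ = 0) ∧
        Nonempty (↥(generalizedFittingSubgroup G) ≃* POmega F (quadFormMinus k F a b))) := by
  obtain ⟨ε⟩ := hLX
  have hc : Nat.card (GaloisField 2 n) = 2 ^ n := GaloisField.card 2 n (by omega)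
  generalize_proofs at hc
  set E := GaloisField 2 n
  let _ : Fintype E := Fintype.ofFinite _
  let φ : F ≃+* E := FiniteField.ringEquivOfCardEq (by rw [hFq, ← hc, Nat.card_eq_fintype_card])
  let _ : StarRing E := starRingOfComm
  have : TrivialStar E := ⟨fun _ => rfl⟩
  obtain ⟨m, hm⟩ : ∃ m, 2 * k = m + 1 := ⟨2 * k - 1, by omega⟩
  obtain rfl : kk m = k := by unfold kk; omega
  have : Par m E := ⟨⟨kk m - 1, by omega⟩, by omega, fun h => hc ▸
    Nat.pow_le_pow_right (n := 2) (i := 2) (j := n) (by omega) (by omega)⟩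
  have b := base m E
  have hX : NS (XU m E) := FA.ns
  obtain ⟨ι⟩ := FA.psp (n := m) (F := E)
  obtain ⟨H, t, h1, h2, cfg⟩ := H67.SA.exists_cfg hF hF' L hL hR
  obtain ⟨c⟩ := H67.SA.exists_cov hL.1 h1 hX.simple (fun h => by
    obtain ⟨a, ha⟩ := hX.exists_ne
    exact ha (hX.eq_one fun b => h.is_comm.comm a b))
    (ε.trans ((H55.pspCongr φ _).trans ι.symm)) cfg.perf
  obtain ⟨e, hi, he⟩ := exists_e c cfg.perf
  have ν := (subgroupOfEquivOfLe h2).symm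
  rw [hm, ← hc]
  refine (core h3 hW hE hi (he ▸ cfg)).imp (fun ⟨κ⟩ => ⟨ν.trans (κ.trans (H55.pslCongr φ).symm)⟩)
    (Or.imp (fun ⟨κ⟩ => ⟨ν.trans (κ.trans (H55.pslCongr φ).symm)⟩) (Or.imp
      (fun ⟨K, _, _, k1, k2⟩ => ⟨K, _, _, k1, k2.imp (fun ⟨κ⟩ => ⟨ν.trans κ⟩)
        (Or.imp (fun ⟨κ⟩ => ⟨ν.trans κ⟩) fun ⟨κ⟩ => ⟨ν.trans κ⟩)⟩) (Or.imp
      (fun ⟨κ⟩ => ⟨ν.trans (κ.trans (H55.pOmegaCongr φ (H55.quadFormPlus_comp φ _)).symm)⟩)
      fun ⟨a, b, k1, ⟨κ⟩⟩ => ⟨φ.symm a, φ.symm b, fun z₁ z₂ h => ?_,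
        ⟨ν.trans (κ.trans (H55.pOmegaCongr φ.symm (H55.quadFormMinus_comp φ.symm _ a b)))⟩⟩)))
  simpa using k1 (φ z₁) (φ z₂) (by simpa using congrArg φ h)

end H67.SP
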