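import Cfsg.Agent.H67.UADef
import Cfsg.Agent.H59.SOInd

/-! STD-SP (row S3129), piece 1: `X = Sp_(n+1)(q)`, `n + 1 = 2 k ≥ 6`, `q` even, as `XU n F` of
`H67/UADef` for the trivial `star` (`hf` is then the alternating antidiagonal form, every vector is
isotropic, `Ok u x c` means `hf x u = 0`).  Definitions, the models, the interface of the chapters.
Notes: `blueprints/STDSP.md`. -/

set_option autoImplicit false
set_option linter.unusedSectionVars false

namespace H67.SP

open H64.SG (O2 Syl Cz Cs Ns cjs Is2 Inv2 UF IsO2 fx mem_fx)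
open Matrix H57 Subgroup H67.UA
open H67.SA (SLn Au la St cI cm)
open H59.SO (Ind B1 B0 CE CW)

universe u

/-- The range of the parameters: `n + 1 = 2 k ≥ 6`, and `q ≥ 4` if `k = 3`. -/
class Par (n : ℕ) (F : Type) : Prop where
  odd : Odd n
  five : 5 ≤ n
  four : n = 5 → 4 ≤ Nat.card F

/-- `k` -/
def kk (n : ℕ) : ℕ := (n + 1) / 2

section Maps

variable {m : ℕ} {K K' : Type} [Field K] [StarRing K] [CharP K 2] [Field K'] [StarRing K'] [CharP K' 2]

/-- The homomorphism induced by a ring homomorphism that commutes with `star`. -/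
def bc (φ : K →+* K') (h : ∀ a, star (φ a) = φ (star a)) : XU m K →* XU m K' :=
  ((SpecialLinearGroup.map φ).comp (io m K)).codRestrict _ fun g => mem_XU_iff.2 (by
    have := congrArg (fun M => M.map φ) (mem_XU_iff.1 g.2)
    simp only [Matrix.map_mul, Matrix.map_one φ (map_zero φ) (map_one φ)] at this
    rw [← this]
    congr 1
    ext i j
    exact h _)

theorem mt_bc (φ : K →+* K') (h : ∀ a, star (φ a) = φ (star a)) (g : XU m K) :
    mt (bc φ h g) = (mt g).map φ := rfl

/-- The automorphism induced by a field automorphism that commutes with `star`. -/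
def fa (σ : RingAut K) (h : ∀ a, star (σ a) = σ (star a)) : MulAut (XU m K) :=
  MonoidHom.toMulEquiv (bc (σ : K →+* K) h)
    (bc (σ.symm : K →+* K) fun a => σ.injective (by
      have := h (σ.symm a)
      simp only [RingHom.coe_coe, RingEquiv.apply_symm_apply] at this ⊢
      exact this.symm))
    (MonoidHom.ext fun g => X_ext (Matrix.ext fun i j => σ.symm_apply_apply _))
    (MonoidHom.ext fun g => X_ext (Matrix.ext fun i j => σ.apply_symm_apply _))

theorem mt_fa (σ : RingAut K) (h : ∀ a, star (σ a) = σ (star a)) (g : XU m K) :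
    mt (fa σ h g) = (mt g).map σ := rfl

/-- The middle index. -/
def mid (m : ℕ) : Fin (m + 2) := ⟨(m + 1) / 2, by omega⟩
/-- `V ≤ V ⊥ ⟨ev mid⟩` -/
def iv (v : Vn m K) : Vn (m + 1) K := Fin.insertNth (mid m) 0 v

variable (m K) in
/-- `j` is the natural embedding of the isometry group of `V` in that of `V ⊥ ⟨ev mid⟩`. -/
def IsIns (j : XU m K →* XU (m + 1) K) : Prop :=
  ∀ g, ac (j g) (ev (mid m)) = ev (mid m) ∧ ∀ v, ac (j g) (iv v) = iv (ac g v)

variable (m K) in
/-- The natural embedding (fact `FV.ins`). -/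
noncomputable def ins : XU m K →* XU (m + 1) K :=
  open Classical in if h : ∃ j, IsIns m K j then h.choose else 1

end Maps

/-- A quadratic extension. -/
structure Qx (F K : Type) [Field F] [Field K] where
  φ : F →+* K
  σ : RingAut K
  card : Nat.card K = Nat.card F ^ 2
  pow : ∀ a, σ a = a ^ Nat.card F
  sq : ∀ a, σ (σ a) = a
  fix : ∀ a, σ a = a ↔ a ∈ φ.range

section Defs

variable {n : ℕ} {F : Type} [Field F] [StarRing F] [CharP F 2]

/-- The standard quadratic form of plus type with polar form `hf`. -/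
def q0 (y : Vn n F) : F := ∑ i with i.val < kk n, y i * y i.rev
/-- `Q_u`, the radical of the stabiliser of `u`: elementary abelian of order `q^(2k-1)` -/
def Qv (u : Vn n F) : Subgroup (XU n F) := closure {g | ∃ x c, hf x u = 0 ∧ g = EE u x c}
/-- the transvection group (long root subgroup) at `u` -/
def Zl (u : Vn n F) : Subgroup (XU n F) := closure {g | ∃ c, g = Tc c u}
/-- the short root subgroup of the line `⟨u, v⟩` -/
def Zs (u v : Vn n F) : Subgroup (XU n F) := closure {g | ∃ c : F, g = qq (c • v) u}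
/-- the form `hf (g v) v` vanishes (classes `a_l`) -/
def Alt (g : XU n F) : Prop := ∀ v, hf (ac g v) v = 0
/-- the rank of `g - 1` -/
noncomputable def rk (g : XU n F) : ℕ := (mt g - 1).rank
/-- class `b₁` -/
def Lr (g : XU n F) : Prop := ∃ v, v ≠ 0 ∧ g = TT v
/-- class `a₂` -/
def Sr (g : XU n F) : Prop := ∃ u v, hf u v = 0 ∧ Li u v ∧ g = qq v u
/-- class `c₂` -/
def Cr (g : XU n F) : Prop := ∃ u v, hf u v = 0 ∧ Li u v ∧ g = TT u * TT v

variable (n F)

/-- the Sylow `2`-subgroup fixing the flag `W_j` -/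
def UU : Subgroup (XU n F) := closure {g | ∀ j v, Wk (j + 1) v → Wk j (ac g v + v)}
/-- `S²(W_j)`, `j ≤ k` -/
def Mk (j : ℕ) : Subgroup (XU n F) := closure {g | ∀ v, Wk j (ac g v + v)}
/-- the radical of the stabiliser of `W_j`, `j ≤ k` -/
def Qk (j : ℕ) : Subgroup (XU n F) := closure
  {g | (∀ v, Wk j v → ac g v = v) ∧ ∀ v, Wk (n + 1 - j) v → Wk j (ac g v + v)}
/-- `P = C(TT e₀)` -/
abbrev PP : Subgroup (XU n F) := Stab (ev 0)
/-- `Q = O₂(P)` -/
abbrev QQ : Subgroup (XU n F) := Qv (ev 0)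
/-- `X_l` -/
abbrev ZL : Subgroup (XU n F) := Zl (ev 0)
/-- `X_s` -/
abbrev ZS : Subgroup (XU n F) := Zs (ev 0) (ev 1)
/-- `b₁` -/
noncomputable abbrev xb : XU n F := TT (ev 0)
/-- `a₂` -/
noncomputable abbrev xa : XU n F := qq (ev 1) (ev 0)
/-- `c₂`, in the centre of `U` -/
noncomputable abbrev xc : XU n F := xb n F * xa n F
/-- `b_l` (`l` odd), `c_l` (`l` even), `1 ≤ l ≤ k` -/
noncomputable def dl (l : ℕ) : XU n F := mk (1 + ∑ i : Fin (n + 1) with i.val < l, op (ev i) (ev i))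
/-- `a_(2 j)`, `2 ≤ 2 j ≤ k` -/
noncomputable def al (j : ℕ) : XU n F := mk (1 + ∑ i : Fin (n + 1) with i.val < 2 * j,
  op (ev i) (ev (Fin.ofNat (n + 1) (if i.val % 2 = 0 then i.val + 1 else i.val - 1))))

end Defs

section Amb

variable {X Y : Type} [Group X] [Group Y] {G : Type u} [Group G]

/-- `t e u` is conjugate to `t` -/
abbrev Fu (e : X →* G) (t : G) (u : X) : Prop := IsConj t (t * e u)

/-- What every construction delivers. -/
structure Hm (ι : X →* Y) (τ : MulAut Y) (e : X →* G) (t : G) (Φ : Y →* G) : Prop where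
  ker : Φ.ker ≤ center Y
  res : ∀ x, Φ (ι x) = e x
  act : Ind Φ t τ

/-- Some element fixes `e z` and maps `t` to `t e z`. -/
def Mv (e : X →* G) (t : G) (z : X) : Prop := ∃ g, g * t * g⁻¹ = t * e z ∧ g * e z = e z * g

/-- The configuration modulo the odd part of `C_K(t)`. -/
structure CH (e : X →* G) (t : G) : Prop extends CE e t where
  ck : ∀ g ∈ Cz t, g ∈ Cs e.range → g = 1 ∨ g = t

variable {n : ℕ} {F : Type} [Field F] [StarRing F] [CharP F 2] [Finite F] (e : XU n F →* G) (t : G)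

/-- Case `β`: `t ∼ t b₁`. -/
def CB : Prop := Mv e t (xb n F)
/-- Case `α` (type II): `t ∼ t a₂`, but not `t ∼ t b₁`. -/
def CA : Prop := Mv e t (xa n F) ∧ ¬ Fu e t (xb n F)

/-- The result of `P2a` in case `β`: `κ ≠ 0` is type I, `κ = 0` is type III. -/
def Tr (κ : F) : Prop := ∀ c : F, ∃ w ∈ Cs ((QQ n F).map e),
  w * t * w⁻¹ = t * e (TT (c • ev 0)) ∧ ∀ y, hf y (ev 0) = 0 → hf y (ev (la n)) = 0 →
    w * e (TT y) * w⁻¹ = e (TT y * EE (c • ev 0) ((κ * rt (1 + q0 y)) • y) (κ ^ 2 * q0 y))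

variable [TrivialStar F]

omit e t [Finite F] in
theorem Qx.st {K : Type} [Field K] [StarRing K] (x : Qx F K)
    (h : (∀ a : K, star a = a) ∨ ∀ a : K, star a = x.σ a) (a : F) : star (x.φ a) = x.φ (star a) := by
  rw [star_trivial a]
  exact h.elim (fun h => h _) fun h => (h _).trans ((x.fix _).2 ⟨a, rfl⟩)

omit e t [StarRing F] [TrivialStar F] [CharP F 2] [Finite F] in
theorem Qx.sf {K : Type} [Field K] [StarRing K] (x : Qx F K)
    (h : (∀ a : K, star a = a) ∨ ∀ a : K, star a = x.σ a) (a : K) : star (x.σ a) = x.σ (star a) :=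
  h.elim (fun h => by rw [h, h]) fun h => by rw [h, h]

/-- `L_(2k)(q)` -/
def RL0 : Prop := ∃ Φ, Hm (io n F) (tau n F) e t Φ
/-- `L_(2k+1)(q)` -/
def RL1 : Prop := ∃ Φ, Hm ((io (n + 1) F).comp (ins n F)) (tau (n + 1) F) e t Φ
/-- `U_(2k)(q)` -/
def RU0 : Prop := ∃ (K : Type) (_ : Field K) (_ : StarRing K) (_ : CharP K 2) (_ : Finite K)
  (x : Qx F K) (h : ∀ a : K, star a = x.σ a) (Φ : XU n K →* G),
    Hm (bc x.φ (x.st (Or.inr h))) (fa x.σ (x.sf (Or.inr h))) e t Φ
/-- `U_(2k+1)(q)` -/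
def RU1 : Prop := ∃ (K : Type) (_ : Field K) (_ : StarRing K) (_ : CharP K 2) (_ : Finite K)
  (x : Qx F K) (h : ∀ a : K, star a = x.σ a) (Φ : XU (n + 1) K →* G),
    Hm ((bc x.φ (x.st (Or.inr h))).comp (ins n F)) (fa x.σ (x.sf (Or.inr h))) e t Φ
/-- `Sp_(2k)(q²)` -/
def RS2 : Prop := ∃ (K : Type) (_ : Field K) (_ : StarRing K) (_ : CharP K 2) (_ : Finite K)
  (x : Qx F K) (h : ∀ a : K, star a = a) (Φ : XU n K →* G),
    Hm (bc x.φ (x.st (Or.inl h))) (fa x.σ (x.sf (Or.inl h))) e t Φ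
/-- the wreath case -/
def RW : Prop := ∃ e₁ e₂, CW e t e₁ e₂

end Amb

/-- A statement for all parameters. -/
def All (P : ∀ (_ : ℕ) (F : Type) [Field F] [StarRing F] [TrivialStar F] [CharP F 2] [Finite F],
    Prop) : Prop :=
  ∀ (n : ℕ) (F : Type) [Field F] [StarRing F] [TrivialStar F] [CharP F 2] [Finite F] [Par n F], P n F

/-- A statement for all parameters and all `e`, `t`. -/
def AllG (P : ∀ (n : ℕ) (F : Type) [Field F] [StarRing F] [TrivialStar F] [CharP F 2] [Finite F]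
    (G : Type u) [Group G], (XU n F →* G) → G → Prop) : Prop :=
  All fun n F _ _ _ _ _ => ∀ (G : Type u) [Group G] [Finite G] (e : XU n F →* G) (t : G), P n F G e t

/-- Chapter II (helper64). -/
def JobII : Prop := AllG.{u} fun _ _ _ _ _ _ _ _ _ e t => CH e t → CA e t → RL0 e t ∨ RU0 e t
/-- Chapter III (helper67). -/
def JobIII : Prop := AllG.{u} fun _ _ _ _ _ _ _ _ _ e t => CH e t → Tr e t 0 →
  RS2 e t ∨ RW e t ∨ RL1 e t ∨ RU1 e t

end H67.SP
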