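import Cfsg.Agent.H86.TP.Spec

/-! Tower NF (S1308), chapter TE part 1, slot PX. -/

set_option autoImplicit false

namespace H67.TpPX

open Cfsg Subgroup MulAction H14 _root_.H98 H1.Gold H31.S2 H14.GC H14.FE H14.NF H86.TP
open scoped commutatorElement

universe u

theorem jPX : JobPX.{u} := by
  intro G _ _ Q₁ Q₂ T R E P Y h hsq hYE hTY hYR
  have hPR : P ≤ R := h.eqP ▸ inf_le_left
  have cTE : ∀ r ∈ E, ∀ t ∈ T, t * r = r * t := fun r hr t ht => (h.eq ▸ hr : r ∈ R ⊓ cen T).2 t ht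
  have cP : ∀ y ∈ P, ∀ r ∈ E, r * y = y * r := fun y hy r hr => h.cenE hy r hr
  have cY : ∀ y ∈ Y, ∀ r ∈ E, r * y = y * r := fun y hy r hr => hYE hy r hr
  have hm : Cm3 T P E := fun t ht y hy => ((h.mem y).1 hy).2 t ht
  have key : ∀ v ∈ Y, ∀ y ∈ P, ∀ t ∈ T, ⁅t, v * y * v⁻¹⁆ = ⁅t, y⁆ := fun v hv y hy t ht => by
    obtain ⟨r, hr, e⟩ : ∃ r ∈ E, v⁻¹ * t * v = r * t :=
      ⟨⁅t, v⁻¹⁆⁻¹, E.inv_mem (hTY t ht _ (Y.inv_mem hv)), by
        simp only [commutatorElement_def]; group⟩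
    have e1 : ⁅t, v * y * v⁻¹⁆ = v * ⁅v⁻¹ * t * v, y⁆ * v⁻¹ := by
      simp only [commutatorElement_def]; group
    have e2 : ⁅r * t, y⁆ = r * ⁅t, y⁆ * (y * r⁻¹ * y⁻¹) := by
      simp only [commutatorElement_def]; group
    rw [e1, e, e2, ← cP y hy _ (E.inv_mem hr), mul_inv_cancel_right]
    have h1 : r * ⁅t, y⁆ = ⁅t, y⁆ * r := by
      have a1 := h.elE _ (E.mul_mem hr (hm t ht y hy))
      have a2 := h.elE _ hr
      have a3 := h.elE _ (hm t ht y hy)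
      generalize ⁅t, y⁆ = s at a1 a3
      calc r * s = r * s * (r * s * (r * s)) * ((r * s)⁻¹ * (r * s)⁻¹) := by group
        _ = (r * s)⁻¹ := by rw [a1, ← mul_inv_rev, a1, mul_one, inv_one, mul_one,
              eq_inv_iff_mul_eq_one, a1]
        _ = s * r := by rw [mul_inv_rev, inv_eq_of_mul_eq_one_right a2,
              inv_eq_of_mul_eq_one_right a3]
    rw [h1, mul_inv_cancel_right, ← cY v hv _ (hm t ht y hy), mul_inv_cancel_right]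
  have hc : ∀ v ∈ Y, ∀ y ∈ P, v * y * v⁻¹ ∈ P := fun v hv y hy =>
    (h.mem _).2 ⟨conj_mem_of_mem_normalizer (hYR hv) (hPR hy), fun t ht => by
      rw [key v hv y hy t ht]; exact hm t ht y hy⟩
  refine ⟨⟨h.sylR.isPGroup.to_le hPR, le_inf (hPR.trans h.sylR.le) h.cenE, h.ltP, hm, h.nd, hsq⟩,
    fun v hv => mem_normalizer_of_cj_le ?_, fun v hv y hy => ?_⟩
  · rintro _ ⟨y, hy, rfl⟩
    exact hc v hv y hy
  · by_contra hn
    obtain ⟨t, ht, -, -, h1, -⟩ := h.four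
    have h2 : ⁅v, y⁆ ∈ P := P.mul_mem (hc v hv y hy) (P.inv_mem hy)
    refine h.nd _ h2 hn t ht h1.1 ?_
    have e1 : ⁅t, ⁅v, y⁆⁆ = ⁅t, v * y * v⁻¹⁆ * (⁅v, y⁆ * ⁅t, y⁆⁻¹ * ⁅v, y⁆⁻¹) := by
      simp only [commutatorElement_def]; group
    rw [e1, key v hv y hy t ht, ← cP _ h2 _ (E.inv_mem (hm t ht y hy)), mul_inv_cancel_right,
      mul_inv_cancel]

end H67.TpPX
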