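import Cfsg.Agent.H57.U2CSpec
import Cfsg.Agent.H14.Dih

/-! S3275, chapter U2F: the dihedral family of a quadratic group (slot DH). -/

set_option autoImplicit false

namespace H67.U2cDH

open Subgroup Cfsg _root_.H98 H96 H48.DP H57.U2C

universe u

variable {W : Type u} [AddCommGroup W]

theorem mem_wx [Finite W] {x : Au W} {u : W} (hu : u ∈ Wx x) : ∃ w, u = dl x w := by
  have h1 : x ∈ stb (Au W) (⊤ : AddSubgroup W) (dl x : W →+ W).range := by
    refine ⟨mem_nrm_of_smul ?_, fun w _ => ⟨w, rfl⟩⟩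
    rintro _ ⟨w, rfl⟩
    exact ⟨x • w, by simp only [dl_apply, smul_sub]⟩
  have h2 : Wx x ≤ (dl x : W →+ W).range := by
    refine (AddSubgroup.closure_le _).2 ?_
    rintro _ ⟨a, ha, v, _, rfl⟩
    exact (zpowers_le.2 h1 ha).2 v (AddSubgroup.mem_top v)
  obtain ⟨w, hw⟩ := h2 hu
  exact ⟨w, hw.symm⟩

theorem dl_wx (x : Au W) (w : W) : dl x w ∈ Wx x :=
  dl_mem_cm (mem_zpowers x) (AddSubgroup.mem_top w)

theorem fpf [Finite W] (two : ∀ w : W, w + w = 0) {x : Au W} (hx : x ^ 3 = 1) {u : W}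
    (hu : u ∈ Wx x) (h : x • u = u) : u = 0 := by
  obtain ⟨w, rfl⟩ := mem_wx hu
  have e3 : x • x • x • w = w := by
    rw [← mul_smul, ← mul_smul, ← pow_three', hx, one_smul]
  have e : dl x w + x • dl x w + x • x • dl x w = 0 := by
    simp only [dl_apply, smul_sub, e3]; abel
  rw [h, h, two, zero_add] at e
  exact e

theorem fix_of_inv {a x : Au W} (hx : x ^ 3 = 1) (hi : a * x * a⁻¹ = x⁻¹) {u : W}
    (h1 : a • u = u) (h2 : a • x • u = x • u) : x • u = u := by
  have e : a * x = x⁻¹ * a := by rw [← hi]; group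
  rw [← mul_smul, e, mul_smul, h1, inv_smul_eq_iff] at h2
  have e3 : x • x • x • u = u := by
    rw [← mul_smul, ← mul_smul, ← pow_three', hx, one_smul]
  rw [← h2] at e3
  exact e3

theorem smul_dl {g x : Au W} (h : g * x = x * g) (w : W) : g • dl x w = dl x (g • w) := by
  simp only [dl_apply, smul_sub, ← mul_smul, h]

theorem dl_dl {g x : Au W} (h : g * x = x * g) (w : W) : dl g (dl x w) = dl x (dl g w) := by
  rw [dl_apply g, smul_dl h, dl_apply g, map_sub]

theorem ea {B : Subgroup (Au W)} (two : ∀ w : W, w + w = 0) (hq : Quad W B) :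
    IsElementaryAbelian 2 B := by
  have key : ∀ a ∈ B, ∀ b ∈ B, ∀ w : W, (a * b) • w = w + (dl a w + dl b w) := fun a ha b hb w => by
    rw [mul_smul, smul_eq_add_dl b, smul_add, hq b hb w a ha, smul_eq_add_dl a w, add_assoc]
  refine ⟨⟨⟨fun ⟨a, ha⟩ ⟨b, hb⟩ => Subtype.ext ?_⟩⟩, fun a ha => ?_⟩
  · change a * b = b * a
    refine eq_of_smul_eq_smul fun w : W => ?_
    rw [key a ha b hb, key b hb a ha, add_comm (dl a w)]
  · refine eq_of_smul_eq_smul fun w : W => ?_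
    rw [sq, key a ha a ha, two, add_zero, one_smul]

theorem dh : DH.{u} := by
  intro W _ _ F B h
  haveI : Fact (Nat.Prime 3) := ⟨Nat.prime_three⟩
  have ho : Odd (Nat.card F) := by
    obtain ⟨k, hk⟩ := IsPGroup.iff_card.1 h.F3
    rw [hk]; exact Odd.pow (by decide)
  obtain ⟨V, hVF, hV, d, a, y, D⟩ :=
    H14.exists_dfam_nil (ea h.two h.qd) h.F3.isNilpotent h.nr ho h.fd
  have h3 : ∀ i, 3 ∣ orderOf (y i) := fun i => by
    obtain ⟨k, hk⟩ := IsPGroup.iff_orderOf.1 h.F3 ⟨y i, hVF (D.xV i)⟩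
    rw [orderOf_mk] at hk
    rcases k with _ | k
    · exact absurd (orderOf_eq_one_iff.1 (by simpa using hk)) (D.x1 i)
    · rw [hk]; exact dvd_pow_self 3 (Nat.succ_ne_zero k)
  let x : Fin d → Au W := fun i => y i ^ (orderOf (y i) / 3)
  have x3 : ∀ i, orderOf (x i) = 3 := fun i => orderOf_pow_orderOf_div (orderOf_pos _).ne' (h3 i)
  have p3 : ∀ i, x i ^ 3 = 1 := fun i => by rw [← x3 i]; exact pow_orderOf_eq_one _
  have xV : ∀ i, x i ∈ V := fun i => pow_mem (D.xV i) _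
  have inv : ∀ i, a i * x i * (a i)⁻¹ = (x i)⁻¹ := fun i => by
    simp only [x]; rw [← conj_pow, D.inv, inv_pow]
  have cen : ∀ i j, i ≠ j → a j * x i = x i * a j := fun i j hij => by
    have e : a j * x i * (a j)⁻¹ = x i := by
      simp only [x]; rw [← conj_pow, D.cen j i hij.symm]
    exact mul_inv_eq_iff_eq_mul.1 e
  have xx : ∀ i j, x j * x i = x i * x j := fun i j => hV (xV i) (x j) (xV j)
  have f1 : ∀ i j, i ≠ j → ∀ w ∈ Wx (x i), a j • w = w := fun i j hij w hw => by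
    refine dl_eq_zero.1 (fpf h.two (p3 i) ?_ (fix_of_inv (p3 i) (inv i) ?_ ?_))
    · obtain ⟨w0, rfl⟩ := mem_wx hw
      rw [dl_dl (cen i j hij)]
      exact dl_wx _ _
    · exact h.qd _ (D.aB j) w _ (D.aB i)
    · rw [smul_dl (cen i j hij).symm]
      exact h.qd _ (D.aB j) _ _ (D.aB i)
  refine ⟨d, a, x, D.card, D.aB, fun i => hVF (xV i), x3, inv, D.gen, f1, fun i j hij w hw => ?_⟩
  refine fix_of_inv (p3 j) (inv j) (f1 i j hij w hw) (f1 i j hij _ ?_)
  obtain ⟨w0, rfl⟩ := mem_wx hw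
  rw [smul_dl (xx i j)]
  exact dl_wx _ _

end H67.U2cDH
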