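import Cfsg.Agent.H67.UASpec

/-! STD-UM (row S3128), piece 4: the ambient slots for `X = SU_(n+1)(q)`.  Notes:
`blueprints/STDUM.md`, part 3. -/

set_option autoImplicit false

namespace H67.UA

open H64.SG (O2 Syl Cz Cs Ns cjs Is2 Inv2 UF IsO2 fx Cfg)
open Matrix H57 Subgroup
open H67.SA (SLn Au la St cI cm)
open H67.GA (Ind B1 CE CH CP CW CF)

universe u

section Amb

variable {n : ℕ} {K : Type} [Field K] [StarRing K] [CharP K 2] [Finite K] {G : Type u} [Group G]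
  (e : XU n K →* G) (t : G) (τ : Vn n K → G)

/-- The elements `τ v` (`1 + η v v*` in the big group). -/
structure T1 : Prop where
  zero : τ 0 = 1
  eqv : ∀ g v, Iso v → e g * τ v * (e g)⁻¹ = τ (ac g v)
  tt : ∀ v, Iso v → τ v * t * (τ v)⁻¹ = t * e (TT v)
  n1 : ∀ (a : K) v, nm a = 1 → Iso v → τ (a • v) = τ v
  comm : ∀ u v, Pp u v → τ u * τ v = τ v * τ u

/-- `σ(v, u)` (`1 + η (u v* + v u*)`) -/
def sig (v u : Vn n K) : G := τ (u + v) * τ u * τ v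

/-- Additivity. -/
structure TA : Prop extends T1 e t τ where
  sq : ∀ v, Iso v → τ v * τ v = 1
  nadd : ∀ (a b : K) u, star a = a → star b = b → Iso u → τ ((a + b) • u) = τ (a • u) * τ (b • u)
  sadd : ∀ u v w, Pp u v → Pp u w → Pp v w → sig τ (v + w) u = sig τ v u * sig τ w u
  sscal : ∀ (a : K) u v, Pp u v → sig τ (a • v) u = sig τ v (star a • u)

/-- `1 + (a + η b) u u*`, for `a, b ∈ F` -/
noncomputable def zt (u : Vn n K) (a b : K) : G := e (Tc a u) * τ (rt b • u)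

/-- `z ∈ Z*_u` -/
def InZ (u : Vn n K) (z : G) : Prop := ∃ a b, star a = a ∧ star b = b ∧ z = zt e τ u a b

/-- `k ∈ Q*_u` has the class `y₁ + η y₂`. -/
structure Cl (u : Vn n K) (k : G) (y₁ y₂ : Vn n K) : Prop where
  p1 : hf y₁ u = 0
  p2 : hf y₂ u = 0
  c1 : ∀ z, InZ e τ u z → k * z = z * k
  c2 : ∀ x c, Ok u x c → cm k (e (EE u x c)) = zt e τ u (tr (hf x y₁)) (tr (hf x y₂))
  c3 : ∃ c z, Ok u y₂ c ∧ InZ e τ u z ∧ cm k t = e (EE u y₂ c) * z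

/-- The calculus of `Z*_u` and of the classes. -/
structure CL : Prop where
  zmul : ∀ u (a b a' b' : K), Iso u → star a = a → star b = b → star a' = a' → star b' = b' →
    zt e τ u (a + a') (b + b') = zt e τ u a b * zt e τ u a' b'
  zt_t : ∀ u (a b : K), Iso u → star a = a → star b = b →
    t * zt e τ u a b * t⁻¹ = zt e τ u (a + b) b
  zconj : ∀ g u (a b : K), Iso u → star a = a → e g * zt e τ u a b * (e g)⁻¹ = zt e τ (ac g u) a b
  zsmul : ∀ (c : K) u (a b : K), Iso u → star b = b →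
    zt e τ (c • u) a b = zt e τ u (nm c * a) (nm c * b)
  zinj : ∀ u (a b : K), u ≠ 0 → Iso u → star a = a → star b = b → zt e τ u a b = 1 → a = 0 ∧ b = 0
  zdis : ∀ u v z, Iso u → Iso v → Li u v → InZ e τ u z → InZ e τ v z → z = 1
  sig_self : ∀ (a : K) u, Iso u → sig τ (a • u) u = zt e τ u 0 (tr a)
  zcl : ∀ u z, Iso u → InZ e τ u z → Cl e t τ u z 0 0
  rigid : ∀ u k, u ≠ 0 → Iso u → Cl e t τ u k 0 0 → InZ e τ u k
  mul : ∀ u k k' y₁ y₂ y₁' y₂', Iso u → Cl e t τ u k y₁ y₂ → Cl e t τ u k' y₁' y₂' →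
    Cl e t τ u (k * k') (y₁ + y₁') (y₂ + y₂')
  inv : ∀ u k y₁ y₂, Iso u → Cl e t τ u k y₁ y₂ → Cl e t τ u k⁻¹ y₁ y₂
  shift : ∀ u k y₁ y₂ (a b : K), Iso u → Cl e t τ u k y₁ y₂ → Cl e t τ u k (y₁ + a • u) (y₂ + b • u)
  cl_e : ∀ u x c, Ok u x c → Cl e t τ u (e (EE u x c)) x 0
  cl_s : ∀ u v, Pp u v → Cl e t τ u (sig τ v u) 0 v
  exist : ∀ u y₁ y₂, Iso u → hf y₁ u = 0 → hf y₂ u = 0 → ∃ k, Cl e t τ u k y₁ y₂
  conj_e : ∀ g u k y₁ y₂, Iso u → Cl e t τ u k y₁ y₂ →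
    Cl e t τ (ac g u) (e g * k * (e g)⁻¹) (ac g y₁) (ac g y₂)
  conj_t : ∀ u k y₁ y₂, Iso u → Cl e t τ u k y₁ y₂ → Cl e t τ u (t * k * t⁻¹) (y₁ + y₂) y₂
  scale : ∀ (c : K) u k y₁ y₂, c ≠ 0 → Iso u →
    (Cl e t τ (c • u) k y₁ y₂ ↔ Cl e t τ u k (star c • y₁) (star c • y₂))

/-- The commutator map of `Q*_u` (`η² = η + δ`). -/
def CB (δ : K) : Prop := ∀ u k k' y₁ y₂ y₁' y₂', u ≠ 0 → Iso u → Cl e t τ u k y₁ y₂ →
  Cl e t τ u k' y₁' y₂' → cm k k' = zt e τ u (tr (hf y₁ y₁') + δ * tr (hf y₂ y₂'))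
    (tr (hf y₁ y₂') + tr (hf y₂ y₁') + tr (hf y₂ y₂'))

/-- The action of `τ v` on the classes. -/
def CC (δ : K) : Prop := ∀ u v k y₁ y₂, u ≠ 0 → Pp u v → Cl e t τ u k y₁ y₂ →
  Cl e t τ u (τ v * k * (τ v)⁻¹) (y₁ + (δ * hf y₂ v) • v) (y₂ + (hf y₁ v + hf y₂ v) • v)

/-- All of it. -/
structure P3 (δ : K) : Prop where
  ta : TA e t τ
  cl : CL e t τ
  fix : star δ = δ
  cb : CB e t τ δ
  cc : CC e t τ δ

/-- The transvections `Y v u = 1 + v u*` of the big group. -/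
structure YK (Y : Vn n K → Vn n K → G) : Prop where
  add : ∀ u v w, Pp u v → Pp u w → Pp v w → Y (v + w) u = Y v u * Y w u
  scal : ∀ (a : K) u v, Pp u v → Y (a • v) u = Y v (star a • u)
  tc : ∀ u v, Pp u v → t * Y v u * t⁻¹ = Y u v
  ec : ∀ g u v, Pp u v → e g * Y v u * (e g)⁻¹ = Y (ac g v) (ac g u)
  res : ∀ u v, Pp u v → Y v u * Y u v = e (qq v u)
  c1 : ∀ u v w x, Pp u v → Pp w x → hf x u = 0 → hf v w = 0 → hf u w = 0 →
    Y v u * Y x w = Y x w * Y v u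
  m1 : ∀ u v w x, Pp u v → Pp w x → hf v w = 0 → hf u w = 0 → hf v x = 0 →
    cm (Y v u) (Y x w) = Y (hf x u • v) w
  zc : ∀ v (l : List (Vn n K)) g (κ : K), (∀ u ∈ l, Pp u v) → l.sum = 0 → nm κ = 1 →
    ac g v = κ • v → e g * (l.map (Y v)).prod = (l.map (Y v)).prod * e g

/-- Field case: unique fixed point; the elements of `T ∩ M` are conjugate to `t` in `M`. -/
structure GF (Φ : SLn n K →* G) : Prop where
  uf : UF (Ns Φ.range) t
  odd : Odd (Nat.card (Cs Φ.range))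
  ft : ∀ s ∈ Ns Φ.range, IsConj t s →
    ∃ m ∈ Ns Φ.range, (∃ β, Ind Φ m β ∧ SA.out n K β = 1) ∧ s = m * t * m⁻¹

end Amb

/-- A statement for all parameters and all `e`, `t`; all facts may be used. -/
def AllA (P : ∀ (n : ℕ) (K : Type) [Field K] [StarRing K] [CharP K 2] [Finite K] (G : Type u)
    [Group G], (XU n K →* G) → G → Prop) : Prop :=
  ∀ (n : ℕ) (K : Type) [Field K] [StarRing K] [CharP K 2] [Finite K] [Par n K] [FQ K] [FV n K]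
    [FW n K] [FX n K] [FK n K] [GA.Fa (XU n K)] (G : Type u) [Group G] [Finite G]
    (e : XU n K →* G) (t : G), P n K G e t

def JobT1 : Prop := AllA.{u} fun _ _ _ _ _ _ _ _ e t => CH e t → CP e t → ∃ τ, T1 e t τ

def JobTA : Prop := AllA.{u} fun _ _ _ _ _ _ _ _ e t => CH e t → ∀ τ, T1 e t τ → TA e t τ

def JobCL : Prop := AllA.{u} fun _ _ _ _ _ _ _ _ e t => CH e t → ∀ τ, TA e t τ → CL e t τ

def JobCB : Prop := AllA.{u} fun _ _ _ _ _ _ _ _ e t => CH e t → ∀ τ, TA e t τ → CL e t τ →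
  ∃ δ, star δ = δ ∧ CB e t τ δ

def JobCC : Prop := AllA.{u} fun _ _ _ _ _ _ _ _ e t => CH e t → ∀ τ δ, TA e t τ → CL e t τ →
  star δ = δ → CB e t τ δ → CC e t τ δ

def JobYK : Prop := AllA.{u} fun _ K _ _ _ _ _ _ e t => CH e t → ∀ τ δ, P3 e t τ δ →
  ∀ η : K, η ^ 2 + η = δ → star η = η + 1 → ∃ Y, YK e t Y

def JobSF : Prop := AllA.{u} fun n K _ _ _ _ _ _ e t => CH e t → ∀ Y, YK e t Y →
  ∃ Φ, CF e t (io n K) (tau n K) Φ

def JobSW : Prop := AllA.{u} fun _ K _ _ _ _ _ _ e t => CH e t → ∀ τ δ, P3 e t τ δ →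
  ∀ η : K, η ^ 2 + η = δ → star η = η → ∃ e₁ e₂, CW e t e₁ e₂

def JobFU : Prop := AllA.{u} fun n K _ _ _ _ _ _ e t => ∀ Φ, CE e t →
  CF e t (io n K) (tau n K) Φ → GF t Φ

def JobEF : Prop := AllA.{u} fun n K _ _ _ _ G _ e t => ∀ (Φ : SLn n K →* G) (F₀ : Subgroup G),
  CE e t → CF e t (io n K) (tau n K) Φ → GF t Φ → Cfg F₀ e.range t →
    Nonempty (F₀ ≃* ProjectiveSpecialLinearGroup (Fin (n + 1)) K)

end H67.UA
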