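import Cfsg.Agent.H67.UAAmb
import Cfsg.Agent.H67.GAAsm
import Cfsg.Agent.H21.SLMult
import Cfsg.Agent.H55.Transport

/-! STD-UM: the assembly of the slots. -/

set_option autoImplicit false
set_option linter.unusedSectionVars false

namespace H67.UA

open H64.SG (O2 Syl Cz Cs Ns cjs Is2 Inv2 UF IsO2 fx Cfg)
open Matrix H57 Subgroup Cfsg
open H67.SA (SLn Au la)

universe u

/-- All fact slots. -/
structure SlotsF : Prop where
  fq : JobFQ
  fv : JobFV
  fw : JobFW
  fx : JobFX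
  fo : JobFO
  fb : JobFB
  fy : JobFY
  fa : JobFA
  fp : JobFP
  fg : JobFG
  ic : JobIC
  qk : JobQK
  fe1 : JobFE1
  fe : JobFE
  fj : JobFJ
  fd1 : JobFD1
  fd : JobFD
  tr : JobTR
  pd : JobPD
  ff : JobFF
  fh : JobFH
  fk : JobFK

/-- All ambient slots. -/
structure SlotsA : Prop where
  t1 : JobT1.{u}
  ta : JobTA.{u}
  cl : JobCL.{u}
  cb : JobCB.{u}
  cc : JobCC.{u}
  yk : JobYK.{u}
  sf : JobSF.{u}
  sw : JobSW.{u}
  fu : JobFU.{u}
  ef : JobEF.{u}

section Core

variable {n : ℕ} {K : Type} [Field K] [StarRing K] [CharP K 2] [Finite K] [hp : Par n K]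

theorem SlotsF.all (S : SlotsF) : Base n K ∧ FK n K ∧ GA.Fa (XU n K) := by
  have q := S.fq n K
  have v := S.fv n K q
  have w := S.fw n K q v
  have x := S.fx n K q v w
  have o := S.fo n K q v w x
  have b := S.fb n K q v
  have B : Base n K := { q, v, w, x, o, b with }
  have y := S.fy n K B
  have a := S.fa n K B y
  have p := S.fp n K B
  have i := S.ic n K B
  have k := S.qk n K B
  have r := S.tr n K B
  have d := S.pd n K B i k
  have i' : GA.FI (XU n K) := ⟨i.ic, k⟩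
  exact ⟨B, S.fk n K B d, { o, b, a, p, S.fg n K B, S.fe n K B a p k (S.fe1 n K B a p k), i',
    S.fj n K B a i k, S.fd n K B y a (S.fd1 n K B y a), S.ff n K B r, S.fh n K B i r d with }⟩

theorem big [FV n K] : GA.Big (io n K) (tau n K) :=
  have := hp.five
  ⟨SA.perfect (by omega), H21.sl_multCard (by omega) (by omega) (by omega),
    fun N _ => SA.normal_le_center_or (by omega) N, fun s h => (FV.cen' s).2 h⟩

theorem SlotsA.core (S : SlotsA.{u}) [FQ K] [FV n K] [FW n K] [FX n K] [FK n K] [GA.Fa (XU n K)]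
    {G : Type u} [Group G] [Finite G] {F₀ : Subgroup G} {t : G} {e : XU n K →* G}
    (hk : e.ker ≤ center (XU n K)) (h : Cfg F₀ e.range t) :
    Nonempty (F₀ ≃* ProjectiveSpecialLinearGroup (Fin (n + 1)) K) := by
  obtain ⟨ce, Φ, c⟩ := GA.core big (fun G _ _ e t c c' => by
    obtain ⟨τ, t1⟩ := S.t1 n K G e t c c'
    have ta := S.ta n K G e t c τ t1
    have cl := S.cl n K G e t c τ ta
    obtain ⟨δ, d1, cb⟩ := S.cb n K G e t c τ ta cl
    have p : P3 e t τ δ := ⟨ta, cl, d1, cb, S.cc n K G e t c τ δ ta cl d1 cb⟩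
    obtain ⟨η, e1, e2 | e2⟩ := FQ.art δ d1
    · exact Or.inr (S.sw n K G e t c τ δ p η e1 e2)
    · obtain ⟨Y, hY⟩ := S.yk n K G e t c τ δ p η e1 e2
      exact Or.inl (S.sf n K G e t c Y hY)) hk h
  exact S.ef n K G e t Φ F₀ ce c (S.fu n K G e t Φ ce c) h

end Core

/-- The field with `q²` elements and its involution. -/
theorem exists_star {n : ℕ} (hn : 1 ≤ n) :
    ∃ _ : StarRing (GaloisField 2 (2 * n)), Hf (GaloisField 2 (2 * n)) := by
  have hc : Nat.card (GaloisField 2 (2 * n)) = 2 ^ (2 * n) := GaloisField.card 2 _ (by omega)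
  let _ := Fintype.ofFinite (GaloisField 2 (2 * n))
  rw [Nat.card_eq_fintype_card] at hc
  let f := iterateFrobenius (GaloisField 2 (2 * n)) 2 n
  let this : StarRing (GaloisField 2 (2 * n)) :=
    { star := f
      star_involutive := fun a => by
        change (a ^ 2 ^ n) ^ 2 ^ n = a
        rw [← pow_mul, ← pow_add, ← two_mul, ← hc, FiniteField.pow_card]
      star_mul := fun a b => (map_mul f a b).trans (mul_comm _ _)
      star_add := map_add f }
  refine ⟨this, ⟨?_⟩⟩
  · by_contra h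
    push Not at h
    have h1 : 1 < 2 ^ n := Nat.one_lt_two_pow (by omega)
    have h2 := (FiniteField.forall_pow_eq_one_iff (GaloisField 2 (2 * n)) (2 ^ n - 1)).1 fun a => by
      have h3 : (a : GaloisField 2 (2 * n)) ^ 2 ^ n = a := h a
      refine mul_right_cancel (b := a) (Units.ext ?_)
      rw [← pow_succ, Nat.sub_add_cancel h1.le, one_mul, Units.val_pow_eq_pow_val, h3]
    have h4 := Nat.le_of_dvd (by omega) h2
    rw [hc, two_mul, pow_add] at h4
    have : 2 ^ n * 2 ≤ 2 ^ n * 2 ^ n := Nat.mul_le_mul_left _ h1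
    omega

theorem main {G : Type u} [Group G] [Finite G] (SF : SlotsF) (S : SlotsA.{u})
    (hF : IsSimpleGroup ↥(generalizedFittingSubgroup G))
    (hF' : ¬ IsMulCommutative ↥(generalizedFittingSubgroup G)) (L : Subgroup G)
    (hL : IsStandardSubgroup L)
    (hR : ∀ R : Sylow 2 ↥(Subgroup.centralizer (L : Set G)),
      IsCyclic ↥(R : Subgroup ↥(Subgroup.centralizer (L : Set G))))
    (m n : ℕ) (hm : 6 ≤ m) (hn : 1 ≤ n) (hex : ¬ (m = 6 ∧ n = 1))
    {F : Type*} [Field F] [Fintype F] (hFq : Fintype.card F = (2 ^ n) ^ 2)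
    (hLX : Nonempty ((↥L ⧸ oddCore ↥L) ≃* PSU m F (2 ^ n))) :
    ∃ (K : Type) (_ : Field K) (_ : Fintype K), Fintype.card K = (2 ^ n) ^ 2 ∧
      Nonempty (↥(generalizedFittingSubgroup G) ≃* ProjectiveSpecialLinearGroup (Fin m) K) := by
  obtain ⟨ε⟩ := hLX
  obtain ⟨k, rfl⟩ : ∃ k, m = k + 1 := ⟨m - 1, by omega⟩
  obtain ⟨_, hf⟩ := exists_star hn
  have hc : Nat.card (GaloisField 2 (2 * n)) = (2 ^ n) ^ 2 := by
    rw [GaloisField.card 2 _ (by omega), ← pow_mul, mul_comm]
  generalize_proofs at *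
  set K := GaloisField 2 (2 * n)
  have hq : qK K = 2 ^ n := by
    have : Par 6 K := { hf with five := by omega, four := by omega }
    exact Nat.pow_left_injective two_ne_zero ((SF.fq 6 K).card.symm.trans hc)
  have hp : Par k K := { hf with
    five := by omega
    four := fun h => hq ▸ Nat.pow_le_pow_right (n := 2) (i := 2) (j := n) (by omega) (by omega) }
  obtain ⟨B, _, _⟩ := SF.all (n := k) (K := K)
  let _ : Fintype K := Fintype.ofFinite K
  have hK : Fintype.card K = (2 ^ n) ^ 2 := by rw [← Nat.card_eq_fintype_card, hc]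
  obtain ⟨ι⟩ := B.iso
  rw [hq] at ι
  let ε' := ε.trans ((H55.psuCongr (FiniteField.ringEquivOfCardEq (hFq.trans hK.symm)) _ _).trans
    (H55.quotCenterCongr ι.symm))
  let π : L →* XU k K ⧸ center (XU k K) := ε'.toMonoidHom.comp (QuotientGroup.mk' _)
  have πs : Function.Surjective π := ε'.surjective.comp (QuotientGroup.mk'_surjective _)
  obtain ⟨e, hk, he⟩ := GA.exists_e hL.1 π πs ((H14.quasi_normal hL.1 π.ker).resolve_left fun h => by
    obtain ⟨l, hl⟩ := πs (GA.xk (XU k K) 1)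
    have h1 := GA.inv2_xk (X := XU k K) GA.rg1
    exact h1.2 (GA.eq_one_of_center ((QuotientGroup.eq_one_iff _).1
      (hl.symm.trans (h ▸ mem_top l : l ∈ π.ker))) (H64.SG.is2_of_sq h1.1)))
  obtain ⟨H, t, h1, h2, cfg⟩ := SA.exists_cfg hF hF' L hL hR
  let e' := e.codRestrict H fun s => h1 (he ▸ ⟨s, rfl⟩)
  have he' : e'.range = L.subgroupOf H := Subgroup.ext fun g => by
    rw [mem_subgroupOf, ← he]
    exact ⟨fun ⟨s, hs⟩ => ⟨s, congrArg Subtype.val hs⟩, fun ⟨s, hs⟩ => ⟨s, Subtype.ext hs⟩⟩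
  obtain ⟨k2⟩ := S.core (e := e') (fun s hs => hk (congrArg Subtype.val hs)) (he' ▸ cfg)
  exact ⟨K, _, ‹_›, hK, ⟨(subgroupOfEquivOfLe h2).symm.trans k2⟩⟩

end H67.UA
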