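import Cfsg.Agent.H67.UAAsm
import Cfsg.Agent.H67.UACB
import Cfsg.Agent.H81.UACL
import Cfsg.Agent.H81.UAYK
import Cfsg.Agent.H81.UASF
import Cfsg.Agent.H81.UASW
import Cfsg.Agent.H66.UAFU
import Cfsg.Agent.H66.UAEF

/-! STD-UM: the ambient slots are filled. -/

set_option autoImplicit false

namespace H67.UA

universe u

theorem slotsA : SlotsA.{u} :=
  ⟨jobT1, jobTA, H81.UAC.jobCL, jobCB, jobCC, H81.UAW.jobYK, H81.UAF.jobSF, H81.UAW.jobSW,
    H66.UAF.jobFU, H66.UAF.jobEF⟩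

end H67.UA
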